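import Cfsg.Agent.Mrg.Omega.ML.LieTwF4
import Cfsg.Agent.Mrg.Omega.HOneTwo.BSTrick
import Cfsg.Agent.ZN.Facts
import Cfsg.Agent.Involutions.BaerSuzuki
import Mathlib.Algebra.BigOperators.Intervals

section


/-!
# THEOREM QW (helper866, #24897), steps (2'), (2), (3)

The quiet weird `Y` of the case (L), `q = 2`.  `M` is a 2-local over `S`, `Z_M = ⟨Z^M⟩ = zl S M`, `Z = ⟨z⟩`.

* `Tv N c w` : `w` induces `1` or the transvection with centre `c` on `N`;
* `false_of_tv` : the Baer-Suzuki argument of (2);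
* `le_o2` : **(2')** `W_e ≤ O₂(C_G(z z_e))`;
* `cent_zl` : **(2)** `Z_M` centralises `U` ((ML) and `false_of_tv`);
* `le_o2_M` : **(3)** `U ≤ O₂(M)`.
-/

set_option autoImplicit false

namespace Cfsg.Agent.Omega.NO3S.CaseLW.QW

open Subgroup Cfsg Cfsg.Agent.ZN Cfsg.Agent.Omega.MinPar
open Cfsg.Agent.MinSimple.VModule (o2_isPGroup)
open Cfsg.Agent.Omega.HOne.TvHSide (le_normalizer_of le_normalizer_inf_centralizer red_of)
open Cfsg.Agent.Omega.ML.Final (MLK)
open Cfsg.Agent.Omega.ML.GMod (ZD)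

universe u

variable {G : Type u} [Group G]

/-- `w` induces `1` or the transvection with centre `c` on `N`. -/
structure Tv (N : Subgroup G) (c w : G) : Prop where
  tv : ∀ x ∈ N, w * x * w⁻¹ = x ∨ w * x * w⁻¹ = x * c
  cc : w * c = c * w

/-- `(a b)^4` centralises `N` if the centre of `b` lies in the axis of `a`. -/
theorem pow_four {N : Subgroup G} (hsq : ∀ x ∈ N, x * x = 1) (hcm : ∀ x ∈ N, ∀ y ∈ N, x * y = y * x)
    {a b c d : G} (hc : c ∈ N) (hd : d ∈ N) (ha : Tv N c a) (hb : Tv N d b) (had : a * d = d * a) :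
    (a * b) ^ 4 ∈ centralizer (N : Set G) := by
  set f := MulAut.conj (a * b) with hf
  have e1 : ∀ n : G, f n = a * (b * n * b⁻¹) * a⁻¹ := fun n => by
    rw [hf, MulAut.conj_apply]; group
  have had' : a * d * a⁻¹ = d := by rw [had, mul_assoc, mul_inv_cancel, mul_one]
  have hac' : a * c * a⁻¹ = c := by rw [ha.cc, mul_assoc, mul_inv_cancel, mul_one]
  have hbd' : b * d * b⁻¹ = d := by rw [hb.cc, mul_assoc, mul_inv_cancel, mul_one]
  have hmul : ∀ x y : G, a * (x * y) * a⁻¹ = (a * x * a⁻¹) * (a * y * a⁻¹) := fun x y => by group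
  have hfd : f d = d := by rw [e1, hbd', had']
  have hfc : f c = c ∨ f c = c * d := by
    rw [e1]
    rcases hb.tv c hc with h1 | h1
    · rw [h1]; exact Or.inl hac'
    · rw [h1, hmul, hac', had']; exact Or.inr rfl
  have hn : ∀ n ∈ N, f n = n ∨ f n = n * c ∨ f n = n * d ∨ f n = n * c * d := by
    intro n hn
    rw [e1]
    rcases hb.tv n hn with h1 | h1
    · rw [h1]
      rcases ha.tv n hn with h2 | h2
      · exact Or.inl h2
      · exact Or.inr (Or.inl h2)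
    · rw [h1, hmul, had']
      rcases ha.tv n hn with h2 | h2
      · rw [h2]; exact Or.inr (Or.inr (Or.inl rfl))
      · rw [h2]; exact Or.inr (Or.inr (Or.inr rfl))
  have k1 : ∀ x : G, x * c * c = x := fun x => by rw [mul_assoc, hsq c hc, mul_one]
  have k2 : ∀ x : G, x * d * d = x := fun x => by rw [mul_assoc, hsq d hd, mul_one]
  have k3 : ∀ x : G, x * d * c = x * c * d := fun x => by rw [mul_assoc, hcm d hd c hc, ← mul_assoc]
  have h2 : ∀ n ∈ N, f (f n) = n ∨ f (f n) = n * d := by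
    intro n hnN
    rcases hn n hnN with h1 | h1 | h1 | h1
    · rw [h1, h1]; exact Or.inl rfl
    · rw [h1, map_mul, h1]
      rcases hfc with h2 | h2
      · rw [h2, k1]; exact Or.inl rfl
      · rw [h2, ← mul_assoc, k1]; exact Or.inr rfl
    · rw [h1, map_mul, h1, hfd, k2]; exact Or.inl rfl
    · rw [h1, map_mul, map_mul, h1, hfd]
      rcases hfc with h2 | h2
      · rw [h2, k3, k1, k2]; exact Or.inl rfl
      · rw [h2, ← mul_assoc, k3, k1, k2]; exact Or.inr rfl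
  have h4 : ∀ n ∈ N, f (f (f (f n))) = n := by
    intro n hnN
    rcases h2 n hnN with h3 | h3
    · rw [h3, h3]
    · rw [h3, map_mul, map_mul, hfd, hfd, h3, mul_assoc, hsq d hd, mul_one]
  refine mem_centralizer_iff.2 fun n hnN => ?_
  have h5 : (MulAut.conj ((a * b) ^ 4)) n = n := by
    rw [map_pow, pow_succ, pow_succ, pow_succ, pow_one]
    exact h4 n hnN
  rw [MulAut.conj_apply, mul_inv_eq_iff_eq_mul] at h5
  exact h5.symm

/-- two involutions in a common 2-group -/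
theorem common' {A : Subgroup G} {u w : G} (hA : IsPGroup 2 A) (hu : u ∈ A) (hww : w * w = 1)
    (hAn : ∀ a ∈ A, w * a * w⁻¹ ∈ A) : ∃ k : ℕ, (u * w) ^ 2 ^ k = 1 := by
  have h1 : zpowers w ≤ normalizer (A : Set G) := by
    rw [zpowers_le, mem_normalizer_iff]
    intro x
    refine ⟨fun hx => hAn x hx, fun hx => ?_⟩
    have hwi : w⁻¹ = w := inv_eq_of_mul_eq_one_left hww
    have h2 := hAn _ hx
    have e : w * (w * x * w⁻¹) * w⁻¹ = (w * w) * x * (w⁻¹ * w⁻¹) := by group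
    rw [e, hwi, hww, one_mul, mul_one] at h2
    exact h2
  have h2 : IsPGroup 2 (zpowers w) := MinSimple.Basic.isPGroup_zpowers (by rw [sq]; exact hww)
  have h3 := IsPGroup.to_sup_of_normal_right' h2 hA h1
  obtain ⟨k, hk⟩ := h3 ⟨u * w, mul_mem (mem_sup_right hu) (mem_sup_left (mem_zpowers w))⟩
  exact ⟨k, congrArg Subtype.val hk⟩

section fin

variable [Finite G]

/-- **Baer-Suzuki for an involution of `H` acting on `NN`**, strong form. -/
theorem exists_odd {H NN : Subgroup G} (hNH : H ≤ normalizer (NN : Set G))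
    (hred : ∀ K : Subgroup G, K ≤ H → H ≤ normalizer (K : Set G) →
      (∀ x ∈ K, ∃ k : ℕ, x ^ 2 ^ k ∈ centralizer (NN : Set G)) → K ≤ centralizer (NN : Set G))
    {u : G} (hu : u ∈ H) (huu : u * u = 1) (hun : u ∉ centralizer (NN : Set G)) :
    ∃ h ∈ H, ∀ k : ℕ, (u * (h * u * h⁻¹)) ^ 2 ^ k ∉ centralizer (NN : Set G) := by
  have hCH := le_normalizer_inf_centralizer hNH
  set C : Subgroup G := H ⊓ centralizer (NN : Set G) with hC
  have hn : (C.subgroupOf H).Normal := normal_subgroupOf_of_le_normalizer hCH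
  set f := QuotientGroup.mk' (C.subgroupOf H) with hf
  have hf1 : ∀ y : H, f y = 1 ↔ (y : G) ∈ C := by
    intro y
    exact QuotientGroup.eq_one_iff (N := C.subgroupOf H) y
  set a := f ⟨u, hu⟩ with ha
  have haa : a * a = 1 := by
    rw [ha, ← map_mul]
    have : (⟨u, hu⟩ : H) * ⟨u, hu⟩ = 1 := Subtype.ext huu
    rw [this, map_one]
  obtain ⟨g, hg1, hgo, hgi⟩ := Involutions.BaerSuzuki.exists_odd_inverted a haa (by
    intro h1
    have h2 := hred (((normalClosure {a}).comap f).map H.subtype) (map_subtype_le _) ?_ ?_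
    · have h3 : u ∈ ((normalClosure {a}).comap f).map H.subtype :=
        ⟨⟨u, hu⟩, subset_normalClosure rfl, rfl⟩
      exact hun (h2 h3)
    · refine le_normalizer_of ?_
      rintro x hx _ ⟨y, hy, rfl⟩
      refine ⟨⟨x, hx⟩ * y * ⟨x, hx⟩⁻¹, ?_, rfl⟩
      change f _ ∈ normalClosure {a}
      rw [map_mul, map_mul, map_inv]
      exact normalClosure_normal.conj_mem _ hy _
    · rintro _ ⟨y, hy, rfl⟩
      obtain ⟨k, hk⟩ := h1 ⟨f y, hy⟩
      refine ⟨k, ?_⟩
      have h2 : f (y ^ 2 ^ k) = 1 := by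
        rw [map_pow]
        exact congrArg Subtype.val hk
      exact ((hf1 _).1 h2).2)
  obtain ⟨⟨h, hh⟩, rfl⟩ := QuotientGroup.mk'_surjective (C.subgroupOf H) g
  refine ⟨h, hh, fun k hk' => hg1 ?_⟩
  have hainv : a⁻¹ = a := inv_eq_of_mul_eq_one_left haa
  have h3 : f ((⟨u, hu⟩ : H) * (⟨h, hh⟩ * ⟨u, hu⟩ * ⟨h, hh⟩⁻¹)) = (f ⟨h, hh⟩)⁻¹ ^ 2 := by
    rw [map_mul, map_mul, map_mul, map_inv, ← ha]
    change a * (f ⟨h, hh⟩ * a * (f ⟨h, hh⟩)⁻¹) = _
    calc a * (f ⟨h, hh⟩ * a * (f ⟨h, hh⟩)⁻¹) = a * f ⟨h, hh⟩ * a * (f ⟨h, hh⟩)⁻¹ := by group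
      _ = a * f ⟨h, hh⟩ * a⁻¹ * (f ⟨h, hh⟩)⁻¹ := by rw [hainv]
      _ = (f ⟨h, hh⟩)⁻¹ * (f ⟨h, hh⟩)⁻¹ := by rw [hgi]
      _ = _ := by rw [sq]
  have h4 : f (((⟨u, hu⟩ : H) * (⟨h, hh⟩ * ⟨u, hu⟩ * ⟨h, hh⟩⁻¹)) ^ 2 ^ k) = 1 := by
    refine (hf1 _).2 ⟨?_, ?_⟩
    · exact Subtype.prop _
    · exact hk'
  have h5 : (f ⟨h, hh⟩) ^ 2 ^ (k + 1) = 1 := by
    rw [map_pow, h3, ← pow_mul, inv_pow, inv_eq_one] at h4
    rw [pow_succ, mul_comm]
    exact h4
  have h6 : orderOf (f ⟨h, hh⟩) ∣ 2 ^ (k + 1) := orderOf_dvd_of_pow_eq_one h5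
  have h7 : Nat.Coprime (orderOf (f ⟨h, hh⟩)) (2 ^ (k + 1)) :=
    Nat.Coprime.pow_right _ (Nat.coprime_two_right.2 hgo)
  exact orderOf_eq_one_iff.1 (h7.eq_one_of_dvd h6)

/-- **The Baer-Suzuki argument of (2).** -/
theorem false_of_tv {M N : Subgroup G} (hMN : M ≤ normalizer (N : Set G)) (hsq : ∀ x ∈ N, x * x = 1)
    (hred : ∀ K : Subgroup G, K ≤ M → M ≤ normalizer (K : Set G) →
      (∀ x ∈ K, ∃ k : ℕ, x ^ 2 ^ k ∈ centralizer (N : Set G)) → K ≤ centralizer (N : Set G))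
    {w c z : G} (hw : w ∈ M) (hww : w * w = 1) (hwn : w ∉ centralizer (N : Set G)) (hT : Tv N c w) (hz : z ∈ N)
    {A A' : Subgroup G} (hA : IsPGroup 2 A) (hwA : w ∈ A)
    (hAn : ∀ x ∈ M, x * z = z * x → ∀ a ∈ A, x * a * x⁻¹ ∈ A)
    (hA' : IsPGroup 2 A') (hwA' : w ∈ A')
    (hAn' : ∀ x ∈ M, x * (z * c) = z * c * x → ∀ a ∈ A', x * a * x⁻¹ ∈ A') : False := by
  have hcm : ∀ x ∈ N, ∀ y ∈ N, x * y = y * x := by
    intro x hx y hy
    have h1 := hsq _ (N.mul_mem hx hy)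
    have h2 : x⁻¹ = x := inv_eq_of_mul_eq_one_left (hsq x hx)
    have h3 : y⁻¹ = y := inv_eq_of_mul_eq_one_left (hsq y hy)
    have h4 : (x * y)⁻¹ = x * y := inv_eq_of_mul_eq_one_left h1
    rw [mul_inv_rev, h2, h3] at h4
    exact h4.symm
  have hc : c ∈ N := by
    by_contra hcN
    apply hwn
    refine mem_centralizer_iff.2 fun n hn => ?_
    rcases hT.tv n hn with h1 | h1
    · rw [mul_inv_eq_iff_eq_mul] at h1
      exact h1.symm
    · exfalso
      apply hcN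
      have h2 : w * n * w⁻¹ ∈ N := (mem_normalizer_iff.1 (hMN hw) n).1 hn
      rw [h1] at h2
      have h3 := N.mul_mem (N.inv_mem hn) h2
      rwa [inv_mul_cancel_left] at h3
  obtain ⟨h, hh, hk⟩ := exists_odd hMN hred hw hww hwn
  set v := h * w * h⁻¹ with hv
  set d := h * c * h⁻¹ with hd
  have hdN : d ∈ N := (mem_normalizer_iff.1 (hMN hh) c).1 hc
  have hvM : v ∈ M := M.mul_mem (M.mul_mem hh hw) (M.inv_mem hh)
  have hvv : v * v = 1 := by
    rw [hv]
    calc h * w * h⁻¹ * (h * w * h⁻¹) = h * (w * w) * h⁻¹ := by group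
      _ = 1 := by rw [hww, mul_one, mul_inv_cancel]
  have hTv : Tv N d v := by
    constructor
    · intro x hx
      have h1 : h⁻¹ * x * h ∈ N := by
        have := (mem_normalizer_iff.1 (hMN (M.inv_mem hh)) x).1 hx
        rwa [inv_inv] at this
      have e : v * x * v⁻¹ = h * (w * (h⁻¹ * x * h) * w⁻¹) * h⁻¹ := by rw [hv]; group
      rcases hT.tv _ h1 with h2 | h2
      · left
        rw [e, h2]; group
      · right
        rw [e, h2, hd]; group
    · rw [hv, hd]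
      calc h * w * h⁻¹ * (h * c * h⁻¹) = h * (w * c) * h⁻¹ := by group
        _ = h * (c * w) * h⁻¹ := by rw [hT.cc]
        _ = _ := by group
  have hwi : w⁻¹ = w := inv_eq_of_mul_eq_one_left hww
  have hvi : v⁻¹ = v := inv_eq_of_mul_eq_one_left hvv
  -- `v` moves `c`
  have hvc : ¬ v * c = c * v := by
    intro h1
    have h2 := pow_four hsq hcm hdN hc hTv hT h1
    apply hk 2
    have h3 : (w * v) ^ 4 = ((v * w) ^ 4)⁻¹ := by
      rw [← inv_pow, mul_inv_rev, hwi, hvi]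
    change (w * v) ^ 4 ∈ _
    rw [h3]
    exact inv_mem h2
  -- `v` moves `z`
  have hvz : ¬ v * z = z * v := by
    intro h1
    obtain ⟨k, hk1⟩ := common' hA hwA hvv (hAn v hvM h1)
    apply hk k
    rw [hk1]
    exact one_mem _
  have e1 : v * z * v⁻¹ = z * d := by
    rcases hTv.tv z hz with h1 | h1
    · exact absurd ((mul_inv_eq_iff_eq_mul).1 h1) hvz
    · exact h1
  have e2 : v * c * v⁻¹ = c * d := by
    rcases hTv.tv c hc with h1 | h1
    · exact absurd ((mul_inv_eq_iff_eq_mul).1 h1) hvc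
    · exact h1
  have e3 : v * (z * c) = z * c * v := by
    rw [← mul_inv_eq_iff_eq_mul]
    calc v * (z * c) * v⁻¹ = (v * z * v⁻¹) * (v * c * v⁻¹) := by group
      _ = z * d * (c * d) := by rw [e1, e2]
      _ = z * (d * c) * d := by group
      _ = z * (c * d) * d := by rw [hcm d hdN c hc]
      _ = z * c * (d * d) := by group
      _ = z * c := by rw [hsq d hdN, mul_one]
  obtain ⟨k, hk1⟩ := common' hA' hwA' hvv (hAn' v hvM e3)
  apply hk k
  rw [hk1]
  exact one_mem _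

omit [Finite G] in
theorem o2_conj_mem {L : Subgroup G} {g a : G} (hg : g ∈ L) (ha : a ∈ o2 L) : g * a * g⁻¹ ∈ o2 L :=
  (mem_normalizer_iff.1 (MinSimple.VModule.le_normalizer_o2 L hg) a).1 ha

omit [Finite G] in
/-- **(2')** `W_e ≤ O₂(C_G(z z_e))`: `B = C_S(Z_J)` is normal in every 2-group over it, `N_G(B) ≤ C_G(z)`, `B ≤ C(z_e)`,
the elements of `W_e` are conjugate to `z_e` in `C_G(z z_e)`. -/
theorem le_o2 (hG : IsCharacteristicTwoType G) {B : Subgroup G} (hB : IsPGroup 2 B)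
    (wc : ∀ R : Subgroup G, IsPGroup 2 R → B ≤ R → R ≤ normalizer (B : Set G))
    {z e : G} (hz : z * z = 1) (he : e * e = 1) (hze : z * e = e * z) (hne : z ≠ e)
    (nz : ∀ g ∈ normalizer (B : Set G), g * z = z * g) (Be : ∀ b ∈ B, b * e = e * b)
    {W : Subgroup G} (hW : ∀ w ∈ W, w ≠ 1 → ∃ g : G, g * (z * e) = z * e * g ∧ w = g * e * g⁻¹) :
    W ≤ o2 (centralizer ({z * e} : Set G)) := by
  set H := centralizer ({z * e} : Set G) with hH
  have hze2 : (z * e) ^ 2 = 1 := by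
    rw [sq]
    calc z * e * (z * e) = z * (e * z) * e := by group
      _ = z * (z * e) * e := by rw [hze]
      _ = (z * z) * (e * e) := by group
      _ = 1 := by rw [hz, he, mul_one]
  have hze1 : z * e ≠ 1 := by
    intro h1
    apply hne
    have h2 : z = e⁻¹ := eq_inv_of_mul_eq_one_left h1
    rw [h2]
    exact inv_eq_of_mul_eq_one_left he
  have hBH : B ≤ H := by
    intro b hb
    rw [hH, mem_centralizer_singleton_iff]
    rw [← mul_assoc, nz b (le_normalizer hb), mul_assoc, Be b hb, mul_assoc]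
  have h1 : IsPGroup 2 (B ⊔ o2 H : Subgroup G) :=
    IsPGroup.to_sup_of_normal_right' hB (o2_isPGroup H) (hBH.trans (MinSimple.VModule.le_normalizer_o2 H))
  have h2 : o2 H ≤ normalizer (B : Set G) := le_sup_right.trans (wc _ h1 le_sup_left)
  have heH : e ∈ H := by
    rw [hH, mem_centralizer_singleton_iff]
    rw [← mul_assoc, ← hze, mul_assoc]
  have he1 : e ∈ o2 H := by
    refine MinSimple.Basic.char2_centralizer hG hze2 hze1 ⟨heH, mem_centralizer_iff.2 fun x hx => ?_⟩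
    have h3 : x * z = z * x := nz x (h2 hx)
    have h4 : x * (z * e) = z * e * x := (mem_centralizer_singleton_iff.1 (o2_le H hx))
    rw [← mul_assoc, h3, mul_assoc, mul_assoc] at h4
    exact mul_left_cancel h4
  intro w hw
  by_cases hw1 : w = 1
  · rw [hw1]; exact one_mem _
  · obtain ⟨g, hg, rfl⟩ := hW w hw hw1
    exact o2_conj_mem (mem_centralizer_singleton_iff.2 hg) he1

omit [Finite G] in
theorem zl_le_closure (S M : Subgroup G) : zl S M ≤ closure {x | ∃ g ∈ M, ∃ z ∈ (zc S : Set G), g * z * g⁻¹ = x} := by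
  refine iSup_le fun g => ?_
  rintro _ ⟨x, hx, rfl⟩
  exact subset_closure ⟨g, g.2, x, hx, rfl⟩

variable (S : Sylow 2 G) {M : Subgroup G}

/-- `Q_Z ≤ O₂(C_M(Z))` -/
theorem oz_le (hM : (S : Subgroup G) ≤ M) (hS : (S : Subgroup G) ≠ ⊥) :
    o2 (centralizer (zc (S : Subgroup G) : Set G)) ≤ o2 (M ⊓ centralizer (zc (S : Subgroup G) : Set G)) := by
  refine MinSimple.VModule.le_o2 (le_inf (((isLoc_centralizer_zc S hS).o2_le S).trans hM) (o2_le _)) (o2_isPGroup _)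
    (inf_le_right.trans (MinSimple.VModule.le_normalizer_o2 _))

/-- `Z_M` is 2-reduced. -/
theorem red_zl (h : (S : Subgroup G) ≤ M) (K : Subgroup G) (hKM : K ≤ M) (hMK : M ≤ normalizer (K : Set G))
    (hK : ∀ x ∈ K, ∃ k : ℕ, x ^ 2 ^ k ∈ centralizer (zl (S : Subgroup G) M : Set G)) :
    K ≤ centralizer (zl (S : Subgroup G) M : Set G) :=
  red_of (Z₀ := (zc (S : Subgroup G) : Set G)) h S.isPGroup' (MinSimple.Basic.not_dvd_relIndex S h)
    (fun x hx _ hz => (ChoiceBase.mem_zc.1 hz).2.2 x hx) (le_normalizer_zl _ _)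
    (MinSimple.VModule.zc_le_zl _ _) (zl_le_closure _ _) K hKM hMK hK

/-- **(2)** `Z_M` centralises `U ≤ O₂(C_M(Z))`. -/
theorem cent_zl (hG : IsCharacteristicTwoType G) (ml : MLK.{u, u}) (h : IsLoc (S : Subgroup G) M) (hK : IsKGroup M)
    {z : G} (hz : z ∈ zc (S : Subgroup G)) (hu : ∀ x ∈ zc (S : Subgroup G), x ≠ 1 → x = z)
    {U : Subgroup G} (hU2 : ∀ x ∈ U, x * x = 1)
    (hUO : U ≤ o2 (M ⊓ centralizer (zc (S : Subgroup G) : Set G)))
    (hex : (centralizer (zl (S : Subgroup G) M : Set G)).relIndex U ≤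
        (centralizer (U : Set G)).relIndex (zl (S : Subgroup G) M) →
      ¬ U ≤ centralizer (zl (S : Subgroup G) M : Set G) →
        ∃ w ∈ U, ∃ c : G, w ∉ centralizer (zl (S : Subgroup G) M : Set G) ∧ Tv (zl (S : Subgroup G) M) c w ∧
          w ∈ o2 (centralizer ({z * c} : Set G))) :
    U ≤ centralizer (zl (S : Subgroup G) M : Set G) := by
  by_contra hn
  have hsq : ∀ v ∈ zl (S : Subgroup G) M, v * v = 1 := fun v hv => by
    have h1 := (ChoiceBase.mem_zc.1 (IsLoc.zl_le S hG h hv)).2.1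
    rwa [sq] at h1
  have D : ZD M (zl (S : Subgroup G) M) (zc (S : Subgroup G)) (S : Subgroup G) U :=
    { nV := le_normalizer_zl _ _
      sq := hsq
      ZV := MinSimple.VModule.zc_le_zl _ _
      gen := fun X h1 h2 => MinSimple.VModule.zl_le h1 h2
      TL := h.le
      two := S.isPGroup'
      odd := MinSimple.Basic.not_dvd_relIndex S h.le
      TZ := le_centralizer_zc _
      AO := hUO
      Asq := fun a ha => by rw [hU2 a ha]; exact one_mem _ }
  obtain ⟨w, hw, c, hwn, hT, hwo⟩ := hex (D.gml ml hK) hn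
  have hzl : z ∈ zl (S : Subgroup G) M := MinSimple.VModule.zc_le_zl _ _ hz
  refine false_of_tv (le_normalizer_zl _ _) hsq (red_zl S h.le) (((hUO.trans (o2_le _)).trans inf_le_left) hw)
    (hU2 w hw) hwn hT hzl (o2_isPGroup _) (hUO hw) ?_ (o2_isPGroup _) hwo ?_
  · intro x hx hxz a ha
    refine o2_conj_mem ⟨hx, mem_centralizer_iff.2 fun y hy => ?_⟩ ha
    by_cases hy1 : y = 1
    · rw [hy1, one_mul, mul_one]
    · rw [hu y hy hy1]; exact hxz.symm
  · intro x _ hxz a ha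
    exact o2_conj_mem (mem_centralizer_singleton_iff.2 hxz) ha

/-- **(3)** `U ≤ O₂(M)`. -/
theorem le_o2_M (h : (S : Subgroup G) ≤ M) (hS : (S : Subgroup G) ≠ ⊥) {U : Subgroup G}
    (hU : U ≤ centralizer (zl (S : Subgroup G) M : Set G))
    (hUQ : U ≤ o2 (centralizer (zc (S : Subgroup G) : Set G))) : U ≤ o2 M := by
  have hQM : o2 (centralizer (zc (S : Subgroup G) : Set G)) ≤ M := ((isLoc_centralizer_zc S hS).o2_le S).trans h
  set Q := o2 (centralizer (zc (S : Subgroup G) : Set G)) with hQ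
  set C := M ⊓ centralizer (zl (S : Subgroup G) M : Set G) with hC
  have hCz : C ≤ centralizer (zc (S : Subgroup G) : Set G) :=
    inf_le_right.trans (centralizer_le (MinSimple.VModule.zc_le_zl _ _))
  have hMC : M ≤ normalizer (C : Set G) := le_normalizer_inf_centralizer (le_normalizer_zl _ _)
  have h1 : Q ⊓ C ≤ o2 C := by
    refine MinSimple.VModule.le_o2 inf_le_right ((o2_isPGroup _).to_le inf_le_left) ?_
    refine le_normalizer_of fun a ha b hb => ⟨?_, C.mul_mem (C.mul_mem ha hb.2) (C.inv_mem ha)⟩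
    exact o2_conj_mem (hCz ha) hb.1
  have h2 : o2 C ≤ o2 M :=
    MinSimple.VModule.le_o2 ((o2_le _).trans inf_le_left) (o2_isPGroup _)
      (hMC.trans (normalizer_le_normalizer_o2 C))
  exact fun x hx => h2 (h1 ⟨hUQ hx, hQM (hUQ hx), hU hx⟩)

end fin

end Cfsg.Agent.Omega.NO3S.CaseLW.QW

end

section


/-!
# THEOREM QW for every `q`, line (2): the odd-order lemma (helper276)

`H` normalises the elementary abelian 2-group `N` (additively a module), `O₂(H/C_H(N)) = 1`, `u ∈ H` is an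
involution, `z ∈ C_N(u)`.  If `u` moves `N`, then Baer-Suzuki gives a conjugate `w = h u h⁻¹` (`h ∈ H`) with
`⟨u, w⟩` no 2-group and `h` inverted by `u` and of odd order modulo `C_H(N)`.  The norm `z_c := ∏ h^i z h^-i`
is fixed by `u` and `w`, and `z_c ∈ z [N, u]`.

* `exists_avg` : `∃ c ∈ C, z c` commutes with `u` and `h` (`C` = any subgroup with `n (u n u⁻¹) ∈ C`, `n ∈ N`);
* `exists_conj_avg` : the above together with Baer-Suzuki;
* `le_cent` : if for all `c ∈ C` some 2-group normalised by `C_G(z c)` contains `u`, then `u` centralises `N`.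

No transvections, no field: the same lemma serves `q = 2`, `q ≥ 4` and `S_n`.
-/

set_option autoImplicit false

namespace Cfsg.Agent.Omega.NO3S.CaseLW.Odd

open Subgroup Cfsg

universe u

/-- the norm, in a commutative group -/
theorem avg {A : Type*} [CommGroup A] (U H : A →* A) (hUHUH : ∀ x, U (H (U (H x))) = x)
    (hUU : ∀ x, U (U x) = x) {m : ℕ} (hm : ∀ x, H^[2 * m + 1] x = x) {z : A} (hz : U z = z)
    (D : Subgroup A) (hD : ∀ x, x * U x ∈ D) : ∃ c ∈ D, U (z * c) = z * c ∧ H (z * c) = z * c := by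
  have hHU : ∀ x, H (U (H x)) = U x := by
    intro x
    have h1 := hUU (H (U (H x)))
    rw [hUHUH] at h1
    exact h1.symm
  have hiter : ∀ (i : ℕ) (x : A), H^[i] (U (H^[i] x)) = U x := by
    intro i
    induction i with
    | zero => intro x; rfl
    | succ i ih =>
      intro x
      rw [Function.iterate_succ_apply' H i x, Function.iterate_succ_apply H i, hHU, ih]
  have hUx : ∀ i, i ≤ 2 * m + 1 → U (H^[i] z) = H^[2 * m + 1 - i] z := by
    intro i hi
    have h1 := hm (U (H^[i] z))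
    have e : H^[2 * m + 1] (U (H^[i] z)) = H^[2 * m + 1 - i] (H^[i] (U (H^[i] z))) := by
      rw [← Function.iterate_add_apply, Nat.sub_add_cancel hi]
    rw [← h1, e, hiter, hz]
  refine ⟨∏ i ∈ Finset.range m, (H^[i + 1] z * U (H^[i + 1] z)), ?_, ?_, ?_⟩
  · exact D.prod_mem fun i _ => hD _
  · rw [map_mul, hz, map_prod]
    congr 1
    refine Finset.prod_congr rfl fun i _ => ?_
    rw [map_mul, hUU, mul_comm]
  · set s := ∏ j ∈ Finset.range (2 * m + 1), H^[j] z with hs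
    have hs1 : z * ∏ i ∈ Finset.range m, (H^[i + 1] z * U (H^[i + 1] z)) = s := by
      rw [hs, Finset.prod_range_succ', Finset.prod_mul_distrib, mul_comm]
      have e0 : H^[0] z = z := rfl
      rw [e0]
      congr 1
      rw [two_mul, Finset.prod_range_add]
      congr 1
      rw [← Finset.prod_range_reflect]
      refine Finset.prod_congr rfl fun i hi => ?_
      have hi' := Finset.mem_range.1 hi
      rw [hUx _ (by omega)]
      congr 2
      omega
    rw [hs1, hs, map_prod]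
    have e3 : ∀ j, H (H^[j] z) = H^[j + 1] z := fun j => (Function.iterate_succ_apply' H j z).symm
    rw [Finset.prod_congr rfl fun j _ => e3 j]
    have e4 := Finset.prod_range_succ' (fun j => H^[j] z) (2 * m + 1)
    have e5 := Finset.prod_range_succ (fun j => H^[j] z) (2 * m + 1)
    rw [e5, hm] at e4
    have e6 : H^[0] z = z := rfl
    rw [e6] at e4
    exact (mul_right_cancel e4).symm

variable {G : Type u} [Group G]

/-- conjugation on a subgroup -/
def cjHom {N : Subgroup G} (g : G) (hg : ∀ x ∈ N, g * x * g⁻¹ ∈ N) : N →* N where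
  toFun x := ⟨g * x * g⁻¹, hg _ x.2⟩
  map_one' := Subtype.ext (by simp)
  map_mul' x y := Subtype.ext (by simp [mul_assoc])

theorem cjHom_apply {N : Subgroup G} {g : G} (hg : ∀ x ∈ N, g * x * g⁻¹ ∈ N) (x : N) :
    (cjHom g hg x : G) = g * x * g⁻¹ := rfl

theorem cjHom_iter {N : Subgroup G} {g : G} (hg : ∀ x ∈ N, g * x * g⁻¹ ∈ N) (n : ℕ) (x : N) :
    (((cjHom g hg)^[n] x : N) : G) = g ^ n * x * (g ^ n)⁻¹ := by
  induction n with
  | zero => simp
  | succ n ih =>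
    rw [Function.iterate_succ_apply', cjHom_apply, ih, pow_succ']
    group

/-- **the norm under an element of odd order which is inverted by `u`** -/
theorem exists_avg {N C : Subgroup G} (hab : ∀ x ∈ N, ∀ y ∈ N, x * y = y * x)
    {u h : G} (huu : u * u = 1) (hu : ∀ x ∈ N, u * x * u⁻¹ ∈ N) (hh : ∀ x ∈ N, h * x * h⁻¹ ∈ N)
    (hC : ∀ x ∈ N, x * (u * x * u⁻¹) ∈ C) {m : ℕ} (hm : ∀ x ∈ N, h ^ (2 * m + 1) * x = x * h ^ (2 * m + 1))
    (hi : ∀ x ∈ N, (u * h * u * h) * x = x * (u * h * u * h)) {z : G} (hz : z ∈ N)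
    (hzu : u * z = z * u) : ∃ c ∈ N, c ∈ C ∧ u * (z * c) = z * c * u ∧ h * (z * c) = z * c * h := by
  let _ : CommGroup N := { (inferInstance : Group N) with
    mul_comm := fun x y => Subtype.ext (hab x x.2 y y.2) }
  have hui : u⁻¹ = u := inv_eq_of_mul_eq_one_left huu
  obtain ⟨c, hc, h1, h3⟩ := avg (cjHom u hu) (cjHom h hh) (fun x => Subtype.ext (by
      simp only [cjHom_apply]
      have := hi x x.2
      calc u * (h * (u * (h * x * h⁻¹) * u⁻¹) * h⁻¹) * u⁻¹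
          = (u * h * u * h) * x * (h⁻¹ * u⁻¹ * h⁻¹ * u⁻¹) := by group
        _ = x * ((u * h * u * h) * (h⁻¹ * u⁻¹ * h⁻¹ * u⁻¹)) := by rw [this]; group
        _ = x := by group)) (fun x => Subtype.ext (by
      simp only [cjHom_apply]
      calc u * (u * x * u⁻¹) * u⁻¹ = (u * u) * x * (u * u)⁻¹ := by group
        _ = x := by rw [huu]; group)) (m := m) (fun x => Subtype.ext (by
      have e := cjHom_iter hh (2 * m + 1) x
      refine Eq.trans e ?_
      rw [hm x x.2]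
      group)) (z := ⟨z, hz⟩) (Subtype.ext (by
      rw [cjHom_apply]
      change u * z * u⁻¹ = z
      rw [hzu]; group)) (C.subgroupOf N) (fun x => by
      rw [mem_subgroupOf]
      exact hC x x.2)
  refine ⟨c, c.2, hc, ?_, ?_⟩
  · have := congrArg Subtype.val h1
    change u * (z * c) * u⁻¹ = z * c at this
    rw [mul_inv_eq_iff_eq_mul] at this
    exact this
  · have := congrArg Subtype.val h3
    change h * (z * c) * h⁻¹ = z * c at this
    rw [mul_inv_eq_iff_eq_mul] at this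
    exact this

theorem exists_conj_avg [Finite G] {H N C : Subgroup G} (hNH : H ≤ normalizer (N : Set G))
    (hred : ∀ K : Subgroup G, K ≤ H → H ≤ normalizer (K : Set G) →
      (∀ x ∈ K, ∃ k : ℕ, x ^ 2 ^ k ∈ centralizer (N : Set G)) → K ≤ centralizer (N : Set G))
    (hab : ∀ x ∈ N, ∀ y ∈ N, x * y = y * x)
    {u : G} (hu : u ∈ H) (huu : u * u = 1) (hun : u ∉ centralizer (N : Set G))
    (hC : ∀ x ∈ N, x * (u * x * u⁻¹) ∈ C) {z : G} (hz : z ∈ N) (hzu : u * z = z * u) :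
    ∃ h ∈ H, (∀ T : Subgroup G, IsPGroup 2 T → u ∈ T → h * u * h⁻¹ ∈ T → False) ∧
      ∃ c ∈ N, c ∈ C ∧ u * (z * c) = z * c * u ∧ h * (z * c) = z * c * h := by
  have hCn : H ≤ normalizer ((H ⊓ centralizer (N : Set G) : Subgroup G) : Set G) := by
    intro g hg
    have hg' := hNH hg
    rw [mem_normalizer_iff] at hg' ⊢
    have key : ∀ g ∈ H, (∀ n, n ∈ N ↔ g * n * g⁻¹ ∈ N) → ∀ x, x ∈ H ⊓ centralizer (N : Set G) →
        g * x * g⁻¹ ∈ H ⊓ centralizer (N : Set G) := by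
      rintro g hg hgN x ⟨hx, hx'⟩
      refine ⟨H.mul_mem (H.mul_mem hg hx) (H.inv_mem hg), ?_⟩
      replace hx' := mem_centralizer_iff.1 hx'
      refine mem_centralizer_iff.2 fun n hn => ?_
      have hn' : g⁻¹ * n * g ∈ N := by
        rw [hgN]
        have : g * (g⁻¹ * n * g) * g⁻¹ = n := by group
        rwa [this]
      have := hx' _ hn'
      calc n * (g * x * g⁻¹) = g * ((g⁻¹ * n * g) * x) * g⁻¹ := by group
        _ = g * (x * (g⁻¹ * n * g)) * g⁻¹ := by rw [this]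
        _ = _ := by group
    intro x
    refine ⟨fun hx => key g hg hg' x hx, fun hx => ?_⟩
    have h1 := key g⁻¹ (H.inv_mem hg) (by
      have h2 := hNH (H.inv_mem hg)
      rwa [mem_normalizer_iff] at h2) _ hx
    have e : g⁻¹ * (g * x * g⁻¹) * g⁻¹⁻¹ = x := by group
    rwa [e] at h1
  set D : Subgroup G := H ⊓ centralizer (N : Set G) with hD
  have hn : (D.subgroupOf H).Normal := normal_subgroupOf_of_le_normalizer hCn
  set f := QuotientGroup.mk' (D.subgroupOf H) with hf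
  have hf1 : ∀ y : H, f y = 1 → (y : G) ∈ D := by
    intro y hy
    exact (QuotientGroup.eq_one_iff (N := D.subgroupOf H) y).1 hy
  set a := f ⟨u, hu⟩ with ha
  have haa : a * a = 1 := by
    rw [ha, ← map_mul]
    have : (⟨u, hu⟩ : H) * ⟨u, hu⟩ = 1 := Subtype.ext huu
    rw [this, map_one]
  obtain ⟨g, hg1, hgo, hgi⟩ := Involutions.BaerSuzuki.exists_odd_inverted a haa (by
    intro h1
    have h2 := hred (((normalClosure {a}).comap f).map H.subtype) (map_subtype_le _) ?_ ?_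
    · have h3 : u ∈ ((normalClosure {a}).comap f).map H.subtype :=
        ⟨⟨u, hu⟩, subset_normalClosure rfl, rfl⟩
      exact hun (h2 h3)
    · have key : ∀ x ∈ H, ∀ y ∈ ((normalClosure {a}).comap f).map H.subtype,
          x * y * x⁻¹ ∈ ((normalClosure {a}).comap f).map H.subtype := by
        rintro x hx _ ⟨y, hy, rfl⟩
        refine ⟨⟨x, hx⟩ * y * ⟨x, hx⟩⁻¹, ?_, rfl⟩
        change f _ ∈ normalClosure {a}
        rw [map_mul, map_mul, map_inv]
        exact normalClosure_normal.conj_mem _ hy _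
      intro x hx
      rw [mem_normalizer_iff]
      intro y
      refine ⟨fun hy => key x hx y hy, fun hy => ?_⟩
      have h1 := key x⁻¹ (H.inv_mem hx) _ hy
      have e : x⁻¹ * (x * y * x⁻¹) * x⁻¹⁻¹ = y := by group
      rwa [e] at h1
    · rintro _ ⟨y, hy, rfl⟩
      obtain ⟨k, hk⟩ := h1 ⟨f y, hy⟩
      refine ⟨k, ?_⟩
      have h2 : f (y ^ 2 ^ k) = 1 := by
        rw [map_pow]
        exact congrArg Subtype.val hk
      exact (hf1 _ h2).2)
  obtain ⟨⟨h, hh⟩, rfl⟩ := QuotientGroup.mk'_surjective (D.subgroupOf H) g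
  have hainv : a⁻¹ = a := inv_eq_of_mul_eq_one_left haa
  obtain ⟨m, hm⟩ := hgo
  have hN : ∀ g ∈ H, ∀ x ∈ N, g * x * g⁻¹ ∈ N := by
    intro g hg x hx
    exact (mem_normalizer_iff.1 (hNH hg) x).1 hx
  have hcomm : ∀ y ∈ D, ∀ x ∈ N, y * x = x * y := by
    intro y hy x hx
    exact ((mem_centralizer_iff.1 hy.2) x hx).symm
  refine ⟨h, hh, fun T hT hT1 hT2 => hg1 ?_, ?_⟩
  · obtain ⟨k, hk⟩ := hT ⟨u * (h * u * h⁻¹), T.mul_mem hT1 hT2⟩
    have hk' : (u * (h * u * h⁻¹)) ^ 2 ^ k = 1 := congrArg Subtype.val hk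
    have h3 : f ((⟨u, hu⟩ : H) * (⟨h, hh⟩ * ⟨u, hu⟩ * ⟨h, hh⟩⁻¹)) = (f ⟨h, hh⟩)⁻¹ ^ 2 := by
      rw [map_mul, map_mul, map_mul, map_inv, ← ha]
      change a * (f ⟨h, hh⟩ * a * (f ⟨h, hh⟩)⁻¹) = _
      calc a * (f ⟨h, hh⟩ * a * (f ⟨h, hh⟩)⁻¹) = a * f ⟨h, hh⟩ * a * (f ⟨h, hh⟩)⁻¹ := by group
        _ = a * f ⟨h, hh⟩ * a⁻¹ * (f ⟨h, hh⟩)⁻¹ := by rw [hainv]
        _ = (f ⟨h, hh⟩)⁻¹ * (f ⟨h, hh⟩)⁻¹ := by rw [hgi]
        _ = _ := by rw [sq]
    have h4 : ((⟨u, hu⟩ : H) * (⟨h, hh⟩ * ⟨u, hu⟩ * ⟨h, hh⟩⁻¹)) ^ 2 ^ k = 1 := Subtype.ext hk'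
    have h5 : (f ⟨h, hh⟩) ^ 2 ^ (k + 1) = 1 := by
      have := congrArg f h4
      rw [map_pow, h3, map_one, ← pow_mul, inv_pow, inv_eq_one] at this
      rw [pow_succ, mul_comm]
      exact this
    have h6 : orderOf (f ⟨h, hh⟩) ∣ 2 ^ (k + 1) := orderOf_dvd_of_pow_eq_one h5
    have h7 : Nat.Coprime (orderOf (f ⟨h, hh⟩)) (2 ^ (k + 1)) :=
      Nat.Coprime.pow_right _ (Nat.coprime_two_right.2 ⟨m, hm⟩)
    exact orderOf_eq_one_iff.1 (h7.eq_one_of_dvd h6)
  · refine exists_avg hab huu (hN u hu) (hN h hh) hC (m := m) ?_ ?_ hz hzu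
    · have e : f ((⟨h, hh⟩ : H) ^ (2 * m + 1)) = 1 := by
        rw [map_pow]
        have := pow_orderOf_eq_one (f ⟨h, hh⟩)
        rwa [show orderOf (f ⟨h, hh⟩) = 2 * m + 1 from hm] at this
      have h1 := hf1 _ e
      exact hcomm _ h1
    · have e : f ((⟨u, hu⟩ : H) * ⟨h, hh⟩ * ⟨u, hu⟩ * ⟨h, hh⟩) = 1 := by
        rw [map_mul, map_mul, map_mul, ← ha]
        have : a * f ⟨h, hh⟩ * a = (f ⟨h, hh⟩)⁻¹ := by
          have h8 := hgi
          rwa [hainv] at h8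
        rw [this, inv_mul_cancel]
      exact hcomm _ (hf1 _ e)

/-- two elements in a 2-group, the second normalising -/
theorem common {A : Subgroup G} {u w f : G} (hA : IsPGroup 2 A) (hu : u ∈ A) (hww : w * w = 1)
    (hAn : ∀ x, x * f = f * x → ∀ a ∈ A, x * a * x⁻¹ ∈ A) (hw : w * f = f * w) :
    ∃ T : Subgroup G, IsPGroup 2 T ∧ u ∈ T ∧ w ∈ T := by
  have h1 : zpowers w ≤ normalizer (A : Set G) := by
    rw [zpowers_le, mem_normalizer_iff]
    intro x
    refine ⟨fun hx => hAn w hw x hx, fun hx => ?_⟩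
    have hwi : w⁻¹ = w := inv_eq_of_mul_eq_one_left hww
    have h2 := hAn w hw _ hx
    have e : w * (w * x * w⁻¹) * w⁻¹ = (w * w) * x * (w⁻¹ * w⁻¹) := by group
    rw [e, hwi, hww, one_mul, mul_one] at h2
    exact h2
  have h2 : IsPGroup 2 (zpowers w) := by
    rintro ⟨_, k, rfl⟩
    refine ⟨1, Subtype.ext ?_⟩
    change (w ^ k) ^ 2 ^ 1 = 1
    rw [pow_one, ← zpow_natCast, ← zpow_mul, mul_comm, zpow_mul, zpow_natCast, sq, hww, one_zpow]
  refine ⟨zpowers w ⊔ A, IsPGroup.to_sup_of_normal_right' h2 hA h1, mem_sup_right hu,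
    mem_sup_left (mem_zpowers w)⟩

/-- **LINE (2) OF THEOREM QW, EVERY `q`.**  `C` is a subgroup containing the commutators `[n, u]`, `n ∈ N`. -/
theorem mem_cent [Finite G] {H N C : Subgroup G} (hNH : H ≤ normalizer (N : Set G))
    (hred : ∀ K : Subgroup G, K ≤ H → H ≤ normalizer (K : Set G) →
      (∀ x ∈ K, ∃ k : ℕ, x ^ 2 ^ k ∈ centralizer (N : Set G)) → K ≤ centralizer (N : Set G))
    (hab : ∀ x ∈ N, ∀ y ∈ N, x * y = y * x)
    {u : G} (hu : u ∈ H) (huu : u * u = 1)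
    (hC : ∀ x ∈ N, x * (u * x * u⁻¹) ∈ C) {z : G} (hz : z ∈ N) (hzu : u * z = z * u)
    (hA : ∀ c ∈ N, c ∈ C → u * (z * c) = z * c * u → ∃ A : Subgroup G, IsPGroup 2 A ∧ u ∈ A ∧
      ∀ x, x * (z * c) = z * c * x → ∀ a ∈ A, x * a * x⁻¹ ∈ A) :
    u ∈ centralizer (N : Set G) := by
  by_contra hun
  obtain ⟨h, hh, hT, c, hcN, hcC, h1, h2⟩ := exists_conj_avg hNH hred hab hu huu hun hC hz hzu
  obtain ⟨A, hA1, hA2, hA3⟩ := hA c hcN hcC h1
  have hww : h * u * h⁻¹ * (h * u * h⁻¹) = 1 := by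
    calc h * u * h⁻¹ * (h * u * h⁻¹) = h * (u * u) * h⁻¹ := by group
      _ = 1 := by rw [huu]; group
  have hwf : h * u * h⁻¹ * (z * c) = z * c * (h * u * h⁻¹) := by
    have h3 : h⁻¹ * (z * c) = z * c * h⁻¹ := by
      calc h⁻¹ * (z * c) = h⁻¹ * (z * c * h) * h⁻¹ := by group
        _ = h⁻¹ * (h * (z * c)) * h⁻¹ := by rw [h2]
        _ = _ := by group
    calc h * u * h⁻¹ * (z * c) = h * u * (h⁻¹ * (z * c)) := by group
      _ = h * (u * (z * c)) * h⁻¹ := by rw [h3]; group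
      _ = (h * (z * c)) * u * h⁻¹ := by rw [h1]; group
      _ = z * c * (h * u * h⁻¹) := by rw [h2]; group
  obtain ⟨T, hT1, hT2, hT3⟩ := common hA1 hA2 hww hA3 hwf
  exact hT T hT1 hT2 hT3

end Cfsg.Agent.Omega.NO3S.CaseLW.Odd

end

section


/-!
# THEOREM QW, step (2) for every `q` (helper866, #24897; helper276, #25131)

* `cent_zl_q` : `Z_M = ⟨Z^M⟩` centralises `U ≤ O₂(C_M(Z))`: (ML) and `Odd.mem_cent`; `C` is a subgroup (`Z_j^y`), `|Z|` is
  arbitrary, `z ∈ Z`;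
* `oz_le_of` : `O₂(C_G(z)) ≤ O₂(C_M(Z))`.
-/

set_option autoImplicit false

namespace Cfsg.Agent.Omega.NO3S.CaseLW.QW

open Subgroup Cfsg Cfsg.Agent.ZN Cfsg.Agent.Omega.MinPar
open Cfsg.Agent.MinSimple.VModule (o2_isPGroup)
open Cfsg.Agent.Omega.HOne.TvHSide (le_normalizer_of)
open Cfsg.Agent.Omega.ML.Final (MLK)
open Cfsg.Agent.Omega.ML.GMod (ZD)

universe u

variable {G : Type u} [Group G] [Finite G] (S : Sylow 2 G) {M : Subgroup G}

/-- **(2)**, every `q`: `Z_M` centralises `U ≤ O₂(C_M(Z))`. -/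
theorem cent_zl_q (hG : IsCharacteristicTwoType G) (ml : MLK.{u, u}) (h : IsLoc (S : Subgroup G) M) (hK : IsKGroup M)
    {z : G} (hz : z ∈ zl (S : Subgroup G) M) {U : Subgroup G} (hU2 : ∀ x ∈ U, x * x = 1)
    (hUO : U ≤ o2 (M ⊓ centralizer (zc (S : Subgroup G) : Set G)))
    (hex : (centralizer (zl (S : Subgroup G) M : Set G)).relIndex U ≤
        (centralizer (U : Set G)).relIndex (zl (S : Subgroup G) M) →
      ¬ U ≤ centralizer (zl (S : Subgroup G) M : Set G) →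
        ∃ w ∈ U, ∃ C : Subgroup G, w ∉ centralizer (zl (S : Subgroup G) M : Set G) ∧ w * z = z * w ∧
          (∀ x ∈ zl (S : Subgroup G) M, x * (w * x * w⁻¹) ∈ C) ∧
          ∀ c ∈ zl (S : Subgroup G) M, c ∈ C → w * (z * c) = z * c * w → w ∈ o2 (centralizer ({z * c} : Set G))) :
    U ≤ centralizer (zl (S : Subgroup G) M : Set G) := by
  by_contra hn
  have hsq : ∀ v ∈ zl (S : Subgroup G) M, v * v = 1 := fun v hv => by
    have h1 := (ChoiceBase.mem_zc.1 (IsLoc.zl_le S hG h hv)).2.1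
    rwa [sq] at h1
  have D : ZD M (zl (S : Subgroup G) M) (zc (S : Subgroup G)) (S : Subgroup G) U :=
    { nV := le_normalizer_zl _ _
      sq := hsq
      ZV := MinSimple.VModule.zc_le_zl _ _
      gen := fun X h1 h2 => MinSimple.VModule.zl_le h1 h2
      TL := h.le
      two := S.isPGroup'
      odd := MinSimple.Basic.not_dvd_relIndex S h.le
      TZ := le_centralizer_zc _
      AO := hUO
      Asq := fun a ha => by rw [hU2 a ha]; exact one_mem _ }
  obtain ⟨w, hw, C, hwn, hwz, hC, hwo⟩ := hex (D.gml ml hK) hn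
  have hcm : ∀ x ∈ zl (S : Subgroup G) M, ∀ y ∈ zl (S : Subgroup G) M, x * y = y * x := by
    intro x hx y hy
    have h2 : x⁻¹ = x := inv_eq_of_mul_eq_one_left (hsq x hx)
    have h3 : y⁻¹ = y := inv_eq_of_mul_eq_one_left (hsq y hy)
    have h4 : (x * y)⁻¹ = x * y := inv_eq_of_mul_eq_one_left (hsq _ (mul_mem hx hy))
    rw [mul_inv_rev, h2, h3] at h4
    exact h4.symm
  refine hwn (Odd.mem_cent (H := M) (C := C) (le_normalizer_zl _ _) (red_zl S h.le) hcm
    (((hUO.trans (o2_le _)).trans inf_le_left) hw) (hU2 w hw) hC hz hwz fun c hcN hcC hcw =>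
      ⟨o2 (centralizer ({z * c} : Set G)), o2_isPGroup _, hwo c hcN hcC hcw, fun x hx a ha => ?_⟩)
  exact o2_conj_mem (mem_centralizer_singleton_iff.2 hx) ha

/-- `O₂(C_G(z)) ≤ O₂(C_M(Z))`, `z ∈ Z` -/
theorem oz_le_of (hM : (S : Subgroup G) ≤ M) {z : G} (hz : z ∈ zc (S : Subgroup G)) (hz1 : z ≠ 1) :
    o2 (centralizer ({z} : Set G)) ≤ o2 (M ⊓ centralizer (zc (S : Subgroup G) : Set G)) := by
  have hz2 : z ^ 2 = 1 := (ChoiceBase.mem_zc.1 hz).2.1
  have hSz : (S : Subgroup G) ≤ centralizer ({z} : Set G) := fun s hs =>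
    mem_centralizer_singleton_iff.2 ((ChoiceBase.mem_zc.1 hz).2.2 s hs)
  have h1 : o2 (centralizer ({z} : Set G)) ≤ (S : Subgroup G) := (isLoc_centralizer S hz2 hz1 hSz).o2_le S
  refine MinSimple.VModule.le_o2 (le_inf (h1.trans hM) (h1.trans (le_centralizer_zc _))) (o2_isPGroup _)
    (inf_le_right.trans ?_)
  have h2 : centralizer (zc (S : Subgroup G) : Set G) ≤ centralizer ({z} : Set G) :=
    centralizer_le (Set.singleton_subset_iff.2 hz)
  exact h2.trans (MinSimple.VModule.le_normalizer_o2 _)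

/-- **(3)**, from `U ≤ O₂(C_G(z))` -/
theorem le_o2_M_of (h : (S : Subgroup G) ≤ M) {z : G} (hz : z ∈ zc (S : Subgroup G)) (hz1 : z ≠ 1) {U : Subgroup G}
    (hU : U ≤ centralizer (zl (S : Subgroup G) M : Set G)) (hUQ : U ≤ o2 (centralizer ({z} : Set G))) : U ≤ o2 M := by
  have hS : (S : Subgroup G) ≠ ⊥ := fun hb => hz1 (by
    have h1 := ZN.zc_le _ hz
    rw [hb] at h1
    exact mem_bot.1 h1)
  refine le_o2_M S h hS hU (hUQ.trans ?_)
  have h1 := oz_le_of S (M := ⊤) le_top hz hz1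
  rwa [top_inf_eq] at h1

end Cfsg.Agent.Omega.NO3S.CaseLW.QW

end

section


/-!
# THEOREM QW for `|Z| > 2`: the three-step conjugation (helper360 #25134, helper792 #25398 / #25515)

`X` is an elementary abelian 2-group normalised by `M`, `O₂(M/C_M(X)) = 1`.

* `Rg X A C` : `A` acts on `X` as a "root group" with centre `C`: `[X, A] ≤ C ≤ C_X(A)` and `[x, A] = C` for every
  `x ∈ X` which is moved by `A`;
* `Rg.four` : if `A` centralises `C'` then `(a a')^4` centralises `X`;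
* `Rg.move` : three steps: `p ↦ p s ↦ p s c ↦ p c` under `⟨A, A'⟩`;
* `cent_of_three` : **line (2) of QW with `low` for all of `Z` only** (`A ≤ O₂(C_M(Z))`; for every `z ∈ Z#` some
  `c ∈ C` with `A ≤ O₂(C_G(z c))` and `z c` not `M`-conjugate to `z`): `A ≤ C(X)`;
* `cent_or_move` : the step of LEMMA LZ (`A ≤ O₂(C_G(z))` for one `z`).
-/

set_option autoImplicit false

namespace Cfsg.Agent.Omega.NO3S.CaseLW.Three

open Subgroup Cfsg
open scoped Pointwise
open Cfsg.Agent.Omega.NO3S.CaseLW.QW (exists_odd common')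

universe u

variable {G : Type u} [Group G]

/-- `A` acts on `X` as a root group with centre `C` (or trivially). -/
structure Rg (X A C : Subgroup G) : Prop where
  sqX : ∀ x ∈ X, x * x = 1
  sqA : ∀ a ∈ A, a * a = 1
  CX : C ≤ X
  CA : ∀ c ∈ C, ∀ a ∈ A, a * c = c * a
  cm : ∀ x ∈ X, ∀ a ∈ A, ∃ c ∈ C, a * x * a⁻¹ = x * c
  rg : ∀ x ∈ X, (∀ a ∈ A, a * x = x * a) ∨ ∀ s ∈ C, ∃ a ∈ A, a * x * a⁻¹ = x * s

variable {X A C A' C' : Subgroup G}

theorem Rg.comm (h : Rg X A C) : ∀ x ∈ X, ∀ y ∈ X, x * y = y * x := by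
  intro x hx y hy
  have h1 := h.sqX _ (X.mul_mem hx hy)
  have h2 : x⁻¹ = x := inv_eq_of_mul_eq_one_left (h.sqX x hx)
  have h3 : y⁻¹ = y := inv_eq_of_mul_eq_one_left (h.sqX y hy)
  have h4 : (x * y)⁻¹ = x * y := inv_eq_of_mul_eq_one_left h1
  rw [mul_inv_rev, h2, h3] at h4
  exact h4.symm

/-- conjugate -/
theorem Rg.conj (h : Rg X A C) {m : G} (hm : m ∈ normalizer (X : Set G)) :
    Rg X (MulAut.conj m • A) (MulAut.conj m • C) := by
  have hX : ∀ x, x ∈ X → m⁻¹ * x * m ∈ X := by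
    intro x hx
    have h1 := (mem_normalizer_iff.1 ((normalizer (X : Set G)).inv_mem hm) x).1 hx
    rwa [inv_inv] at h1
  have hX' : ∀ x, x ∈ X → m * x * m⁻¹ ∈ X := fun x hx => (mem_normalizer_iff.1 hm x).1 hx
  refine ⟨h.sqX, ?_, ?_, ?_, ?_, ?_⟩
  · intro a ha
    rw [mem_pointwise_smul_iff_inv_smul_mem, ← map_inv, MulAut.smul_def, MulAut.conj_apply, inv_inv] at ha
    have h1 := h.sqA _ ha
    calc a * a = m * ((m⁻¹ * a * m) * (m⁻¹ * a * m)) * m⁻¹ := by group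
      _ = 1 := by rw [h1]; group
  · intro c hc
    rw [mem_pointwise_smul_iff_inv_smul_mem, ← map_inv, MulAut.smul_def, MulAut.conj_apply, inv_inv] at hc
    have h1 := hX' _ (h.CX hc)
    have e : m * (m⁻¹ * c * m) * m⁻¹ = c := by group
    rwa [e] at h1
  · intro c hc a ha
    rw [mem_pointwise_smul_iff_inv_smul_mem, ← map_inv, MulAut.smul_def, MulAut.conj_apply, inv_inv] at hc ha
    have h1 := h.CA _ hc _ ha
    calc a * c = m * ((m⁻¹ * a * m) * (m⁻¹ * c * m)) * m⁻¹ := by group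
      _ = c * a := by rw [h1]; group
  · intro x hx a ha
    rw [mem_pointwise_smul_iff_inv_smul_mem, ← map_inv, MulAut.smul_def, MulAut.conj_apply, inv_inv] at ha
    obtain ⟨c, hc, h1⟩ := h.cm _ (hX x hx) _ ha
    refine ⟨m * c * m⁻¹, ?_, ?_⟩
    · rw [mem_pointwise_smul_iff_inv_smul_mem, ← map_inv, MulAut.smul_def, MulAut.conj_apply, inv_inv]
      have e : m⁻¹ * (m * c * m⁻¹) * m = c := by group
      rwa [e]
    · calc a * x * a⁻¹ = m * ((m⁻¹ * a * m) * (m⁻¹ * x * m) * (m⁻¹ * a * m)⁻¹) * m⁻¹ := by group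
        _ = x * (m * c * m⁻¹) := by rw [h1]; group
  · intro x hx
    rcases h.rg _ (hX x hx) with h1 | h1
    · refine Or.inl fun a ha => ?_
      rw [mem_pointwise_smul_iff_inv_smul_mem, ← map_inv, MulAut.smul_def, MulAut.conj_apply, inv_inv] at ha
      have h2 := h1 _ ha
      calc a * x = m * ((m⁻¹ * a * m) * (m⁻¹ * x * m)) * m⁻¹ := by group
        _ = x * a := by rw [h2]; group
    · refine Or.inr fun s hs => ?_
      rw [mem_pointwise_smul_iff_inv_smul_mem, ← map_inv, MulAut.smul_def, MulAut.conj_apply, inv_inv] at hs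
      obtain ⟨a, ha, h2⟩ := h1 _ hs
      refine ⟨m * a * m⁻¹, ?_, ?_⟩
      · rw [mem_pointwise_smul_iff_inv_smul_mem, ← map_inv, MulAut.smul_def, MulAut.conj_apply, inv_inv]
        have e : m⁻¹ * (m * a * m⁻¹) * m = a := by group
        rwa [e]
      · calc m * a * m⁻¹ * x * (m * a * m⁻¹)⁻¹ = m * (a * (m⁻¹ * x * m) * a⁻¹) * m⁻¹ := by group
          _ = x * s := by rw [h2]; group

/-- if `A` centralises `C'`, then `(a a')^4` centralises `X` -/
theorem Rg.four (h : Rg X A C) (h' : Rg X A' C') (hc : ∀ s ∈ C', ∀ a ∈ A, a * s = s * a)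
    {a a' : G} (ha : a ∈ A) (ha' : a' ∈ A') : (a * a') ^ 4 ∈ centralizer (X : Set G) := by
  set f := MulAut.conj (a * a') with hf
  have e1 : ∀ n : G, f n = a * (a' * n * a'⁻¹) * a⁻¹ := fun n => by
    rw [hf, MulAut.conj_apply]; group
  have hcj : ∀ {b s : G}, b * s = s * b → b * s * b⁻¹ = s := fun {b s} e => by
    rw [e, mul_assoc, mul_inv_cancel, mul_one]
  have hmul : ∀ x y : G, a * (x * y) * a⁻¹ = (a * x * a⁻¹) * (a * y * a⁻¹) := fun x y => by group
  have hcm := h.comm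
  -- `f` on `C'`
  have f1 : ∀ s ∈ C', f s = s := by
    intro s hs
    rw [e1, hcj (h'.CA s hs a' ha'), hcj (hc s hs a ha)]
  -- `f` on `C`
  have f2 : ∀ c ∈ C, ∃ s ∈ C', f c = c * s := by
    intro c hc1
    obtain ⟨s, hs, h1⟩ := h'.cm c (h.CX hc1) a' ha'
    refine ⟨s, hs, ?_⟩
    rw [e1, h1, hmul, hcj (h.CA c hc1 a ha), hcj (hc s hs a ha)]
  have f3 : ∀ x ∈ X, ∃ c ∈ C, ∃ s ∈ C', f x = x * c * s := by
    intro x hx
    obtain ⟨s, hs, h1⟩ := h'.cm x hx a' ha'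
    obtain ⟨c, hc1, h2⟩ := h.cm x hx a ha
    refine ⟨c, hc1, s, hs, ?_⟩
    rw [e1, h1, hmul, h2, hcj (hc s hs a ha)]
  have f4 : ∀ x ∈ X, ∃ s ∈ C', f (f x) = x * s := by
    intro x hx
    obtain ⟨c, hc1, s, hs, h1⟩ := f3 x hx
    obtain ⟨s', hs', h2⟩ := f2 c hc1
    refine ⟨s', hs', ?_⟩
    rw [h1, map_mul, map_mul, h1, h2, f1 s hs]
    have hcX := h.CX hc1
    have hsX := h'.CX hs
    have hsX' := h'.CX hs'
    calc x * c * s * (c * s') * s = x * (c * (s * c)) * (s' * s) := by group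
      _ = x * (c * (c * s)) * (s * s') := by rw [hcm s hsX c hcX, hcm s' hsX' s hsX]
      _ = x * (c * c) * (s * s) * s' := by group
      _ = x * s' := by rw [h.sqX c hcX, h.sqX s hsX, mul_one, mul_one]
  refine mem_centralizer_iff.2 fun x hx => ?_
  have h5 : (MulAut.conj ((a * a') ^ 4)) x = x := by
    rw [map_pow, pow_succ, pow_succ, pow_succ, pow_one]
    change f (f (f (f x))) = x
    obtain ⟨s, hs, h1⟩ := f4 x hx
    rw [h1, map_mul, map_mul, f1 s hs, f1 s hs, h1, mul_assoc, h'.sqX s (h'.CX hs), mul_one]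
  rw [MulAut.conj_apply, mul_inv_eq_iff_eq_mul] at h5
  exact h5.symm

/-- **three steps** `p ↦ p s ↦ p s c ↦ p c` -/
theorem Rg.move (h : Rg X A C) (h' : Rg X A' C') (hC : ∃ s ∈ C', ∃ a ∈ A, a * s ≠ s * a)
    {p c : G} (hp : p ∈ X) (hc : c ∈ C) (hpA : ∀ a ∈ A, a * p = p * a) (hpA' : ∃ a ∈ A', a * p ≠ p * a)
    (hqA' : ∃ a ∈ A', a * (p * c) ≠ p * c * a) : ∃ g ∈ A ⊔ A', g * p * g⁻¹ = p * c := by
  obtain ⟨s, hs, a₀, ha₀, hs1⟩ := hC
  have hcX := h.CX hc
  have hsX := h'.CX hs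
  have hcm := h.comm
  obtain ⟨b₁, hb₁, e1⟩ : ∃ b ∈ A', b * p * b⁻¹ = p * s := by
    rcases h'.rg p hp with h1 | h1
    · obtain ⟨b, hb, h2⟩ := hpA'
      exact (h2 (h1 b hb)).elim
    · exact h1 s hs
  obtain ⟨a₁, ha₁, e2⟩ : ∃ a ∈ A, a * s * a⁻¹ = s * c := by
    rcases h.rg s hsX with h1 | h1
    · exact (hs1 (h1 a₀ ha₀)).elim
    · exact h1 c hc
  obtain ⟨b₂, hb₂, e3⟩ : ∃ b ∈ A', b * (p * c) * b⁻¹ = p * c * s := by
    rcases h'.rg (p * c) (X.mul_mem hp hcX) with h1 | h1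
    · obtain ⟨b, hb, h2⟩ := hqA'
      exact (h2 (h1 b hb)).elim
    · exact h1 s hs
  refine ⟨b₂ * a₁ * b₁, mul_mem (mul_mem (mem_sup_right hb₂) (mem_sup_left ha₁)) (mem_sup_right hb₁), ?_⟩
  have e4 : a₁ * p * a₁⁻¹ = p := by rw [hpA a₁ ha₁, mul_assoc, mul_inv_cancel, mul_one]
  have e5 : b₂ * s * b₂⁻¹ = s := by rw [h'.CA s hs b₂ hb₂, mul_assoc, mul_inv_cancel, mul_one]
  calc b₂ * a₁ * b₁ * p * (b₂ * a₁ * b₁)⁻¹ = b₂ * (a₁ * (b₁ * p * b₁⁻¹) * a₁⁻¹) * b₂⁻¹ := by group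
    _ = b₂ * ((a₁ * p * a₁⁻¹) * (a₁ * s * a₁⁻¹)) * b₂⁻¹ := by rw [e1]; group
    _ = b₂ * (p * (c * s)) * b₂⁻¹ := by rw [e4, e2, hcm s hsX c hcX]
    _ = (b₂ * (p * c) * b₂⁻¹) * (b₂ * s * b₂⁻¹) := by group
    _ = p * c * (s * s) := by rw [e3, e5]; group
    _ = p * c := by rw [h'.sqX s hsX, mul_one]

section fin

variable [Finite G] {M Zs : Subgroup G}

/-- **Line (2) of THEOREM QW, `low` for all of `Z` only.** -/
theorem cent_of_three (hMX : M ≤ normalizer (X : Set G))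
    (hred : ∀ K : Subgroup G, K ≤ M → M ≤ normalizer (K : Set G) →
      (∀ x ∈ K, ∃ k : ℕ, x ^ 2 ^ k ∈ centralizer (X : Set G)) → K ≤ centralizer (X : Set G))
    (h : Rg X A C) (hAM : A ≤ M) (hZX : Zs ≤ X) (hZA : ∀ z ∈ Zs, ∀ a ∈ A, a * z = z * a)
    (hO : ∀ a ∈ A, ∃ R : Subgroup G, IsPGroup 2 R ∧ a ∈ R ∧
      ∀ x ∈ M, (∀ z ∈ Zs, x * z = z * x) → ∀ r ∈ R, x * r * x⁻¹ ∈ R)
    (hz : ∀ z ∈ Zs, z ≠ 1 → ∃ c ∈ C, (∀ a ∈ A, ∃ R : Subgroup G, IsPGroup 2 R ∧ a ∈ R ∧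
      ∀ x ∈ M, x * (z * c) = z * c * x → ∀ r ∈ R, x * r * x⁻¹ ∈ R) ∧ ∀ m ∈ M, m * z * m⁻¹ ≠ z * c) :
    A ≤ centralizer (X : Set G) := by
  intro a ha
  by_contra hac
  obtain ⟨m, hm, hodd⟩ := exists_odd hMX hred (hAM ha) (h.sqA a ha) hac
  set a' := m * a * m⁻¹ with ha'
  have h' : Rg X (MulAut.conj m • A) (MulAut.conj m • C) := h.conj (hMX hm)
  have hA' : a' ∈ MulAut.conj m • A := by
    rw [mem_pointwise_smul_iff_inv_smul_mem, ← map_inv, MulAut.smul_def, MulAut.conj_apply, inv_inv, ha']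
    have e : m⁻¹ * (m * a * m⁻¹) * m = a := by group
    rwa [e]
  have hA'M : MulAut.conj m • A ≤ M := by
    intro x hx
    rw [mem_pointwise_smul_iff_inv_smul_mem, ← map_inv, MulAut.smul_def, MulAut.conj_apply, inv_inv] at hx
    have e : x = m * (m⁻¹ * x * m) * m⁻¹ := by group
    rw [e]
    exact M.mul_mem (M.mul_mem hm (hAM hx)) (M.inv_mem hm)
  have ha'M := hA'M hA'
  have haa' : a' * a' = 1 := h'.sqA _ hA'
  have key : ∀ R : Subgroup G, IsPGroup 2 R → a ∈ R → (∀ r ∈ R, a' * r * a'⁻¹ ∈ R) → False := by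
    intro R hR haR hn
    obtain ⟨k, hk⟩ := common' hR haR haa' hn
    exact hodd k (by rw [hk]; exact one_mem _)
  obtain ⟨z, hzZ, hza⟩ : ∃ z ∈ Zs, a' * z ≠ z * a' := by
    by_contra hcon
    push Not at hcon
    obtain ⟨R, hR, haR, hn⟩ := hO a ha
    exact key R hR haR (hn a' ha'M hcon)
  have hz1 : z ≠ 1 := by
    rintro rfl
    exact hza (by rw [mul_one, one_mul])
  obtain ⟨c, hc, hcR, hcm⟩ := hz z hzZ hz1
  have hzc : a' * (z * c) ≠ z * c * a' := by
    intro h1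
    obtain ⟨R, hR, haR, hn⟩ := hcR a ha
    exact key R hR haR (hn a' ha'M h1)
  have hs : ∃ s ∈ MulAut.conj m • C, ∃ a ∈ A, a * s ≠ s * a := by
    by_contra hcon
    push Not at hcon
    exact hodd 2 (h.four h' hcon ha hA')
  obtain ⟨g, hg, hgz⟩ := h.move h' hs (hZX hzZ) hc (hZA z hzZ) ⟨a', hA', hza⟩ ⟨a', hA', hzc⟩
  exact hcm g ((sup_le hAM hA'M) hg) hgz

/-- **The step of LEMMA LZ**: `H ≤ C(z)`, `t, z₀ ∈ C`, `t ≠ 1, z₀`; `A` lies in 2-groups normalised by `C_H(z z₀)`.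
Then `A` centralises `X` or `z₀` is `H`-conjugate to another element of `C`. -/
theorem cent_or_move {H : Subgroup G} {z z₀ t : G} (hHX : H ≤ normalizer (X : Set G))
    (hred : ∀ K : Subgroup G, K ≤ H → H ≤ normalizer (K : Set G) →
      (∀ x ∈ K, ∃ k : ℕ, x ^ 2 ^ k ∈ centralizer (X : Set G)) → K ≤ centralizer (X : Set G))
    (h : Rg X A C) (hAH : A ≤ H) (hHz : ∀ x ∈ H, x * z = z * x) (hz₀ : z₀ ∈ C) (ht : t ∈ C) (ht1 : t ≠ 1)
    (htz : t ≠ z₀)
    (hz : ∀ a ∈ A, ∃ R : Subgroup G, IsPGroup 2 R ∧ a ∈ R ∧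
      ∀ x ∈ H, x * (z * z₀) = z * z₀ * x → ∀ r ∈ R, x * r * x⁻¹ ∈ R) :
    A ≤ centralizer (X : Set G) ∨ ∃ g ∈ H, ∃ c ∈ C, c ≠ z₀ ∧ g * z₀ * g⁻¹ = c := by
  by_contra hcon
  push Not at hcon
  obtain ⟨h1, hno⟩ := hcon
  apply h1
  intro a ha
  by_contra hac
  obtain ⟨m, hm, hodd⟩ := exists_odd hHX hred (hAH ha) (h.sqA a ha) hac
  set a' := m * a * m⁻¹ with ha'
  have h' : Rg X (MulAut.conj m • A) (MulAut.conj m • C) := h.conj (hHX hm)
  have hA' : a' ∈ MulAut.conj m • A := by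
    rw [mem_pointwise_smul_iff_inv_smul_mem, ← map_inv, MulAut.smul_def, MulAut.conj_apply, inv_inv, ha']
    have e : m⁻¹ * (m * a * m⁻¹) * m = a := by group
    rwa [e]
  have hA'H : MulAut.conj m • A ≤ H := by
    intro x hx
    rw [mem_pointwise_smul_iff_inv_smul_mem, ← map_inv, MulAut.smul_def, MulAut.conj_apply, inv_inv] at hx
    have e : x = m * (m⁻¹ * x * m) * m⁻¹ := by group
    rw [e]
    exact H.mul_mem (H.mul_mem hm (hAH hx)) (H.inv_mem hm)
  have ha'H := hA'H hA'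
  have haa' : a' * a' = 1 := h'.sqA _ hA'
  have key : ∀ R : Subgroup G, IsPGroup 2 R → a ∈ R → (∀ r ∈ R, a' * r * a'⁻¹ ∈ R) → False := by
    intro R hR haR hn
    obtain ⟨k, hk⟩ := common' hR haR haa' hn
    exact hodd k (by rw [hk]; exact one_mem _)
  have hz₀X := h.CX hz₀
  have htX := h.CX ht
  -- `a'` moves `z₀`
  have hmz : a' * z₀ ≠ z₀ * a' := by
    intro h2
    obtain ⟨R, hR, haR, hn⟩ := hz a ha
    refine key R hR haR (hn a' ha'H ?_)
    calc a' * (z * z₀) = (a' * z) * z₀ := by group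
      _ = z * (a' * z₀) := by rw [hHz a' ha'H]; group
      _ = z * z₀ * a' := by rw [h2]; group
  have hs : ∃ s ∈ MulAut.conj m • C, ∃ a ∈ A, a * s ≠ s * a := by
    by_contra hcon
    push Not at hcon
    exact hodd 2 (h.four h' hcon ha hA')
  -- an element `c ≠ z₀` of `C` moved by `a'`
  obtain ⟨c, hc, hcz, hcm⟩ : ∃ c ∈ C, c ≠ z₀ ∧ a' * c ≠ c * a' := by
    by_cases h2 : a' * t = t * a'
    · refine ⟨z₀ * t, C.mul_mem hz₀ ht, fun h3 => ht1 ?_, fun h3 => hmz ?_⟩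
      · exact mul_left_cancel (h3.trans (mul_one z₀).symm)
      · have h4 : a' * z₀ * t = z₀ * a' * t := by
          calc a' * z₀ * t = a' * (z₀ * t) := by group
            _ = z₀ * (t * a') := by rw [h3]; group
            _ = z₀ * a' * t := by rw [← h2]; group
        exact mul_right_cancel h4
    · exact ⟨t, ht, htz, h2⟩
  have hcX := h.CX hc
  have e1 : z₀ * (z₀ * c) = c := by rw [← mul_assoc, h.sqX z₀ hz₀X, one_mul]
  obtain ⟨g, hg, hgz⟩ := h.move h' hs hz₀X (C.mul_mem hz₀ hc) (fun b hb => h.CA z₀ hz₀ b hb)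
    ⟨a', hA', hmz⟩ ⟨a', hA', by rw [e1]; exact hcm⟩
  rw [e1] at hgz
  exact hno g ((sup_le hAH hA'H) hg) c hc hcz hgz

end fin

end Cfsg.Agent.Omega.NO3S.CaseLW.Three

end
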