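import Cfsg.Agent.Mrg.Omega.NO3S.CaseLW.QWc
import Cfsg.Agent.Mrg.Omega.NO3S.CaseLW.QWa
import Cfsg.Agent.Mrg.Omega.NO3S.CaseLW.QWex
import Cfsg.Agent.Mrg.Omega.OM.SwapT.QuietL
import Cfsg.Agent.Mrg.Omega.Node.OffQOf


/-!
# THEOREM QW: the plug, every `q`, from (2') `ho` (helper866, #24897)

* `U_le_oz`, `U_sq` : `U = ⟨V_P^Y⟩ ≤ O₂(C_G(Z))`, of exponent 2;
* `U_le_o2_M` : under **(neg)**, `U ≤ O₂(M)`;
* **`offW_of_ho`** : THEOREM QW for `T ≤ S`, `Y ≤ C_G(Z)`;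
* `offW` : `OffW S P M` from `ho`; **`offHQ_of_ho : MLK → HoQ K → OffHQ K`**.
-/

set_option autoImplicit false
set_option linter.unusedSectionVars false

namespace Cfsg.Agent.Omega.NO3S.CaseLW.QWPlug

open Subgroup Cfsg Cfsg.Agent.ZN Cfsg.Agent.ZN.ChoiceBase Cfsg.Agent.Omega.MinPar Cfsg.Agent.Omega.Frame
open Cfsg.Agent.ZN.ChoiceSit (Syl)
open Cfsg.Agent.Omega.FrameNOFF (CZ)
open Cfsg.Agent.MinSimple.VModule (oddGen)
open Cfsg.Agent.Omega.NO3b.EZero (cl cl_le oddGen_sup_syl)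
open Cfsg.Agent.Omega.NO1.BestOff (Best)
open Cfsg.Agent.Omega.NO3S.Level (lim nxt CaseL)
open Cfsg.Agent.Omega.NO3S.WY (WQ ZJ BB)
open Cfsg.Agent.Omega.NO3S.CaseLW.QWc (Neg)
open Cfsg.Agent.Omega.OM.Lev.Uni (FrL)
open Cfsg.Agent.Omega.OM.SwapT.QuietL (OffW)
open Cfsg.Agent.Omega.ML.Final (MLK)
open Cfsg.Agent.Omega.Node.MulX (MulL)
open Cfsg.Agent.Omega.Node.OmTopQ (OffHQ)

universe u

variable {G : Type u} [Group G] [Finite G] {S : Sylow 2 G} {P T Y M : Subgroup G}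

section

variable (h : WQ S P T Y)
include h

/-- `U ≤ O₂(C_G(Z))` -/
theorem U_le_oz (hY : Y ≤ CZ (S : Subgroup G)) : cl (zl (S : Subgroup G) P) Y ≤ o2 (CZ (S : Subgroup G)) :=
  cl_le fun y hy => by
    have h1 := cj_mono y (h.cl.low P h.parP)
    rwa [cj_eq_of_mem_normalizer (MinSimple.VModule.le_normalizer_o2 _ (hY hy))] at h1

theorem U_sq {x : G} (hx : x ∈ cl (zl (S : Subgroup G) P) Y) : x * x = 1 := by
  have h2 := (ChoiceBase.mem_zc.1 (h.md_zl.le (QWc.U_le_zl h hx))).2.1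
  rwa [sq] at h2

/-- `U ≤ O₂(M)`, under **(neg)**. -/
theorem U_le_o2_M (ml : MLK.{u, u}) (hY : Y ≤ CZ (S : Subgroup G)) (hM : IsLoc (S : Subgroup G) M) (hK : IsKGroup M)
    (hPM : P ≤ M) (neg : Neg T Y (cl (zl (S : Subgroup G) P) Y)) {ι : Type*} {X ZJ₀ : Subgroup G}
    {L W Z C A : ι → Subgroup G} {q : ℕ}
    (fr : FrL (BB (S : Subgroup G) P) (o2 P) (zl (S : Subgroup G) P) X ZJ₀ L W Z C A q) {z : G}
    (hz : z ∈ zc (S : Subgroup G)) (hz1 : z ≠ 1)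
    (ho : ∀ i, ∀ c ∈ Z i, W i ≤ o2 (centralizer ({z * c} : Set G))) :
    cl (zl (S : Subgroup G) P) Y ≤ o2 M := by
  have hS : (S : Subgroup G) ≠ ⊥ := fun hb => hz1 (by
    have h1 := ZN.zc_le _ hz
    rw [hb] at h1
    exact mem_bot.1 h1)
  have hOS : o2 (centralizer (zc (S : Subgroup G) : Set G)) ≤ (S : Subgroup G) := (isLoc_centralizer_zc S hS).o2_le S
  have hO : o2 (CZ (S : Subgroup G)) ≤ o2 (M ⊓ centralizer (zc (S : Subgroup G) : Set G)) := by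
    refine MinSimple.VModule.le_o2 (le_inf (hOS.trans hM.le) (hOS.trans (le_centralizer_zc _)))
      (MinSimple.VModule.o2_isPGroup _) (inf_le_right.trans (MinSimple.VModule.le_normalizer_o2 _))
  have h1 := QW.cent_zl_q S h.hG ml hM hK (z := z) (MinSimple.VModule.zc_le_zl _ _ hz) (fun x hx => U_sq h hx)
    ((U_le_oz h hY).trans hO) fun off hne => QWex.hex h hM hPM neg fr hY hz ho off hne
  exact QW.le_o2_M S hM.le hS h1 (U_le_oz h hY)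

/-- **THEOREM QW**, `T ≤ S`, from (2') `ho`. -/
theorem offW_of_ho (ml : MLK.{u, u}) (BT : BB (S : Subgroup G) P ≤ T) (hY : Y ≤ CZ (S : Subgroup G))
    (hM : IsLoc (S : Subgroup G) M) (hK : IsKGroup M)
    (hPM : P ≤ M) (hD : centralizer (ZJ (S : Subgroup G) P : Set G) ≤ M)
    (hYZ : ¬ oddGen Y ≤ centralizer (ZJ (S : Subgroup G) P : Set G)) {ι : Type*} {X ZJ₀ : Subgroup G}
    {L W Z C A : ι → Subgroup G} {q : ℕ}
    (fr : FrL (BB (S : Subgroup G) P) (o2 P) (zl (S : Subgroup G) P) X ZJ₀ L W Z C A q) {z : G}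
    (hz : z ∈ zc (S : Subgroup G)) (hz1 : z ≠ 1)
    (ho : ∀ i, ∀ c ∈ Z i, W i ≤ o2 (centralizer ({z * c} : Set G))) :
    ∃ A ≤ T, Best (cl (zl (S : Subgroup G) P) Y) A ∧ ¬ A ≤ o2 Y := by
  obtain ⟨A, h1, h2, -, h3⟩ := QWd.exists_best_odd h BT hY hD hPM hYZ
    fun neg => U_le_o2_M h ml hY hM hK hPM neg fr hz hz1 ho
  exact ⟨A, h1, h2, h3⟩

end

/-- **OffW** from (2') `ho`. -/
theorem offW (hcl : CaseL S P) (ml : MLK.{u, u}) (hM : IsLoc (S : Subgroup G) M) (hPM : P ≤ M)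
    (hD : centralizer (ZJ (S : Subgroup G) P : Set G) ≤ M) {ι : Type*} {X ZJ₀ : Subgroup G}
    {L W Z C A : ι → Subgroup G} {q : ℕ}
    (fr : FrL (BB (S : Subgroup G) P) (o2 P) (zl (S : Subgroup G) P) X ZJ₀ L W Z C A q) {z : G}
    (hz : z ∈ zc (S : Subgroup G)) (hz1 : z ≠ 1)
    (ho : ∀ i, ∀ c ∈ Z i, W i ≤ o2 (centralizer ({z * c} : Set G))) : OffW S P M := by
  intro T Y hw hB _ hY hYM
  have hYZ : ¬ oddGen Y ≤ centralizer (ZJ (S : Subgroup G) P : Set G) := fun hle => hYM (by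
    rw [← oddGen_sup_syl hw.syl]
    exact sup_le (hle.trans hD) (hw.TS.trans hM.le))
  obtain ⟨A, h1, h2, h3⟩ := offW_of_ho hw ml hB hY hM (ML.GNN.kgroup_of_isLoc hcl.ctx hcl.ctx.not_isPGroup hM) hPM hD
    hYZ fr hz hz1 ho
  exact ⟨A, h1, by rw [Node.OffQOf.VF_eq]; exact h2, h3⟩

/-- (2') over `MulL`, `q ≥ 4`. -/
def HoQ (K : Cls.{u}) : Prop :=
  ∀ (G : Type u) [Group G] [Finite G], K G → ∀ (S : Sylow 2 G) (P B ZJ' : Subgroup G) (k : ℕ)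
    (L W Z C A : Fin k → Subgroup G) (q : ℕ), 2 ≤ k → 4 ≤ q → MulL S P B ZJ' L W Z C A q →
      ∃ z ∈ zc (S : Subgroup G), z ≠ 1 ∧ ∀ i, ∀ c ∈ Z i, W i ≤ o2 (centralizer ({z * c} : Set G))

/-- **OffHQ from (2').** -/
theorem offHQ_of_ho (ml : MLK.{u, u}) {K : Cls.{u}} (hK : HoQ K) : OffHQ K := by
  intro G _ _ hG S P B ZJ' k L W Z C A q hk hq h M hM hPM hD hN
  obtain ⟨z, hz, hz1, ho⟩ := hK G hG S P B ZJ' k L W Z C A q hk hq h
  have eB : B = BB (S : Subgroup G) P := h.eqB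
  have eZ : ZJ' = ZJ (S : Subgroup G) P := h.eZ
  subst eB
  exact offW h.cl ml hM hPM (eZ ▸ hD) h.fr hz hz1 ho

end Cfsg.Agent.Omega.NO3S.CaseLW.QWPlug
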