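import Cfsg.Agent.Mrg.Omega.NO3S.WY.Exact

section


/-!
# THEOREM QW (helper866, OMEGA #24897), steps (1), (4), (5), over `WY/Exact.lean` (helper498)

`WQ S P T Y`, `L = V_P = zl S P`, `U = ⟨L^Y⟩ = cl L Y`, `f(A) = fM U A = |A : C_A(U)| |C_U(A)|`, `B = C_S(Z_J) ≤ T`.

* `Neg T Y U` : **(neg)** every `A ≤ T` with `f(A)` maximal which moves `U` lies in `O₂(Y)`; `Neg.of_best`;
* `max_le` : **(1)** `f(A) ≤ |U|` for all `A ≤ T`;
* `Ex T U A` : `A ≤ T`, `A / C_A(U)` elementary abelian, `|U| ≤ f(A)`; `Ex.of_rel`, `Ex.of_best`; `Ex.le_o2` : `A ≤ O₂(Y)`;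
  `Ex.exact` : `|A : C_A(L^y)| = |L^y : C(A)|`; `Ex.cut` : `C_A(L^y)` is again `Ex`; `Ex.cj` : `A^y` is again `Ex`;
  `Ex.mem_BO`, `Ex.le_nxt`, `Ex.le_BB`, `Ex.cent_ZJ` : `A` is best on `L`, `A ≤ B`, `A` centralises `⟨Z_J^Y⟩`;
* `Y ≤ C_G(Z)` : `W_ex`, `W_le` : **(5)** all `W_F ≤ S` are `Ex`, so in `O₂(Y)`; `exists_act` : `⟨Z^GX⟩` is not FF and
  some `W_F ≤ S` moves `L`;
* `Vo S P V V₀` : `V₀ ≤ V ∩ O₂(C_G(Z_J))`, `P`-invariant; `Vo.of_M` : `V₀ = V ∩ O₂(M)`, `M ≥ C_G(Z_J), P`;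
  `Vo.le_E` : **(4)** `V₀ ≤ E_(F^p)` for `W_F ≤ S`, `p ∈ P`;
* `hex` : `|W_F : C(L)| ≤ |L : C(W_F)|`; `Vo.cent_AF` : `C_(V₀)(A_F^p) ≤ L F^p`; `Vo.comm_mem` : `[C_(V₀)(A_F^p), W_F^p] ≤ L`;
  `Vo.AF_ex`, `Vo.AF_le` : **(5)** `A_F^p` is `Ex`, so in `O₂(Y)`, for all `p ∈ P`, if `U ≤ V₀`.
-/

set_option autoImplicit false
set_option linter.unusedSectionVars false
set_option linter.dupNamespace false

namespace Cfsg.Agent.Omega.NO3S.CaseLW.QWc

open Subgroup Cfsg Cfsg.Agent.ZN Cfsg.Agent.ZN.ChoiceBase Cfsg.Agent.Omega.MinPar Cfsg.Agent.Omega.Frame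
open Cfsg.Agent.Omega.FrameNOFF (CZ)
open Cfsg.Agent.Omega.NO3b.EZero (cl cl_le le_cl cj_le_cl le_normalizer_cl)
open Cfsg.Agent.Omega.NO3S.Level
open Cfsg.Agent.Omega.NO3S.RedC
open Cfsg.Agent.Omega.NO3S.WY
open Cfsg.Agent.Omega.NO1.BestOff (Best)
open Cfsg.Agent.Omega.FFThm (OffM ElemM)
open Cfsg.Agent.Omega.NOThreeL.VF (fM fM_le fM_cj fM_of_le le_fM_iff fM_le_iff fM_mul card_eq_rel card_mul_card_le
  elemM_cj elemM_mono)
open scoped Pointwise

universe u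

variable {G : Type u} [Group G] [Finite G]

/-! ### `f` -/

section flat

variable {U W A T Y : Subgroup G}

/-- `f(A) |W : C_W(A)| ≤ f(C_A(W)) |A : C_A(W)|` for `W ≤ U` -/
theorem fM_mul_le (hW : W ≤ U) : fM U A * (centralizer (A : Set G)).relIndex W ≤
    fM U (A ⊓ centralizer (W : Set G)) * (centralizer (W : Set G)).relIndex A := by
  set A₀ : Subgroup G := A ⊓ centralizer (W : Set G) with hA₀
  have h1 : W ≤ U ⊓ centralizer (A₀ : Set G) := le_inf hW (le_centralizer_iff.1 inf_le_right)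
  have h2 : U ⊓ centralizer (A : Set G) ≤ U ⊓ centralizer (A₀ : Set G) :=
    inf_le_inf le_rfl (centralizer_le inf_le_left)
  have h3 := card_mul_card_le h1 h2
  have e3 : W ⊓ (U ⊓ centralizer (A : Set G)) = W ⊓ centralizer (A : Set G) := by
    rw [← inf_assoc, inf_eq_left.2 hW]
  rw [e3, card_eq_rel A W] at h3
  have p1 : 0 < Nat.card ↥(W ⊓ centralizer (A : Set G)) := Nat.card_pos
  have h4 : (centralizer (A : Set G)).relIndex W * Nat.card ↥(U ⊓ centralizer (A : Set G)) ≤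
      Nat.card ↥(U ⊓ centralizer (A₀ : Set G)) := by
    refine Nat.le_of_mul_le_mul_right (c := Nat.card ↥(W ⊓ centralizer (A : Set G))) ?_ p1
    calc _ = (centralizer (A : Set G)).relIndex W * Nat.card ↥(W ⊓ centralizer (A : Set G)) *
          Nat.card ↥(U ⊓ centralizer (A : Set G)) := by ring
      _ ≤ _ := h3
  have e4 : A₀ ⊓ centralizer (U : Set G) = A ⊓ centralizer (U : Set G) := by
    rw [hA₀, inf_assoc, inf_eq_right.2 (centralizer_le (s := (W : Set G)) hW)]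
  have e5 : (centralizer (U : Set G)).relIndex A =
      (centralizer (U : Set G)).relIndex A₀ * (centralizer (W : Set G)).relIndex A := by
    have q1 := card_eq_rel U A
    have q2 := card_eq_rel U A₀
    have q3 := card_eq_rel W A
    rw [e4] at q2
    rw [← hA₀, q2, q1] at q3
    have p3 : 0 < Nat.card ↥(A ⊓ centralizer (U : Set G)) := Nat.card_pos
    refine Nat.eq_of_mul_eq_mul_right p3 ?_
    rw [q3]; ring
  rw [fM, fM, e5]
  calc _ = (centralizer (U : Set G)).relIndex A₀ * (centralizer (W : Set G)).relIndex A *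
        ((centralizer (A : Set G)).relIndex W * Nat.card ↥(U ⊓ centralizer (A : Set G))) := by ring
    _ ≤ (centralizer (U : Set G)).relIndex A₀ * (centralizer (W : Set G)).relIndex A *
        Nat.card ↥(U ⊓ centralizer (A₀ : Set G)) := Nat.mul_le_mul_left _ h4
    _ = _ := by ring

/-- `|U| ≤ f(A)` iff `|U : C_U(A)| ≤ |A : C_A(U)|` -/
theorem le_fM_iff_rel : Nat.card U ≤ fM U A ↔
    (centralizer (A : Set G)).relIndex U ≤ (centralizer (U : Set G)).relIndex A := by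
  rw [le_fM_iff, FFThm.relIndex_le_iff]

/-- `f(A) ≤ |U|` iff `|A : C_A(U)| ≤ |U : C_U(A)|` -/
theorem fM_le_iff_rel : fM U A ≤ Nat.card U ↔
    (centralizer (U : Set G)).relIndex A ≤ (centralizer (A : Set G)).relIndex U := by
  rw [fM_le_iff, FFThm.relIndex_le_iff]

theorem elem_le (h : ElemM U A) (hW : W ≤ U) : ElemM W A :=
  ⟨fun a ha => centralizer_le hW (h.sq a ha), fun a ha b hb => centralizer_le hW (h.comm a ha b hb)⟩

/-- A best offender has `|U| ≤ f`. -/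
theorem le_fM_of_best (h : Best U A) : Nat.card U ≤ fM U A := by
  rw [le_fM_iff]
  have h1 := h.max (A ⊓ centralizer (U : Set G)) inf_le_left le_rfl
  have h2 : U ⊓ centralizer ((A ⊓ centralizer (U : Set G) : Subgroup G) : Set G) = U :=
    inf_eq_left.2 (le_centralizer_iff.1 inf_le_right)
  rw [h2, mul_comm] at h1
  exact h1

/-- **(neg)** : every `A ≤ T` with `f(A)` maximal which moves `U` lies in `O₂(Y)`. -/
def Neg (T Y U : Subgroup G) : Prop :=
  ∀ A ≤ T, ElemM U A → (∀ D ≤ T, ElemM U D → fM U D ≤ fM U A) → ¬ A ≤ centralizer (U : Set G) → A ≤ o2 Y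

/-- **(neg)** from: every best offender in `T` lies in `O₂(Y)` -/
theorem Neg.of_best (h : ∀ A ≤ T, Best U A → ¬ A ≤ centralizer (U : Set G) → A ≤ o2 Y) : Neg T Y U :=
  fun A hA hE hmax hne => h A hA
    { toElemM := hE
      max := fun D hD hc => by
        have e : D ⊓ centralizer (U : Set G) = A ⊓ centralizer (U : Set G) :=
          le_antisymm (inf_le_inf_right _ hD) (le_inf hc inf_le_right)
        have h1 := hmax D (hD.trans hA) (elemM_mono hE hD)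
        rw [← fM_mul, ← fM_mul, e]
        exact Nat.mul_le_mul_right _ h1 } hne

/-- `A ≤ T`, elementary abelian mod `C(U)`, `|U : C_U(A)| ≤ |A : C_A(U)|` -/
structure Ex (T U A : Subgroup G) : Prop where
  le : A ≤ T
  elem : ElemM U A
  f : Nat.card U ≤ fM U A

theorem Ex.of_rel (hA : A ≤ T) (hE : ElemM U A)
    (h : (centralizer (A : Set G)).relIndex U ≤ (centralizer (U : Set G)).relIndex A) : Ex T U A :=
  ⟨hA, hE, le_fM_iff_rel.2 h⟩

theorem Ex.of_best (hA : A ≤ T) (h : Best U A) : Ex T U A := ⟨hA, h.toElemM, le_fM_of_best h⟩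

theorem Ex.of_cent (hA : A ≤ T) (h : A ≤ centralizer (U : Set G)) : Ex T U A :=
  ⟨hA, ⟨fun a ha => h (A.pow_mem ha 2), fun a ha b hb =>
    h (A.mul_mem (A.mul_mem (A.mul_mem ha hb) (A.inv_mem ha)) (A.inv_mem hb))⟩, (fM_of_le h).ge⟩

end flat

/-! ### (1) -/

section one

variable {S : Sylow 2 G} {P T Y A : Subgroup G} (h : WQ S P T Y)
include h

theorem U_le_zl : cl (zl (S : Subgroup G) P) Y ≤ zl (S : Subgroup G) (GX (S : Subgroup G) P Y) :=
  cl_le fun y hy => by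
    have h1 := cj_mono y h.L_le_zl
    rwa [cj_eq_of_mem_normalizer (ZN.le_normalizer_zl _ _ (h.Y_le hy))] at h1

theorem U_le {V : Subgroup G} (hV : Md S P Y V) : cl (zl (S : Subgroup G) P) Y ≤ V := (U_le_zl h).trans hV.ge

theorem U_comm : cl (zl (S : Subgroup G) P) Y ≤ centralizer (cl (zl (S : Subgroup G) P) Y : Set G) :=
  ((U_le h h.md_zl).trans (h.Vc h.md_zl)).trans (centralizer_le (U_le h h.md_zl))

/-- `C_T(U) ≤ O₂(Y)` -/
theorem cent_le (hA : A ≤ T) (hc : A ≤ centralizer (cl (zl (S : Subgroup G) P) Y : Set G)) : A ≤ o2 Y :=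
  (le_inf (hA.trans h.TS) hc).trans (h.cs_le_Y (le_normalizer_cl _ _) (le_cl _ _))

omit h in
/-- A subgroup which moves `U` moves some `L^y`. -/
theorem exists_line (hne : ¬ A ≤ centralizer (cl (zl (S : Subgroup G) P) Y : Set G)) :
    ∃ y ∈ Y, ¬ A ≤ centralizer (cj y (zl (S : Subgroup G) P) : Set G) := by
  by_contra hcon
  push Not at hcon
  exact hne (le_centralizer_iff.1 (cl_le fun y hy => le_centralizer_iff.1 (hcon y hy)))

theorem cj_le_o2 (hA : A ≤ o2 Y) {y : G} (hy : y ∈ Y) : cj y A ≤ o2 Y := by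
  have h1 := cj_mono y hA
  rwa [cj_eq_of_mem_normalizer (ZN.le_normalizer_o2 _ hy)] at h1

/-- `A ≤ O₂(Y)` is no over-offender on `L^y`. -/
theorem noOver (hA : A ≤ o2 Y) (hE : ElemM (cl (zl (S : Subgroup G) P) Y) A) {y : G} (hy : y ∈ Y) :
    Nat.card A * Nat.card ↥(cj y (zl (S : Subgroup G) P) ⊓ centralizer (A : Set G)) ≤
      Nat.card (cj y (zl (S : Subgroup G) P)) *
        Nat.card ↥(A ⊓ centralizer (cj y (zl (S : Subgroup G) P) : Set G)) := by
  have hy' : y⁻¹ ∈ Y := Y.inv_mem hy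
  by_cases hc : A ≤ centralizer (cj y (zl (S : Subgroup G) P) : Set G)
  · rw [inf_eq_left.2 hc, mul_comm]
    exact Nat.mul_le_mul_right _ (card_le_of_le inf_le_left)
  have hUn : cj y⁻¹ (cl (zl (S : Subgroup G) P) Y) = cl (zl (S : Subgroup G) P) Y :=
    cj_eq_of_mem_normalizer (le_normalizer_cl _ _ hy')
  have hE' : ElemM (zl (S : Subgroup G) P) (cj y⁻¹ A) :=
    elem_le (elemM_cj (le_normalizer_cl _ _ hy') hE) (le_cl _ _)
  have e1 : cj y⁻¹ (cj y (zl (S : Subgroup G) P) ⊓ centralizer (A : Set G)) =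
      zl (S : Subgroup G) P ⊓ centralizer (cj y⁻¹ A : Set G) := by
    rw [cj_inf, cj_inv_cj, cj_centralizer]
  have e2 : cj y⁻¹ (A ⊓ centralizer (cj y (zl (S : Subgroup G) P) : Set G)) =
      cj y⁻¹ A ⊓ centralizer (zl (S : Subgroup G) P : Set G) := by
    rw [cj_inf, cj_centralizer, cj_inv_cj]
  have hne : ¬ cj y⁻¹ A ≤ centralizer (zl (S : Subgroup G) P : Set G) := fun h1 => hc (by
    have h2 := cj_mono y h1
    rwa [cj_cj_inv, cj_centralizer] at h2)
  have h3 := noOver_line FF.Glob.ffthmM.{u} h.hG h.parP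
    (((cj_le_o2 h hA hy').trans h.o2Y_le).trans h.parP.le) hE' hne
  rw [← e1, ← e2, card_cj, card_cj, card_cj] at h3
  rw [card_cj]
  exact h3

/-- **(1)** : `f(A) ≤ |U|` -/
theorem max_le (neg : Neg T Y (cl (zl (S : Subgroup G) P) Y)) (hA : A ≤ T)
    (hE : ElemM (cl (zl (S : Subgroup G) P) Y) A) :
    fM (cl (zl (S : Subgroup G) P) Y) A ≤ Nat.card (cl (zl (S : Subgroup G) P) Y) := by
  set U := cl (zl (S : Subgroup G) P) Y with hU
  by_contra hcon
  rw [not_le] at hcon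
  let 𝒞 : Set (Subgroup G) := {D | D ≤ T ∧ ElemM U D}
  obtain ⟨B₁, hB₁, hmax⟩ := Set.exists_max_image 𝒞 (fM U) (Set.toFinite _) ⟨A, hA, hE⟩
  obtain ⟨B, ⟨hB, hBf⟩, hmin⟩ := Set.exists_min_image {B | B ∈ 𝒞 ∧ fM U B = fM U B₁}
    (fun B => (centralizer (U : Set G)).relIndex B) (Set.toFinite _) ⟨B₁, hB₁, rfl⟩
  have hB1 : Nat.card U < fM U B := by
    rw [hBf]
    exact hcon.trans_le (hmax A ⟨hA, hE⟩)
  have hne : ¬ B ≤ centralizer (U : Set G) := fun h1 => by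
    rw [fM_of_le h1] at hB1
    exact lt_irrefl _ hB1
  have hBY : B ≤ o2 Y := neg B hB.1 hB.2 (fun D hD hDE => by rw [hBf]; exact hmax D ⟨hD, hDE⟩) hne
  obtain ⟨y, hy, hyB⟩ := exists_line hne
  have hyU : cj y (zl (S : Subgroup G) P) ≤ U := cj_le_cl hy
  have hle := fM_le hyU (noOver h hBY hB.2 hy)
  set B₀ : Subgroup G := B ⊓ centralizer (cj y (zl (S : Subgroup G) P) : Set G) with hB₀
  have hB₀C : B₀ ∈ 𝒞 := ⟨inf_le_left.trans hB.1, elemM_mono hB.2 inf_le_left⟩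
  have h2 : fM U B₀ = fM U B₁ := le_antisymm (hmax B₀ hB₀C) (hBf ▸ hle)
  have h3 := hmin B₀ ⟨hB₀C, h2⟩
  have e4 : B₀ ⊓ centralizer (U : Set G) = B ⊓ centralizer (U : Set G) := by
    rw [hB₀, inf_assoc, inf_eq_right.2 (centralizer_le (s := (cj y (zl (S : Subgroup G) P) : Set G)) hyU)]
  have h4 : Nat.card B ≤ Nat.card B₀ := by
    rw [card_eq_rel U B, card_eq_rel U B₀, e4]
    exact Nat.mul_le_mul_right _ h3
  have h5 : B₀ = B := Subgroup.eq_of_le_of_card_ge inf_le_left h4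
  exact hyB (inf_eq_left.1 h5)

variable (neg : Neg T Y (cl (zl (S : Subgroup G) P) Y)) (x : Ex T (cl (zl (S : Subgroup G) P) Y) A)
include neg x

theorem Ex.le_o2 : A ≤ o2 Y := by
  by_cases hc : A ≤ centralizer (cl (zl (S : Subgroup G) P) Y : Set G)
  · exact cent_le h x.le hc
  · exact neg A x.le x.elem (fun D hD hDE => (max_le h neg hD hDE).trans x.f) hc

theorem Ex.eq : fM (cl (zl (S : Subgroup G) P) Y) A = Nat.card (cl (zl (S : Subgroup G) P) Y) :=
  le_antisymm (max_le h neg x.le x.elem) x.f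

/-- `C_A(L^y)` is exact too. -/
theorem Ex.cut {y : G} (hy : y ∈ Y) :
    Ex T (cl (zl (S : Subgroup G) P) Y) (A ⊓ centralizer (cj y (zl (S : Subgroup G) P) : Set G)) where
  le := inf_le_left.trans x.le
  elem := elemM_mono x.elem inf_le_left
  f := x.f.trans (fM_le (cj_le_cl hy) (noOver h (Ex.le_o2 h neg x) x.elem hy))

/-- **exactness on `L^y`** -/
theorem Ex.exact {y : G} (hy : y ∈ Y) :
    (centralizer (cj y (zl (S : Subgroup G) P) : Set G)).relIndex A =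
      (centralizer (A : Set G)).relIndex (cj y (zl (S : Subgroup G) P)) := by
  refine le_antisymm (FFThm.relIndex_le_iff.1 (noOver h (Ex.le_o2 h neg x) x.elem hy)) ?_
  have h1 := fM_mul_le (U := cl (zl (S : Subgroup G) P) Y) (A := A) (cj_le_cl hy : cj y (zl (S : Subgroup G) P) ≤ _)
  rw [Ex.eq h neg x, Ex.eq h neg (Ex.cut h neg x hy)] at h1
  exact Nat.le_of_mul_le_mul_left h1 Nat.card_pos

/-- `L` itself -/
theorem Ex.exact_one : (centralizer (zl (S : Subgroup G) P : Set G)).relIndex A =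
    (centralizer (A : Set G)).relIndex (zl (S : Subgroup G) P) := by
  have h1 := Ex.exact h neg x (y := 1) Y.one_mem
  rwa [cj_one] at h1

theorem Ex.cj {y : G} (hy : y ∈ Y) : Ex T (cl (zl (S : Subgroup G) P) Y) (ChoiceBase.cj y A) where
  le := (cj_le_o2 h (Ex.le_o2 h neg x) hy).trans h.o2Y_T
  elem := elemM_cj (le_normalizer_cl _ _ hy) x.elem
  f := by
    rw [(fM_cj (A := A) (le_normalizer_cl (zl (S : Subgroup G) P) Y hy)).1]
    exact x.f

/-- an exact `A` is a best offender on `L` (or centralises it) -/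
theorem Ex.mem_BO : A ∈ BO (S : Subgroup G) (o2 P) := by
  refine ⟨x.le.trans h.TS, ?_⟩
  rw [h.cl.zc_eq]
  have hE : ElemM (zl (S : Subgroup G) P) A := elem_le x.elem (le_cl _ _)
  refine { toElemM := hE, max := fun D hD hc => ?_ }
  have e : D ⊓ centralizer (zl (S : Subgroup G) P : Set G) = A ⊓ centralizer (zl (S : Subgroup G) P : Set G) :=
    le_antisymm (inf_le_inf_right _ hD) (le_inf hc inf_le_right)
  have hno := noOver h (hD.trans (Ex.le_o2 h neg x)) (elemM_mono x.elem hD) (y := 1) Y.one_mem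
  rw [cj_one, e] at hno
  exact hno.trans (FFThm.relIndex_le_iff.2 (Ex.exact_one h neg x).ge)

theorem Ex.le_nxt : A ≤ nxt (S : Subgroup G) (o2 P) := BO.le_nxt (Ex.mem_BO h neg x)

theorem Ex.le_BB : A ≤ BB (S : Subgroup G) P := (Ex.le_nxt h neg x).trans (nxt_le_BB _ _)

/-- an exact `A` centralises `⟨Z_J^Y⟩` -/
theorem Ex.cent_ZJ : A ≤ centralizer (cl (ZJ (S : Subgroup G) P) Y : Set G) := by
  refine le_centralizer_iff.1 (cl_le fun y hy => le_centralizer_iff.1 ?_)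
  have h1 := (Ex.le_BB h neg (Ex.cj h neg x (Y.inv_mem hy))).trans inf_le_right
  have h2 := cj_mono y h1
  rwa [cj_cj_inv, cj_centralizer] at h2

end one

/-! ### (5), first part: the groups `W_F ≤ S` -/

section W

variable {S : Sylow 2 G} {P T Y V F : Subgroup G} (h : WQ S P T Y) (BT : BB (S : Subgroup G) P ≤ T)
  (hY : Y ≤ CZ (S : Subgroup G))
include h BT hY

theorem W_ex (hV : Md S P Y V) (hF : NOne.Flat.Hyp V F) (hW : NOne.Flat.WW V F ≤ (S : Subgroup G)) :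
    Ex T (cl (zl (S : Subgroup G) P) Y) (NOne.Flat.WW V F) :=
  Ex.of_best ((h.W_B hV hF hW).trans BT) (bestW hF ((LMd.low h BT hY).U_E' hV hF hW))

variable (neg : Neg T Y (cl (zl (S : Subgroup G) P) Y))
include neg

/-- **(5)** : all `W_F ≤ S` lie in `O₂(Y)` -/
theorem W_le (hV : Md S P Y V) (hF : NOne.Flat.Hyp V F) (hW : NOne.Flat.WW V F ≤ (S : Subgroup G)) :
    NOne.Flat.WW V F ≤ o2 Y := Ex.le_o2 h neg (W_ex h BT hY hV hF hW)

/-- **(5)** : `⟨Z^GX⟩` is not FF and some `W_F ≤ S` moves `L`. -/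
theorem exists_act : NO3b.EZero.NotFF (zl (S : Subgroup G) (GX (S : Subgroup G) P Y)) ∧
    ∃ F, ActW S P (zl (S : Subgroup G) (GX (S : Subgroup G) P Y)) F := by
  rcases h.cut with hp | ⟨hn, ha | ⟨F, hw⟩⟩
  · exfalso
    obtain ⟨A, mA, hAP, hAY⟩ := hp.act
    exact hAY (Ex.le_o2 h neg (Ex.of_best (hAP.trans h.QT) (best_mono mA.best (U_le_zl h) (h.Vc h.md_zl))))
  · exact ⟨hn, ha⟩
  · exact absurd (W_le h BT hY neg h.md_zl hw.hyp (hw.WQ.trans h.o2P_le)) hw.mv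

end W

/-! ### (4), (5): the groups `A_F = C_(W_F)(L)` and their conjugates under `P` -/

/-- `V₀ ≤ V ∩ O₂(C_G(Z_J))`, invariant under `P` -/
structure Vo (S : Sylow 2 G) (P V V₀ : Subgroup G) : Prop where
  le : V₀ ≤ V
  norm : P ≤ normalizer (V₀ : Set G)
  low : V₀ ≤ o2 (centralizer (ZJ (S : Subgroup G) P : Set G))

section AF

variable {S : Sylow 2 G} {P T Y V V₀ F : Subgroup G} (h : WQ S P T Y) (hV : Md S P Y V)
include h hV

theorem PV : P ≤ normalizer (V : Set G) := h.P_le.trans hV.norm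

/-- `V₀ = V ∩ O₂(M)`, `C_G(Z_J), P ≤ M` -/
theorem Vo.of_M {M : Subgroup G} (hM : centralizer (ZJ (S : Subgroup G) P : Set G) ≤ M) (hP : P ≤ M) :
    Vo S P V (V ⊓ o2 M) where
  le := inf_le_left
  norm := by
    intro p hp
    refine mem_normalizer_of_cj_le ?_
    rw [cj_inf, cj_eq_of_mem_normalizer (PV h hV hp), cj_eq_of_mem_normalizer (ZN.le_normalizer_o2 _ (hP hp))]
  low := by
    have h1 : V ≤ centralizer (ZJ (S : Subgroup G) P : Set G) :=
      (h.Vc hV).trans (centralizer_le ((ZJ_le h.cl).trans (h.L_le_V hV)))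
    intro v hv
    exact NOne.Flat.o2_inf_le_o2 hM ⟨hv.2, h1 hv.1⟩

theorem cj_L {p : G} (hp : p ∈ P) : cj p (zl (S : Subgroup G) P) = zl (S : Subgroup G) P :=
  cj_eq_of_mem_normalizer (ZN.le_normalizer_zl _ _ hp)

/-- `A_F^p = C_(W_(F^p))(L)` -/
theorem cj_AF {p : G} (hp : p ∈ P) :
    cj p (NOne.Flat.WW V F ⊓ centralizer (zl (S : Subgroup G) P : Set G)) =
      NOne.Flat.WW V (MulAut.conj p • F) ⊓ centralizer (zl (S : Subgroup G) P : Set G) := by
  rw [cj_inf, cj_centralizer, cj_L h hV hp, WW_cj (PV h hV hp)]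

variable (hF : NOne.Flat.Hyp V F) (hW : NOne.Flat.WW V F ≤ (S : Subgroup G))
include hF hW

/-- **exactness of `W_F` on `L`** -/
theorem hex : (centralizer (zl (S : Subgroup G) P : Set G)).relIndex (NOne.Flat.WW V F) ≤
    (centralizer (NOne.Flat.WW V F : Set G)).relIndex (zl (S : Subgroup G) P) := by
  by_cases hc : NOne.Flat.WW V F ≤ centralizer (zl (S : Subgroup G) P : Set G)
  · rw [relIndex_eq_one.2 hc]
    exact Nat.one_le_iff_ne_zero.2 index_ne_zero_of_finite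
  · exact FFThm.relIndex_le_iff.1 (noOver_line FF.Glob.ffthmM.{u} h.hG h.parP (hW.trans h.parP.le)
      (elemW hF (h.L_le_V hV)) hc)

/-- the same for `F^p` -/
theorem hex_cj {p : G} (hp : p ∈ P) :
    (centralizer (zl (S : Subgroup G) P : Set G)).relIndex (NOne.Flat.WW V (MulAut.conj p • F)) ≤
    (centralizer (NOne.Flat.WW V (MulAut.conj p • F) : Set G)).relIndex (zl (S : Subgroup G) P) := by
  have h1 := FFThm.relIndex_le_iff.2 (hex h hV hF hW)
  have e1 : zl (S : Subgroup G) P ⊓ centralizer (NOne.Flat.WW V (MulAut.conj p • F) : Set G) =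
      cj p (zl (S : Subgroup G) P ⊓ centralizer (NOne.Flat.WW V F : Set G)) := by
    rw [cj_inf, cj_centralizer, cj_L h hV hp, WW_cj (PV h hV hp)]
  refine FFThm.relIndex_le_iff.1 ?_
  rw [← cj_AF h hV hp, e1, card_cj, card_cj, WW_cj (PV h hV hp), card_cj]
  exact h1

/-- `L ≤ E_(F^p)` -/
theorem L_le_E_cj {p : G} (hp : p ∈ P) : zl (S : Subgroup G) P ≤ NOne.Flat.EE V (MulAut.conj p • F) := by
  have h1 := cj_mono p (h.L_le_E hV hF hW)
  rw [cj_L h hV hp] at h1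
  refine h1.trans ?_
  rw [← NOne.Flat.EE_conj (PV h hV hp)]
  rfl

variable (w : Vo S P V V₀)
include w

/-- **(4)** -/
theorem Vo.le_E {p : G} (hp : p ∈ P) : V₀ ≤ NOne.Flat.EE V (MulAut.conj p • F) := by
  have h1 := cj_mono p (h.le_E' hV hF (R := ZJ (S : Subgroup G) P) le_rfl w.le w.low hW)
  rw [cj_eq_of_mem_normalizer (w.norm hp)] at h1
  refine h1.trans ?_
  rw [← NOne.Flat.EE_conj (PV h hV hp)]
  rfl

/-- **(5)** : `C_(V₀)(A_F^p) ≤ L F^p` -/
theorem Vo.cent_AF {p : G} (hp : p ∈ P) :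
    V₀ ⊓ centralizer (cj p (NOne.Flat.WW V F ⊓ centralizer (zl (S : Subgroup G) P : Set G)) : Set G) ≤
      zl (S : Subgroup G) P ⊔ MulAut.conj p • F := by
  rw [cj_AF h hV hp, ← WY.cent_AF (hyp_cj hF (PV h hV hp)) (L_le_E_cj h hV hF hW hp) (hex_cj h hV hF hW hp)]
  exact inf_le_inf_right _ (Vo.le_E h hV hF hW w hp)

/-- **(5)** : `[C_(V₀)(A_F^p), W_F^p] ≤ L` -/
theorem Vo.comm_mem {p : G} (hp : p ∈ P) {v : G} (hv : v ∈ V₀)
    (hc : v ∈ centralizer (cj p (NOne.Flat.WW V F ⊓ centralizer (zl (S : Subgroup G) P : Set G)) : Set G)) {x : G}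
    (hx : x ∈ cj p (NOne.Flat.WW V F)) : x * v * x⁻¹ * v⁻¹ ∈ zl (S : Subgroup G) P := by
  have hLV := h.L_le_V hV
  have hFp := hyp_cj hF (PV h hV hp)
  have hFL : ∀ l ∈ zl (S : Subgroup G) P, ∀ f ∈ MulAut.conj p • F, l * f = f * l := fun l hl f hf =>
    mem_centralizer_iff.1 ((h.Vc hV) (hFp.F_le_V hf)) l (hLV hl)
  obtain ⟨l, hl, f, hf, rfl⟩ := SQ1.Bau.mem_sup_comm hFL (Vo.cent_AF h hV hF hW w hp ⟨hv, hc⟩)
  have hxW : x ∈ NOne.Flat.WW V (MulAut.conj p • F) := by rwa [WW_cj (PV h hV hp)]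
  have h1 : x * f = f * x := (mem_centralizer_iff.1 (NOne.Flat.Hyp.W_le_X hxW) f hf).symm
  have hxP : x ∈ P := by
    have h2 := cj_mono p (hW.trans h.parP.le) hx
    rwa [cj_eq_of_mem_normalizer (le_normalizer hp)] at h2
  have h3 : x * l * x⁻¹ ∈ zl (S : Subgroup G) P := (mem_normalizer_iff.1 (ZN.le_normalizer_zl _ _ hxP) l).1 hl
  have e : x * (l * f) * x⁻¹ * (l * f)⁻¹ = (x * l * x⁻¹) * l⁻¹ := by
    have h4 : f * x⁻¹ = x⁻¹ * f := by
      have : x⁻¹ * (x * f) * x⁻¹ = x⁻¹ * (f * x) * x⁻¹ := by rw [h1]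
      simpa [mul_assoc] using this
    calc x * (l * f) * x⁻¹ * (l * f)⁻¹ = x * l * (f * x⁻¹) * f⁻¹ * l⁻¹ := by group
      _ = x * l * (x⁻¹ * f) * f⁻¹ * l⁻¹ := by rw [h4]
      _ = _ := by group
  rw [e]
  exact mul_mem h3 (inv_mem hl)

variable (hU : cl (zl (S : Subgroup G) P) Y ≤ V₀)
include hU

/-- **(5)** : `A_F^p` is exact on `U` for all `p ∈ P`. -/
theorem Vo.AF_ex {p : G} (hp : p ∈ P) : Ex T (cl (zl (S : Subgroup G) P) Y)
    (cj p (NOne.Flat.WW V F ⊓ centralizer (zl (S : Subgroup G) P : Set G))) := by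
  have hPV := PV h hV hp
  have hQ : cj p (NOne.Flat.WW V F ⊓ centralizer (zl (S : Subgroup G) P : Set G)) ≤ o2 P := by
    have h1 : NOne.Flat.WW V F ⊓ centralizer (zl (S : Subgroup G) P : Set G) ≤ o2 P := by
      rw [← h.parP.inf_centralizer S h.hG]
      exact inf_le_inf_right _ hW
    have h2 := cj_mono p h1
    rwa [cj_eq_of_mem_normalizer (ZN.le_normalizer_o2 _ hp)] at h2
  refine ⟨hQ.trans h.QT, ?_, ?_⟩
  · rw [cj_AF h hV hp]
    exact elemM_mono (elemW (hyp_cj hF hPV) (hU.trans w.le)) inf_le_left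
  · rw [cj_AF h hV hp, le_fM_iff]
    exact WY.best_AF (hyp_cj hF hPV) (le_cl _ _) (hU.trans (Vo.le_E h hV hF hW w hp)) (hex_cj h hV hF hW hp)

/-- **(5)** : `A_F^p ≤ O₂(Y)` for all `p ∈ P`. -/
theorem Vo.AF_le (neg : Neg T Y (cl (zl (S : Subgroup G) P) Y)) {p : G} (hp : p ∈ P) :
    cj p (NOne.Flat.WW V F ⊓ centralizer (zl (S : Subgroup G) P : Set G)) ≤ o2 Y :=
  Ex.le_o2 h neg (Vo.AF_ex h hV hF hW w hU hp)

end AF

end Cfsg.Agent.Omega.NO3S.CaseLW.QWc

end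

section


/-!
# THEOREM QW (helper866, OMEGA #24897), step (6) and the end, general form (helper498)

`WQ S P T Y`, `B ≤ T`, `Y ≤ C_G(Z)`, `L = V_P`, `U = ⟨L^Y⟩`; `C_G(Z_J), P, S ≤ M`, `Y ≰ M`, `U ≤ O₂(M)`.  Then **(neg)** is
false (`not_neg`): some best offender `A ≤ T` on `U` moves `U` and does not lie in `O₂(Y)` (`exists_best`).  For `Y ≰ M` one
may take `O²(Y) ≰ C(Z_J)` (`not_neg_odd`, `exists_best_odd`).

No structure of `P` on `V_P` is used: `K^ = KK T U` is generated by the exact groups (`Ex T U A`), `R₁ = C_L(K^) ≥ Z_J`,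
`U₁ = ⟨R₁^Y⟩ ≤ C_U(K^)`, `U₁ ∩ L = R₁`; `U₁ > R₁`; `u ∈ U₁ - R₁` with `[u, T] ≤ R₁`; `X = [u, Q] ≤ R₁` is invariant under
`⟨W_F^P⟩ ≥ O²(P)` and centralised by all `W_F ≤ S`, so `X ≤ C_L(O²(P)) = 1`; so `u ∈ C_V(Q) = L`.
-/

set_option autoImplicit false
set_option linter.unusedSectionVars false
set_option linter.dupNamespace false

namespace Cfsg.Agent.Omega.NO3S.CaseLW.QWd

open Subgroup Cfsg Cfsg.Agent.ZN Cfsg.Agent.ZN.ChoiceBase Cfsg.Agent.Omega.MinPar Cfsg.Agent.Omega.Frame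
open Cfsg.Agent.Omega.FrameNOFF (CZ)
open Cfsg.Agent.ZN.ChoiceSit (Syl)
open Cfsg.Agent.MinSimple.VModule (oddGen)
open Cfsg.Agent.Omega.NO3b.EZero (cl cl_le le_cl cj_le_cl le_normalizer_cl oddGen_sup_syl)
open Cfsg.Agent.Omega.NO3S.Level
open Cfsg.Agent.Omega.NO3S.RedC
open Cfsg.Agent.Omega.NO3S.WY
open Cfsg.Agent.Omega.NO3S.CaseLW.QWc
open Cfsg.Agent.Omega.NO1.BestOff (Best)
open Cfsg.Agent.Omega.FFThm (OffM ElemM)
open scoped Pointwise

universe u

variable {G : Type u} [Group G] [Finite G]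

/-- the group generated by the exact subgroups of `T` -/
def KK (T U : Subgroup G) : Subgroup G := sSup {A | Ex T U A}

theorem le_KK {T U A : Subgroup G} (x : Ex T U A) : A ≤ KK T U := le_sSup x

section

variable {S : Sylow 2 G} {P T Y : Subgroup G} (h : WQ S P T Y) (neg : Neg T Y (cl (zl (S : Subgroup G) P) Y))
include h neg

theorem KK_le : KK T (cl (zl (S : Subgroup G) P) Y) ≤ o2 Y := sSup_le fun _ x => Ex.le_o2 h neg x

theorem KK_BB : KK T (cl (zl (S : Subgroup G) P) Y) ≤ BB (S : Subgroup G) P := sSup_le fun _ x => Ex.le_BB h neg x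

theorem KK_norm : Y ≤ normalizer (KK T (cl (zl (S : Subgroup G) P) Y) : Set G) := by
  intro y hy
  refine mem_normalizer_of_cj_le (cj_le_iff.2 (sSup_le fun A x => ?_))
  have h1 := cj_mono y⁻¹ (le_KK (Ex.cj h neg x hy))
  rwa [cj_inv_cj] at h1

/-- `Z_J ≤ C_L(K^)` -/
theorem ZJ_le_R : ZJ (S : Subgroup G) P ≤ zl (S : Subgroup G) P ⊓
    centralizer (KK T (cl (zl (S : Subgroup G) P) Y) : Set G) :=
  le_inf (ZJ_le h.cl) (le_centralizer_iff.1 ((KK_BB h neg).trans inf_le_right))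

end

/-- `X ≤ L` is `O²(P)`-invariant and centralised by all members of `S` of an `S`-invariant family, one of which is not in
`O₂(P)` : `X = 1`. -/
theorem eq_bot_of {S : Sylow 2 G} {P T Y : Subgroup G} (h : WQ S P T Y) {X : Subgroup G}
    (hXL : X ≤ zl (S : Subgroup G) P) (hX : oddGen P ≤ normalizer (X : Set G)) {𝓦 : Set (Subgroup G)}
    (h𝓦 : ∀ W ∈ 𝓦, ∀ s ∈ (S : Subgroup G), cj s W ∈ 𝓦) (hc : ∀ W ∈ 𝓦, X ≤ centralizer (W : Set G)) {W : Subgroup G}
    (hW : W ∈ 𝓦) (hWS : W ≤ (S : Subgroup G)) (hWP : ¬ W ≤ o2 P) : X = ⊥ := by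
  have hSP : (S : Subgroup G) ≤ P := h.parP.le
  have hsyl : Syl (S : Subgroup G) P := FFThm.syl_of_sylow S hSP
  set X₁ : Subgroup G := cl X S with hX₁
  have h1 : oddGen P ≤ normalizer (X₁ : Set G) := by
    intro g hg
    refine mem_normalizer_of_cj_le (cj_le_iff.2 (cl_le fun s hs => cj_le_iff.1 ?_))
    have h2 : cj s⁻¹ (oddGen P) = oddGen P := cj_eq_of_mem_normalizer
      (MinSimple.VModule.le_normalizer_oddGen P (inv_mem (hSP hs)))
    have h3 : s⁻¹ * g * s ∈ oddGen P := by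
      have h4 : s⁻¹ * g * s ∈ cj s⁻¹ (oddGen P) := by
        rw [mem_cj]
        have e : s⁻¹⁻¹ * (s⁻¹ * g * s) * s⁻¹ = g := by group
        rwa [e]
      rwa [h2] at h4
    have h5 : cj (s⁻¹ * g * s) X = X := cj_eq_of_mem_normalizer (hX h3)
    have h6 : cj g (cj s X) = cj s X := by
      have e : g * s = s * (s⁻¹ * g * s) := by group
      rw [cj_cj, e, ← cj_cj, h5]
    rw [h6]
    exact cj_le_cl hs
  have h2 : P ≤ normalizer (X₁ : Set G) := by
    rw [← oddGen_sup_syl hsyl]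
    exact sup_le h1 (le_normalizer_cl _ _)
  have h3 : X₁ ≤ zl (S : Subgroup G) P := cl_le fun s hs => by
    have h4 := cj_mono s hXL
    rwa [cj_eq_of_mem_normalizer (ZN.le_normalizer_zl _ _ (hSP hs))] at h4
  have h4 : X₁ ≤ centralizer (W : Set G) := cl_le fun s hs => by
    have h5 := cj_mono s (hc _ (h𝓦 W hW s⁻¹ (inv_mem hs)))
    rwa [cj_centralizer, cj_cj_inv] at h5
  have hPP : P ≤ normalizer ((P ⊓ centralizer (X₁ : Set G) : Subgroup G) : Set G) :=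
    NO3b.EZero.le_normalizer_inf_cent h2
  have h5 : oddGen P ≤ centralizer (X₁ : Set G) := by
    rcases NO3b.K0.min_or hsyl h.parP.toIsMinPar (K := P ⊓ centralizer (X₁ : Set G)) inf_le_left hPP with h6 | h6
    · exact h6.trans inf_le_right
    · exact absurd ((le_inf hWS (le_inf (hWS.trans hSP) (le_centralizer_iff.1 h4))).trans h6) hWP
  have h6 : X₁ ≤ FrameFF.cv (S : Subgroup G) P := le_inf h3 (le_centralizer_iff.1 h5)
  rw [h.hyp.cv] at h6
  exact le_bot_iff.1 ((le_cl X S).trans h6)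

section

variable {S : Sylow 2 G} {P T Y : Subgroup G} (h : WQ S P T Y) (BT : BB (S : Subgroup G) P ≤ T)
  (hY : Y ≤ CZ (S : Subgroup G))
include h BT hY

/-- **THEOREM QW, the end** (`O²(Y)` moves `Z_J`). -/
theorem not_neg_odd {M : Subgroup G} (hM : centralizer (ZJ (S : Subgroup G) P : Set G) ≤ M) (hP : P ≤ M)
    (hYZ : ¬ oddGen Y ≤ centralizer (ZJ (S : Subgroup G) P : Set G))
    (hUM : cl (zl (S : Subgroup G) P) Y ≤ o2 M) : ¬ Neg T Y (cl (zl (S : Subgroup G) P) Y) := by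
  intro neg
  have hSP : (S : Subgroup G) ≤ P := h.parP.le
  have hsyl : Syl (S : Subgroup G) P := FFThm.syl_of_sylow S hSP
  set L : Subgroup G := zl (S : Subgroup G) P with hL
  set U : Subgroup G := cl L Y with hU
  set K : Subgroup G := KK T U with hK
  set R : Subgroup G := L ⊓ centralizer (K : Set G) with hR
  set U₁ : Subgroup G := cl R Y with hU₁
  set V : Subgroup G := zl (S : Subgroup G) (GX (S : Subgroup G) P Y) with hVd
  have hV : Md S P Y V := h.md_zl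
  have hLV : L ≤ V := h.L_le_V hV
  have hUV : U ≤ V := U_le_zl h
  have hQL : o2 P ≤ centralizer (L : Set G) := by
    rw [hL, ← h.cl.zc_eq]; exact Level.le_centralizer_zc _
  have hKY : Y ≤ normalizer (K : Set G) := KK_norm h neg
  have hU₁U : U₁ ≤ U := cl_le fun y hy => (cj_mono y inf_le_left).trans (cj_le_cl hy)
  have hU₁K : U₁ ≤ centralizer (K : Set G) := cl_le fun y hy => by
    have h1 := cj_mono y (inf_le_right : R ≤ centralizer (K : Set G))
    rwa [cj_centralizer, cj_eq_of_mem_normalizer (hKY hy)] at h1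
  -- `U₁ > R`
  have hne : ¬ U₁ ≤ R := by
    intro h1
    have h2 : U₁ = R := le_antisymm h1 (le_cl _ _)
    have h3 : Y ≤ normalizer (R : Set G) := by
      rw [← h2]; exact le_normalizer_cl _ _
    have hYY : Y ≤ normalizer ((Y ⊓ centralizer (R : Set G) : Subgroup G) : Set G) :=
      NO3b.EZero.le_normalizer_inf_cent h3
    rcases NO3b.K0.min_or h.syl h.min (K := Y ⊓ centralizer (R : Set G)) inf_le_left hYY with h4 | h4
    · exact hYZ ((h4.trans inf_le_right).trans (centralizer_le (ZJ_le_R h neg)))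
    · exact h.nQ ((le_inf h.QT (le_inf (h.QT.trans h.T_Y) (hQL.trans (centralizer_le inf_le_left)))).trans h4)
  -- `u`
  have hUT : U₁ ≤ T := (hU₁U.trans hUV).trans ((hV.le.trans h.V_le_D).trans h.DX_T)
  obtain ⟨u, huU, huR, hu⟩ := OneLine.exists_fixed h.T2 hUT
    (h.T_Y.trans (le_normalizer_cl R Y)) hne
  have huV : u ∈ V := hUV (hU₁U huU)
  -- an active `F`
  obtain ⟨-, F, hFa⟩ := exists_act h BT hY neg
  have hFh := hFa.hyp
  have hWS := hFa.WS
  have w : Vo S P V (V ⊓ o2 M) := Vo.of_M h hV hM hP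
  have hUV₀ : U ≤ V ⊓ o2 M := le_inf hUV hUM
  have hLc : ∀ a ∈ L, ∀ b ∈ L, a * b = b * a := fun a ha b hb =>
    (mem_centralizer_iff.1 ((h.Vc hV) (hLV ha)) b (hLV hb)).symm
  have hQc : ∀ q ∈ o2 P, ∀ l ∈ L, q * l = l * q := fun q hq l hl => (mem_centralizer_iff.1 (hQL hq) l hl).symm
  set X : Subgroup G := closure {x | ∃ q ∈ o2 P, x = q * u * q⁻¹ * u⁻¹} with hX
  have hXR : X ≤ R := by
    rw [hX, closure_le]
    rintro _ ⟨q, hq, rfl⟩
    exact hu q (h.QT hq)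
  have hXL : X ≤ L := hXR.trans inf_le_left
  -- invariance
  have hinv : ∀ p ∈ P, cj p (NOne.Flat.WW V F) ≤ normalizer (X : Set G) := by
    intro p hp x hx
    have hc : u ∈ centralizer (cj p (NOne.Flat.WW V F ⊓ centralizer (L : Set G)) : Set G) :=
      centralizer_le (le_KK (Vo.AF_ex h hV hFh hWS w hUV₀ hp)) (hU₁K huU)
    have h1 := Vo.comm_mem h hV hFh hWS w hp (hUV₀ (hU₁U huU)) hc hx
    have hxP : x ∈ P := by
      have h2 := cj_mono p (hWS.trans hSP) hx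
      rwa [cj_eq_of_mem_normalizer (le_normalizer hp)] at h2
    refine mem_normalizer_of_cj_le (cj_le_iff.2 ?_)
    rw [hX, closure_le]
    rintro _ ⟨q, hq, rfl⟩
    change _ ∈ cj x⁻¹ X
    rw [mem_cj, inv_inv]
    set l : G := x * u * x⁻¹ * u⁻¹ with hl
    have hq' : x * q * x⁻¹ ∈ o2 P := (mem_normalizer_iff.1 (ZN.le_normalizer_o2 _ hxP) q).1 hq
    set q' : G := x * q * x⁻¹ with hq'd
    have h3 : q' * u * q'⁻¹ * u⁻¹ ∈ X := subset_closure ⟨q', hq', rfl⟩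
    have e1 : q' * l = l * q' := hQc q' hq' l h1
    have e2 : l * (q' * u * q'⁻¹ * u⁻¹) = q' * u * q'⁻¹ * u⁻¹ * l := hLc _ h1 _ (hXL h3)
    have e : x * (q * u * q⁻¹ * u⁻¹) * x⁻¹ = q' * u * q'⁻¹ * u⁻¹ := by
      have e3 : x * u * x⁻¹ = l * u := by rw [hl]; group
      calc x * (q * u * q⁻¹ * u⁻¹) * x⁻¹ = q' * (x * u * x⁻¹) * q'⁻¹ * (x * u * x⁻¹)⁻¹ := by
            rw [hq'd]; group
        _ = q' * (l * u) * q'⁻¹ * (l * u)⁻¹ := by rw [e3]
        _ = (q' * l) * u * q'⁻¹ * u⁻¹ * l⁻¹ := by group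
        _ = l * (q' * u * q'⁻¹ * u⁻¹) * l⁻¹ := by rw [e1]; group
        _ = _ := by rw [e2, mul_inv_cancel_right]
    rw [e]
    exact h3
  have hodd : oddGen P ≤ normalizer (X : Set G) := by
    have h1 : cl (NOne.Flat.WW V F) P ≤ normalizer (X : Set G) := cl_le hinv
    have h2 : cl (NOne.Flat.WW V F) P ≤ P := cl_le fun p hp => by
      have h3 := cj_mono p (hWS.trans hSP)
      rwa [cj_eq_of_mem_normalizer (le_normalizer hp)] at h3
    rcases NO3b.K0.min_or hsyl h.parP.toIsMinPar (K := cl (NOne.Flat.WW V F) P) h2 (le_normalizer_cl _ _) with h3 | h3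
    · exact h3.trans h1
    · exact absurd ((le_inf hWS (le_cl _ _)).trans h3) hFa.mv
  have hX1 : X = ⊥ := by
    refine eq_bot_of h hXL hodd (𝓦 := {A | ∃ F', NOne.Flat.Hyp V F' ∧ NOne.Flat.WW V F' ≤ (S : Subgroup G) ∧
      NOne.Flat.WW V F' = A}) ?_ ?_ ⟨F, hFh, hWS, rfl⟩ hWS hFa.mv
    · rintro _ ⟨F', hF', hW', rfl⟩ s hs
      have hsV : s ∈ normalizer (V : Set G) := hV.norm (h.S_le hs)
      refine ⟨MulAut.conj s • F', hyp_cj hF' hsV, ?_, WW_cj hsV⟩
      rw [WW_cj hsV]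
      have h3 := cj_mono s hW'
      rwa [cj_eq_of_mem_normalizer (le_normalizer hs)] at h3
    · rintro _ ⟨F', hF', hW', rfl⟩
      exact (hXR.trans inf_le_right).trans (centralizer_le (le_KK (W_ex h BT hY hV hF' hW')))
  -- `u ∈ C_V(Q) = L`
  have huQ : u ∈ centralizer (o2 P : Set G) := by
    rw [mem_centralizer_iff]
    intro q hq
    have h1 : q * u * q⁻¹ * u⁻¹ ∈ X := subset_closure ⟨q, hq, rfl⟩
    rw [hX1, mem_bot] at h1
    have h2 : q * u * q⁻¹ = u := by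
      have := mul_eq_one_iff_eq_inv.1 h1
      rwa [inv_inv] at this
    calc q * u = (q * u * q⁻¹) * q := by group
      _ = u * q := by rw [h2]
  have huL : u ∈ L := by
    have h1 : u ∈ zc (DX (S : Subgroup G) P Y) ⊓ centralizer (o2 P : Set G) := ⟨hV.le huV, huQ⟩
    rwa [h.cvQ] at h1
  exact huR ⟨huL, hU₁K huU⟩

omit BT hY in
/-- `Y ≰ M` ⟹ `O²(Y)` moves `Z_J` -/
theorem not_odd {M : Subgroup G} (hM : centralizer (ZJ (S : Subgroup G) P : Set G) ≤ M) (hP : P ≤ M)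
    (hYM : ¬ Y ≤ M) : ¬ oddGen Y ≤ centralizer (ZJ (S : Subgroup G) P : Set G) := fun h1 => hYM (by
  rw [← oddGen_sup_syl h.syl]
  exact sup_le (h1.trans hM) (h.TS.trans (h.parP.le.trans hP)))

/-- **THEOREM QW, the end.** -/
theorem not_neg {M : Subgroup G} (hM : centralizer (ZJ (S : Subgroup G) P : Set G) ≤ M) (hP : P ≤ M)
    (hYM : ¬ Y ≤ M) (hUM : cl (zl (S : Subgroup G) P) Y ≤ o2 M) : ¬ Neg T Y (cl (zl (S : Subgroup G) P) Y) :=
  not_neg_odd h BT hY hM hP (not_odd h hM hP hYM) hUM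

/-- **THEOREM QW, the end**, for the plug: `O²(Y)` moves `Z_J`; `U ≤ O₂(M)` may be proved under **(neg)**. -/
theorem exists_best_odd {M : Subgroup G} (hM : centralizer (ZJ (S : Subgroup G) P : Set G) ≤ M) (hP : P ≤ M)
    (hYZ : ¬ oddGen Y ≤ centralizer (ZJ (S : Subgroup G) P : Set G))
    (hUM : Neg T Y (cl (zl (S : Subgroup G) P) Y) → cl (zl (S : Subgroup G) P) Y ≤ o2 M) :
    ∃ A ≤ T, Best (cl (zl (S : Subgroup G) P) Y) A ∧ ¬ A ≤ centralizer (cl (zl (S : Subgroup G) P) Y : Set G) ∧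
      ¬ A ≤ o2 Y := by
  by_contra hcon
  have neg : Neg T Y (cl (zl (S : Subgroup G) P) Y) := Neg.of_best fun A hA hb hne => by
    by_contra hY'
    exact hcon ⟨A, hA, hb, hne, hY'⟩
  exact not_neg_odd h BT hY hM hP hYZ (hUM neg) neg

/-- **THEOREM QW, the end**: some best offender `A ≤ T` on `U` moves `U` and does not lie in `O₂(Y)`. -/
theorem exists_best {M : Subgroup G} (hM : centralizer (ZJ (S : Subgroup G) P : Set G) ≤ M) (hP : P ≤ M)
    (hYM : ¬ Y ≤ M) (hUM : cl (zl (S : Subgroup G) P) Y ≤ o2 M) :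
    ∃ A ≤ T, Best (cl (zl (S : Subgroup G) P) Y) A ∧ ¬ A ≤ centralizer (cl (zl (S : Subgroup G) P) Y : Set G) ∧
      ¬ A ≤ o2 Y := by
  by_contra hcon
  refine not_neg h BT hY hM hP hYM hUM (Neg.of_best fun A hA hb hne => ?_)
  by_contra hY'
  exact hcon ⟨A, hA, hb, hne, hY'⟩

/-- the form for the plug: `U ≤ O₂(M)` may be proved under **(neg)**. -/
theorem exists_best_of {M : Subgroup G} (hM : centralizer (ZJ (S : Subgroup G) P : Set G) ≤ M) (hP : P ≤ M)
    (hYM : ¬ Y ≤ M) (hUM : Neg T Y (cl (zl (S : Subgroup G) P) Y) → cl (zl (S : Subgroup G) P) Y ≤ o2 M) :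
    ∃ A ≤ T, Best (cl (zl (S : Subgroup G) P) Y) A ∧ ¬ A ≤ centralizer (cl (zl (S : Subgroup G) P) Y : Set G) ∧
      ¬ A ≤ o2 Y := by
  by_contra hcon
  have neg : Neg T Y (cl (zl (S : Subgroup G) P) Y) := Neg.of_best fun A hA hb hne => by
    by_contra hY'
    exact hcon ⟨A, hA, hb, hne, hY'⟩
  exact not_neg h BT hY hM hP hYM (hUM neg) neg

end

end Cfsg.Agent.Omega.NO3S.CaseLW.QWd

end
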