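import Cfsg.Agent.Mrg.Omega.NO3S.CaseLW.LowOne
import Cfsg.Agent.Mrg.Omega.NO3S.CaseLW.QWPlug
import Cfsg.Agent.Mrg.Omega.OM.Lev.Uni
import Cfsg.Agent.Mrg.Omega.NO3S.CaseLW.Lam
import Cfsg.Agent.Mrg.Omega.IId.BSTrick
import Cfsg.Agent.Mrg.Omega.NO3S.CaseLW.LamFix
import Cfsg.Agent.Mrg.Omega.NO3S.WY.Exact
import Cfsg.Agent.Mrg.Omega.NOThreeL.FFB.SymRp2
import Cfsg.Agent.Mrg.Omega.NO3S.CaseLW.KSharp
import Cfsg.Agent.Mrg.Omega.NOThreeL.FFB.Rp2
import Cfsg.Agent.MinSimple.FFBlock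
import Cfsg.Agent.Mrg.Omega.NO3S.CaseLW.QWc

section


/-!
# THEOREM QW: (2') over `MulL`, every `q`, and `OffHQ` from `MLK`

* `ho` : `W i ≤ O₂(C_G(z c))` for every `1 ≠ z ∈ Z`, `c ∈ Z i` (`LowOne.low_one`, `QWoFr.le_o2_q`);
* `hoQ : MLK → HoQ K`, **`offHQ : MLK → OmTopQ.OffHQ K`** (`QWPlug.offHQ_of_ho`).
-/

set_option autoImplicit false

namespace Cfsg.Agent.Omega.NO3S.CaseLW.HoQOf

open Subgroup Cfsg
open Cfsg.Agent.ZN (zc zl o2)
open Cfsg.Agent.Omega.Frame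
open Cfsg.Agent.Omega.ML.Final (MLK)
open Cfsg.Agent.Omega.Node.MulX (MulL)
open Cfsg.Agent.Omega.Node.OmTopQ (OffHQ)
open Cfsg.Agent.Omega.NO3S.CaseLW.QWPlug (HoQ offHQ_of_ho)

universe u

/-- **(2')**, every `q` -/
theorem ho {G : Type u} [Group G] [Finite G] {S : Sylow 2 G} {P B ZJ : Subgroup G} {k : ℕ}
    {L W Z C A : Fin k → Subgroup G} {q : ℕ} (h : MulL S P B ZJ L W Z C A q) (ml : MLK.{u, u}) {z : G}
    (hz : z ∈ zc (S : Subgroup G)) (hz1 : z ≠ 1) (i : Fin k) {c : G} (hc : c ∈ Z i) :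
    W i ≤ o2 (centralizer ({z * c} : Set G)) :=
  QWoFr.le_o2_q h.fr h.cl.ctx.char2 h.bg.bau_two (OM.UniPlus.WC.weakNormal h.bg.wc) h.norm_le h.bg.two
    (LowOne.zc_le_ZJ h hz) (LowOne.supp h hz hz1) (LowOne.low_one h ml hz hz1) i hc

theorem exists_zc {G : Type u} [Group G] [Finite G] {S : Sylow 2 G} {P B ZJ : Subgroup G} {k : ℕ}
    {L W Z C A : Fin k → Subgroup G} {q : ℕ} (h : MulL S P B ZJ L W Z C A q) :
    ∃ z ∈ zc (S : Subgroup G), z ≠ 1 := by
  by_contra hcon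
  push Not at hcon
  exact h.cl.hypN.toHyp.zc_ne ((eq_bot_iff_forall _).2 hcon)

theorem hoQ (ml : MLK.{u, u}) (K : Cls.{u}) : HoQ K := by
  intro G _ _ _ S P B ZJ k L W Z C A q _ _ h
  obtain ⟨z, hz, hz1⟩ := exists_zc h
  exact ⟨z, hz, hz1, fun i c hc => ho h ml hz hz1 i hc⟩

/-- **THEOREM QW, `q ≥ 4`, over `MulL`** -/
theorem offHQ (ml : MLK.{u, u}) (K : Cls.{u}) : OffHQ K := offHQ_of_ho ml (hoQ ml K)

end Cfsg.Agent.Omega.NO3S.CaseLW.HoQOf

end

section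


/-!
# THEOREM QW, every `q`: `z z_j` is not `G`-conjugate to `z` (helper360 #25134 (f), helper792 #25398)

`FrL B Q V X ZJ L W Z C A q`, `B ≤ S` weakly closed, `N_G(B) ≤ N_G(X)`, `z ∈ Z_J` of full support, centralised by `S`;
`e ∈ Z_J` centralised by `B` with trivial `j`-component. Then `e` is not a conjugate of `z`: a Sylow 2-subgroup `S^n ≥ B` of
`C_G(e)` has `B^n = B`, and `N_G(B)` permutes the supports.
-/

set_option autoImplicit false
set_option linter.unusedSectionVars false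

namespace Cfsg.Agent.Omega.NO3S.CaseLW.QWnc

open Subgroup Cfsg Cfsg.Agent.PLocal.ThompsonJ Cfsg.Agent.ZN Cfsg.Agent.ZN.ChoiceBase
open Cfsg.Agent.Omega.SQ1.Bau (elem_comm elem_sq)
open Cfsg.Agent.Omega.OM.BlockUniq Cfsg.Agent.Omega.OM.Uni Cfsg.Agent.Omega.OM.Lev.Uni
open Cfsg.Agent.Omega.OM.WeakCl (WC)
open Cfsg.Agent.Omega.NO3S.CaseLW.QWoFr

universe u

variable {G : Type u} [Group G] [Finite G] {ι : Type*} [Finite ι] {B Q V X ZJ : Subgroup G}
  {L W Z C A : ι → Subgroup G} {q : ℕ}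

/-- `N_G(B)` maps vectors of full support to vectors of full support. -/
theorem full_cj (h : FrL B Q V X ZJ L W Z C A q) (hX : normalizer (B : Set G) ≤ normalizer (X : Set G)) {z : G}
    (hz : z ∈ ZJ) (hf : ∀ i, z ∉ C i) {n : G} (hn : n ∈ normalizer (B : Set G)) :
    n * z * n⁻¹ ∈ ZJ ∧ ∀ i, n * z * n⁻¹ ∉ C i := by
  have hZ : n * z * n⁻¹ ∈ ZJ := by
    rw [← h.zcB] at hz ⊢
    obtain ⟨h1, h2, h3⟩ := ChoiceBase.mem_zc.1 hz
    refine ChoiceBase.mem_zc.2 ⟨(mem_normalizer_iff.1 hn z).1 h1, ?_, fun b hb => ?_⟩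
    · rw [conj_pow, h2, mul_one, mul_inv_cancel]
    · have hb' : n⁻¹ * b * n ∈ B := by
        have := (mem_normalizer_iff.1 (inv_mem hn) b).1 hb
        rwa [inv_inv] at this
      have h4 := h3 _ hb'
      calc b * (n * z * n⁻¹) = n * ((n⁻¹ * b * n) * z) * n⁻¹ := by group
        _ = n * (z * (n⁻¹ * b * n)) * n⁻¹ := by rw [h4]
        _ = n * z * n⁻¹ * b := by group
  refine ⟨hZ, fun j hj => ?_⟩
  have hn' := inv_mem hn
  obtain ⟨-, hp⟩ := h.norm_of hn' (hX hn')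
  obtain ⟨i, hi, -⟩ := hp j
  have h1 := supp_cj h (fun i => (hp i).imp fun m hm => hm.1) hi hZ hj
  have e : n⁻¹ * (n * z * n⁻¹) * n⁻¹⁻¹ = z := by group
  rw [e] at h1
  exact hf i h1

/-- **`e` with a trivial component is not a conjugate of `z`.** -/
theorem not_conj (h : FrL B Q V X ZJ L W Z C A q) (S : Sylow 2 G) (hBS : B ≤ (S : Subgroup G)) (wc : WC B)
    (hX : normalizer (B : Set G) ≤ normalizer (X : Set G)) {z : G} (hz : z ∈ ZJ) (hf : ∀ i, z ∉ C i)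
    (hS : ∀ s ∈ (S : Subgroup G), s * z = z * s) {e : G} (he : ∀ b ∈ B, b * e = e * b) {j : ι} (hj : e ∈ C j) (g : G) :
    g * z * g⁻¹ ≠ e := by
  have : Fact (Nat.Prime 2) := ⟨Nat.prime_two⟩
  intro hge
  have hSe : cj g (S : Subgroup G) ≤ centralizer ({e} : Set G) := by
    rintro _ ⟨s, hs, rfl⟩
    rw [mem_centralizer_singleton_iff, ← hge]
    change g * s * g⁻¹ * (g * z * g⁻¹) = g * z * g⁻¹ * (g * s * g⁻¹)
    calc g * s * g⁻¹ * (g * z * g⁻¹) = g * (s * z) * g⁻¹ := by group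
      _ = g * (z * s) * g⁻¹ := by rw [hS s hs]
      _ = _ := by group
  have hBe : B ≤ centralizer ({e} : Set G) := fun b hb => mem_centralizer_singleton_iff.2 (he b hb)
  have hB2 : IsPGroup 2 B := S.isPGroup'.to_le hBS
  -- a conjugate of `S` in `C_G(e)` containing `B`
  obtain ⟨x, hx, hBx⟩ : ∃ x ∈ centralizer ({e} : Set G), B ≤ cj (x * g) (S : Subgroup G) := by
    set H : Subgroup G := centralizer ({e} : Set G) with hH
    let T1 : Subgroup H := (cj g (S : Subgroup G)).subgroupOf H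
    have hT1 : IsPGroup 2 T1 := (S.isPGroup'.map _).comap_of_injective _ H.subtype_injective
    have hcard : ∀ Y : Subgroup G, IsPGroup 2 Y → Nat.card Y ≤ Nat.card (S : Subgroup G) := by
      intro Y hY
      obtain ⟨R, hR⟩ := hY.exists_le_sylow
      have h1 := Subgroup.card_le_of_le hR
      have h2 : Nat.card (R : Subgroup G) = Nat.card (S : Subgroup G) := Nat.card_congr (Sylow.equiv R S).toEquiv
      omega
    obtain ⟨P1, hP1⟩ := hT1.exists_le_sylow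
    have hP1e : (P1 : Subgroup H).map H.subtype = cj g (S : Subgroup G) := by
      have h1 : cj g (S : Subgroup G) ≤ (P1 : Subgroup H).map H.subtype := by
        intro y hy
        exact ⟨⟨y, hSe hy⟩, hP1 (mem_subgroupOf.2 hy), rfl⟩
      refine (Subgroup.eq_of_le_of_card_ge h1 ?_).symm
      rw [card_cj]
      exact hcard _ (P1.isPGroup'.map _)
    have hBH : IsPGroup 2 (B.subgroupOf H) := hB2.comap_of_injective _ H.subtype_injective
    obtain ⟨P2, hP2⟩ := hBH.exists_le_sylow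
    obtain ⟨x, hx⟩ := MulAction.exists_smul_eq H P1 P2
    refine ⟨x, x.2, fun b hb => ?_⟩
    have h1 : (⟨b, hBe hb⟩ : H) ∈ (P2 : Subgroup H) := hP2 (mem_subgroupOf.2 hb)
    rw [← hx, Sylow.coe_subgroup_smul, Subgroup.mem_pointwise_smul_iff_inv_smul_mem] at h1
    have h2 : (x : G)⁻¹ * b * (x : G) ∈ (P1 : Subgroup H).map H.subtype := by
      refine ⟨_, h1, ?_⟩
      simp [MulAut.smul_def]
    rw [hP1e, mem_cj] at h2
    rw [mem_cj]
    have e1 : (↑x * g)⁻¹ * b * (↑x * g) = g⁻¹ * ((x : G)⁻¹ * b * (x : G)) * g := by group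
    rw [e1]
    exact h2
  have hn : x * g ∈ normalizer (B : Set G) := by
    have h1 := wc _ (S.isPGroup'.map _ : IsPGroup 2 (cj (x * g) (S : Subgroup G))) hBx (x * g) (cj_mono _ hBS)
    rw [mem_normalizer_iff_cj]
    exact h1
  have h1 := (full_cj h hX hz hf hn).2 j
  apply h1
  have e1 : x * g * z * (x * g)⁻¹ = x * (g * z * g⁻¹) * x⁻¹ := by group
  rw [e1, hge, mul_inv_eq_iff_eq_mul.2 (mem_centralizer_singleton_iff.1 hx)]
  exact hj

end Cfsg.Agent.Omega.NO3S.CaseLW.QWnc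

end

section


/-!
# THEOREM LAMBDA (#24622): the input `YD` of `Lam.core`

* `exists_yd` : **`GE T Y U AA`, `U ≤ T`, `ConclM T Y`, a member of the family outside `O₂(Y)`, `Y` moves `Ω₁Z(T)`:
  `YD T Y U AA N c`** for some families `N`, `c`.
-/

set_option autoImplicit false

namespace Cfsg.Agent.Omega.NO3S.CaseLW.Lam

open Subgroup Cfsg Cfsg.Agent.ZN Cfsg.Agent.ZN.ChoiceBase
open Cfsg.Agent.Omega.OM.GLev

universe u

variable {G : Type u} [Group G] [Finite G] {T Y U : Subgroup G} {AA : Set (Subgroup G)}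

theorem YD.of {Λ : Type} {N c : Λ → Subgroup G} (h : YBX.Concl T Y U AA N c) : YD T Y U AA N c where
  yb := h.yb
  mv := h.ex
  cen := fun x hx hc => h.cen x hx.1 hc
  line := h.com

/-- **The blocks of `Y` on `C_U(⟨AA⟩)`.** -/
theorem exists_yd (h : GE T Y U AA) (hUT : U ≤ T) (hN : FFThm.ConclM T Y) (hex : ∃ A ∈ AA, ¬ A ≤ o2 Y)
    (hZ : ¬ Y ≤ centralizer (zc T : Set G)) :
    ∃ (Λ : Type) (_ : Finite Λ) (N c : Λ → Subgroup G), YD T Y U AA N c := by
  obtain ⟨Λ, hf, N, c, hc⟩ := YBX.exists_ybx h hUT hN hex hZ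
  exact ⟨Λ, hf, N, c, YD.of hc⟩

end Cfsg.Agent.Omega.NO3S.CaseLW.Lam

end

section


/-!
# `V_P ≤ O₂(C_G(r))` for every `r ∈ Z_J` of full support (LEMMA LZ, helper322 #26498 (1))

* `exists_conj_full` (`FrL`): the elements of full support of `Z_J` are conjugate under `⟨L i⟩ ≤ N_G(V)`;
* `low_full`, `ho_full` (`MulL`, every `q`).
-/

set_option autoImplicit false

namespace Cfsg.Agent.Omega.NO3S.CaseLW.LowFull

open Subgroup Cfsg Cfsg.Agent.ZN.ChoiceBase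
open Cfsg.Agent.ZN (zc zl o2)
open Cfsg.Agent.Omega.OM.Lev.Uni (FrL)
open Cfsg.Agent.Omega.ML.Final (MLK)
open Cfsg.Agent.Omega.Node.MulX (MulL)

universe u

variable {G : Type u} [Group G] [Finite G]

/-- **the elements of full support of `Z_J` are conjugate under `⟨L i⟩`** -/
theorem exists_conj_full {ι : Type*} [Finite ι] {B Q V X ZJ : Subgroup G} {L W Z C A : ι → Subgroup G} {q : ℕ}
    (h : FrL B Q V X ZJ L W Z C A q) {z r : G} (hz : z ∈ ZJ) (hzf : ∀ i, z ∉ C i) (hr : r ∈ ZJ)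
    (hrf : ∀ i, r ∉ C i) : ∃ g ∈ ⨆ i, L i, g ∈ normalizer (V : Set G) ∧ g * z * g⁻¹ = r := by
  classical
  cases nonempty_fintype ι
  have hLV : ∀ i, L i ≤ normalizer (V : Set G) := fun i l hl => by
    rw [mem_normalizer_iff_cj]
    exact h.cj_V hl
  have key : ∀ s : Finset ι, ∃ g ∈ ⨆ i, L i, g ∈ normalizer (V : Set G) ∧ g * z * g⁻¹ ∈ ZJ ∧
      (∀ i, g * z * g⁻¹ ∉ C i) ∧ ∀ i ∈ s, (g * z * g⁻¹)⁻¹ * r ∈ C i := by
    intro s
    induction s using Finset.induction_on with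
    | empty =>
      refine ⟨1, one_mem _, one_mem _, ?_, ?_, ?_⟩
      · simpa using hz
      · simpa using hzf
      · simp
    | insert a s ha ih =>
      obtain ⟨g, hg, hgV, hyJ, hyf, hys⟩ := ih
      set y := g * z * g⁻¹ with hy
      obtain ⟨w, hw, c, hc, hcJ, e⟩ := h.split_ZJ a hyJ
      obtain ⟨w', hw', c', hc', -, e'⟩ := h.split_ZJ a hr
      have hw1 : w ≠ 1 := fun h1 => hyf a (by rw [e, h1, one_mul]; exact hc)
      have hw1' : w' ≠ 1 := fun h1 => hrf a (by rw [e', h1, one_mul]; exact hc')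
      obtain ⟨l, hl, e3⟩ := QWoFr.Z_conj h hw hw' hw1 hw1'
      have e4 : l * g * z * (l * g)⁻¹ = w' * c := by
        have h1 := h.LC a l hl c hcJ hc
        calc l * g * z * (l * g)⁻¹ = l * y * l⁻¹ := by rw [hy]; group
          _ = (l * w * l⁻¹) * (l * c * l⁻¹) := by rw [e]; group
          _ = w' * c := by rw [e3, h1]; group
      refine ⟨l * g, mul_mem (mem_iSup_of_mem a hl) hg, mul_mem (hLV a hl) hgV, ?_, ?_, ?_⟩
      · rw [e4]
        exact mul_mem (h.Z_le a hw') hcJ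
      · intro i hi
        rw [e4] at hi
        by_cases hia : i = a
        · subst hia
          have h1 : w' ∈ C i := by
            have h2 := mul_mem hi (inv_mem hc)
            rwa [mul_inv_cancel_right] at h2
          exact QWoFr.not_mem_C h hw' hw1' h1
        · apply hyf i
          have h1 : w ∈ C i := QWoFr.Z_C h hia hw
          have h2 : w' ∈ C i := QWoFr.Z_C h hia hw'
          have h3 : y = w * (w'⁻¹ * (w' * c)) := by rw [e]; group
          rw [h3]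
          exact mul_mem h1 (mul_mem (inv_mem h2) hi)
      · intro i hi
        rw [e4]
        have hcV := h.CV a hc
        by_cases hia : i = a
        · subst hia
          have h1 : (w' * c)⁻¹ * r = c⁻¹ * c' := by rw [e']; group
          rw [h1]
          exact mul_mem (inv_mem hc) hc'
        · have hi' := hys i ((Finset.mem_insert.1 hi).resolve_left hia)
          have h1 : w ∈ C i := QWoFr.Z_C h hia hw
          have h2 : w' ∈ C i := QWoFr.Z_C h hia hw'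
          have h3 : (w' * c)⁻¹ * r = (c⁻¹ * w'⁻¹) * (w * (c * (y⁻¹ * r))) := by
            rw [e]; group
          have h4 : c⁻¹ * w'⁻¹ = w'⁻¹ * c⁻¹ := h.Vc (inv_mem hcV) (inv_mem (h.ZV a hw'))
          have h5 : w * (c * (y⁻¹ * r)) = c * (w * (y⁻¹ * r)) := by
            have h6 : w * c = c * w := h.Vc (h.ZV a hw) hcV
            rw [← mul_assoc, h6, mul_assoc]
          rw [h3, h4, h5]
          have h7 : w'⁻¹ * c⁻¹ * (c * (w * (y⁻¹ * r))) = w'⁻¹ * (w * (y⁻¹ * r)) := by group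
          rw [h7]
          exact mul_mem (inv_mem h2) (mul_mem h1 hi')
  obtain ⟨g, hg, hgV, hyJ, -, hys⟩ := key Finset.univ
  refine ⟨g, hg, hgV, ?_⟩
  have h1 := h.C0 _ (mul_mem (inv_mem (h.ZJV hyJ)) (h.ZJV hr)) fun i => hys i (Finset.mem_univ i)
  exact inv_mul_eq_one.1 h1

variable {S : Sylow 2 G} {P B ZJ : Subgroup G} {k : ℕ} {L W Z C A : Fin k → Subgroup G} {q : ℕ}

/-- **LEMMA LZ for every `r ∈ Z_J` of full support** -/
theorem low_full (h : MulL S P B ZJ L W Z C A q) (ml : MLK.{u, u}) {r : G} (hr : r ∈ ZJ) (hrf : ∀ i, r ∉ C i) :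
    zl (S : Subgroup G) P ≤ o2 (centralizer ({r} : Set G)) := by
  obtain ⟨z, hz, hz1⟩ : ∃ z ∈ zc (S : Subgroup G), z ≠ 1 := by
    by_contra hcon
    push Not at hcon
    exact h.cl.hypN.toHyp.zc_ne ((eq_bot_iff_forall _).2 hcon)
  obtain ⟨g, -, hgV, e⟩ := exists_conj_full h.fr (LowOne.zc_le_ZJ h hz) (LowOne.supp h hz hz1) hr hrf
  intro v hv
  have h1 : g⁻¹ * v * g ∈ zl (S : Subgroup G) P := (mem_normalizer_iff''.1 hgV v).1 hv
  have h2 := QWoFr.o2_cj e (LowOne.low_one h ml hz hz1 h1)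
  have e2 : g * (g⁻¹ * v * g) * g⁻¹ = v := by group
  rwa [e2] at h2

/-- **(2') for every `r ∈ Z_J` of full support** -/
theorem ho_full (h : MulL S P B ZJ L W Z C A q) (ml : MLK.{u, u}) {r : G} (hr : r ∈ ZJ) (hrf : ∀ i, r ∉ C i)
    (i : Fin k) {c : G} (hc : c ∈ Z i) : W i ≤ o2 (centralizer ({r * c} : Set G)) :=
  QWoFr.le_o2_q h.fr h.cl.ctx.char2 h.bg.bau_two (OM.UniPlus.WC.weakNormal h.bg.wc) h.norm_le h.bg.two
    hr hrf (low_full h ml hr hrf) i hc

end Cfsg.Agent.Omega.NO3S.CaseLW.LowFull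

end

section


/-!
# THEOREM QW (helper866, OMEGA #24897), step (2), pure form

`M` acts on the elementary abelian `Z_M`, no non-trivial normal subgroup of `M / C_M(Z_M)` is a 2-group; `1 ≠ z ∈ Z_M`,
`w ∈ M` a transvection on `Z_M` with centre `c ≠ z`; `w` lies in a 2-subgroup normalised by `C_M(z)` and in a
2-subgroup normalised by `C_M(z c)`.  Then `w` centralises `Z_M` (`mem_centralizer`): every conjugate of `w`
centralises `c`, `z` or `z c`, and Baer–Suzuki.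
-/

set_option autoImplicit false

namespace Cfsg.Agent.Omega.NO3S.CaseLW.QWt

open Subgroup

/-- Baer–Suzuki modulo a normal subgroup `K`, for an element `w` with `w² ∈ K`. -/
theorem mem_of_pairs {M : Type*} [Group M] [Finite M] {K : Subgroup M} [K.Normal]
    (hred : ∀ R : Subgroup M, R.Normal → (∀ r ∈ R, ∃ n : ℕ, r ^ 2 ^ n ∈ K) → R ≤ K) {w : M} (hww : w * w ∈ K)
    (h : ∀ m : M, ∃ A : Subgroup M, (∀ a ∈ A, ∃ n : ℕ, a ^ 2 ^ n ∈ K) ∧ w ∈ A ∧
      (∀ a ∈ A, (m * w * m⁻¹) * a * (m * w * m⁻¹)⁻¹ ∈ A)) : w ∈ K := by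
  let π : M →* M ⧸ K := QuotientGroup.mk' K
  have hK : ∀ x : M, π x = 1 ↔ x ∈ K := fun x => QuotientGroup.eq_one_iff x
  have h1 : ∀ g : M ⧸ K, IsPGroup 2 (closure {π w, g * π w * g⁻¹} : Subgroup (M ⧸ K)) := by
    intro g
    obtain ⟨m, rfl⟩ := QuotientGroup.mk'_surjective K g
    obtain ⟨A, hA2, hwA, hAn⟩ := h m
    have hA : IsPGroup 2 (A.map π) := by
      rintro ⟨_, a, ha, rfl⟩
      obtain ⟨n, hn⟩ := hA2 a ha
      refine ⟨n, Subtype.ext ?_⟩
      have := (hK _).2 hn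
      rw [map_pow] at this
      simpa using this
    have e : π m * π w * (π m)⁻¹ = π (m * w * m⁻¹) := by simp
    change IsPGroup 2 (closure {π w, π m * π w * (π m)⁻¹} : Subgroup (M ⧸ K))
    rw [e]
    refine IId.BSTrick.pair_isPGroup hA (mem_map_of_mem _ hwA) ?_ ?_
    · have hle : (A.map π).map (MulAut.conj (π (m * w * m⁻¹))).toMonoidHom ≤ A.map π := by
        rintro _ ⟨_, ⟨a, ha, rfl⟩, rfl⟩
        refine ⟨_, hAn a ha, ?_⟩
        change π (m * w * m⁻¹ * a * (m * w * m⁻¹)⁻¹) = π (m * w * m⁻¹) * π a * (π (m * w * m⁻¹))⁻¹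
        rw [← map_inv, ← map_mul, ← map_mul]
      have heq : (A.map π).map (MulAut.conj (π (m * w * m⁻¹))).toMonoidHom = A.map π := by
        refine Subgroup.eq_of_le_of_card_ge hle ?_
        have hinj : Function.Injective (MulAut.conj (π (m * w * m⁻¹))).toMonoidHom :=
          (MulAut.conj (π (m * w * m⁻¹))).injective
        rw [Subgroup.card_map_of_injective hinj]
      rw [Subgroup.mem_normalizer_iff]
      intro y
      refine ⟨fun hy => hle ⟨y, hy, rfl⟩, fun hy => ?_⟩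
      rw [← heq] at hy
      obtain ⟨y', hy', e'⟩ := hy
      have e2 : (MulAut.conj (π (m * w * m⁻¹))) y' = (MulAut.conj (π (m * w * m⁻¹))) y := e'
      rwa [(MulAut.conj (π (m * w * m⁻¹))).injective e2] at hy'
    · rw [← map_mul]
      refine (hK _).2 ?_
      have e3 : m * w * m⁻¹ * (m * w * m⁻¹) = m * (w * w) * m⁻¹ := by group
      rw [e3]
      exact Normal.conj_mem inferInstance _ hww _
  have h2 := Cfsg.Agent.Involutions.BaerSuzuki.baer_suzuki_element (p := 2) (π w) h1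
  have h3 : ((normalClosure {π w}).comap π).Normal := Normal.comap inferInstance π
  refine hred _ h3 ?_ (show w ∈ (normalClosure {π w}).comap π from subset_normalClosure rfl)
  intro r hr
  obtain ⟨n, hn⟩ := h2 ⟨π r, hr⟩
  refine ⟨n, (hK _).1 ?_⟩
  have := congrArg Subtype.val hn
  rw [map_pow]
  simpa using this

variable {G : Type*} [Group G]

/-- The elements of `M` which centralise `c` and act on `Z` as multiplication by `1` or `c`. -/
def tv (M Z : Subgroup G) (c : G) (hN : ∀ m ∈ M, ∀ x ∈ Z, m * x * m⁻¹ ∈ Z) (hcc : c * c = 1) :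
    Subgroup G where
  carrier := {a | a ∈ M ∧ a * c * a⁻¹ = c ∧ ∀ x ∈ Z, a * x * a⁻¹ = x ∨ a * x * a⁻¹ = x * c}
  one_mem' := ⟨one_mem _, by group, fun x _ => Or.inl (by group)⟩
  mul_mem' := by
    rintro a b ⟨ha, ha1, ha2⟩ ⟨hb, hb1, hb2⟩
    refine ⟨mul_mem ha hb, ?_, fun x hx => ?_⟩
    · have e : a * b * c * (a * b)⁻¹ = a * (b * c * b⁻¹) * a⁻¹ := by group
      rw [e, hb1, ha1]
    · have e : a * b * x * (a * b)⁻¹ = a * (b * x * b⁻¹) * a⁻¹ := by group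
      have e2 : a * (x * c) * a⁻¹ = (a * x * a⁻¹) * (a * c * a⁻¹) := by group
      rw [e]
      rcases hb2 x hx with h1 | h1 <;> rcases ha2 x hx with h2 | h2
      · left; rw [h1, h2]
      · right; rw [h1, h2]
      · right; rw [h1, e2, h2, ha1]
      · left; rw [h1, e2, h2, ha1, mul_assoc, hcc, mul_one]
  inv_mem' := by
    rintro a ⟨ha, ha1, ha2⟩
    refine ⟨inv_mem ha, ?_, fun x hx => ?_⟩
    · have e : a⁻¹ * (a * c * a⁻¹) * a⁻¹⁻¹ = c := by group
      rwa [ha1] at e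
    · have hy := hN a⁻¹ (inv_mem ha) x hx
      have e : a * (a⁻¹ * x * a⁻¹⁻¹) * a⁻¹ = x := by group
      rcases ha2 _ hy with h1 | h1
      · left; rw [e] at h1; exact h1.symm
      · right
        rw [e] at h1
        have e2 : x * c = (a⁻¹ * x * a⁻¹⁻¹) * (c * c) := (congrArg (· * c) h1).trans (mul_assoc _ _ _)
        rw [e2, hcc, mul_one]

/-- **(2) of THEOREM QW.** -/
theorem mem_centralizer [Finite G] {M Z : Subgroup G} (hN : ∀ m ∈ M, ∀ x ∈ Z, m * x * m⁻¹ ∈ Z)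
    (hcomm : ∀ x ∈ Z, ∀ y ∈ Z, x * y = y * x) (hsq : ∀ x ∈ Z, x * x = 1)
    (hred : ∀ R : Subgroup G, R ≤ M → M ≤ normalizer (R : Set G) →
      (∀ r ∈ R, ∃ n : ℕ, r ^ 2 ^ n ∈ centralizer (Z : Set G)) → R ≤ centralizer (Z : Set G))
    {w c z : G} (hw : w ∈ M) (hc : c ∈ Z) (hz : z ∈ Z)
    (htr : ∀ x ∈ Z, w * x * w⁻¹ = x ∨ w * x * w⁻¹ = x * c)
    (hA : ∃ A : Subgroup G, IsPGroup 2 A ∧ w ∈ A ∧ ∀ g ∈ M, g * z = z * g → ∀ a ∈ A, g * a * g⁻¹ ∈ A)
    (hB : ∃ A : Subgroup G, IsPGroup 2 A ∧ w ∈ A ∧ ∀ g ∈ M, g * (z * c) = z * c * g → ∀ a ∈ A, g * a * g⁻¹ ∈ A) :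
    w ∈ centralizer (Z : Set G) := by
  classical
  have hcc := hsq c hc
  have hwc : w * c * w⁻¹ = c := by
    rcases htr c hc with h1 | h1
    · exact h1
    · rw [hcc] at h1
      have h2 : c = 1 := by
        have e : w⁻¹ * (w * c * w⁻¹) * w = c := by group
        rw [h1] at e
        rw [← e]; group
      rw [h2]; group
  have hnK : M ≤ normalizer (centralizer (Z : Set G) : Set G) := by
    have key : ∀ g ∈ M, ∀ x ∈ centralizer (Z : Set G), g * x * g⁻¹ ∈ centralizer (Z : Set G) := by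
      intro g hg x hx
      rw [mem_centralizer_iff] at hx ⊢
      intro y hy
      have h1 := hx _ (hN g⁻¹ (inv_mem hg) y hy)
      have e1 : y * (g * x * g⁻¹) = g * ((g⁻¹ * y * g⁻¹⁻¹) * x) * g⁻¹ := by group
      rw [e1, h1]; group
    intro g hg
    rw [mem_normalizer_iff]
    intro x
    refine ⟨key g hg x, fun h1 => ?_⟩
    have h2 := key g⁻¹ (inv_mem hg) _ h1
    have e : g⁻¹ * (g * x * g⁻¹) * g⁻¹⁻¹ = x := by group
    rwa [e] at h2
  set K : Subgroup M := (centralizer (Z : Set G)).subgroupOf M with hK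
  have : K.Normal := ⟨fun x hx g => (mem_normalizer_iff.1 (hnK g.2) _).1 hx⟩
  have hwK : (⟨w, hw⟩ : M) ∈ K := by
    refine mem_of_pairs (K := K) ?_ ?_ ?_
    · intro R hR hR2
      have h1 := hred (R.map M.subtype) (map_subtype_le _) ?_ ?_
      · intro r hr
        exact h1 (mem_map_of_mem _ hr)
      · intro g hg
        have key : ∀ g ∈ M, ∀ x ∈ R.map M.subtype, g * x * g⁻¹ ∈ R.map M.subtype := by
          rintro g hg _ ⟨y, hy, rfl⟩
          exact ⟨⟨g, hg⟩ * y * ⟨g, hg⟩⁻¹, hR.conj_mem y hy _, rfl⟩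
        rw [mem_normalizer_iff]
        intro y
        refine ⟨key g hg y, fun hy => ?_⟩
        have := key g⁻¹ (inv_mem hg) _ hy
        have e : g⁻¹ * (g * y * g⁻¹) * g⁻¹⁻¹ = y := by group
        rwa [e] at this
      · rintro _ ⟨r, hr, rfl⟩
        obtain ⟨n, hn⟩ := hR2 r hr
        refine ⟨n, ?_⟩
        have h5 : ((r ^ 2 ^ n : M) : G) ∈ centralizer (Z : Set G) := hn
        rwa [SubgroupClass.coe_pow] at h5
    · change w * w ∈ centralizer (Z : Set G)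
      rw [mem_centralizer_iff]
      intro x hx
      have e1 : w * w * x * (w * w)⁻¹ = w * (w * x * w⁻¹) * w⁻¹ := by group
      have e2 : w * w * x * (w * w)⁻¹ = x := by
        rw [e1]
        rcases htr x hx with h1 | h1
        · rw [h1, h1]
        · have e3 : w * (x * c) * w⁻¹ = (w * x * w⁻¹) * (w * c * w⁻¹) := by group
          rw [h1, e3, h1, hwc, mul_assoc, hcc, mul_one]
      exact (mul_inv_eq_iff_eq_mul.1 e2).symm
    · rintro ⟨m, hm⟩
      -- `w' = m w m⁻¹` centralises `c`, `z` or `z c`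
      set w' : G := m * w * m⁻¹ with hw'
      have hw'M : w' ∈ M := mul_mem (mul_mem hm hw) (inv_mem hm)
      have htr' : ∀ x ∈ Z, w' * x * w'⁻¹ = x ∨ w' * x * w'⁻¹ = x * (m * c * m⁻¹) := by
        intro x hx
        have hx' := hN m⁻¹ (inv_mem hm) x hx
        have e1 : w' * x * w'⁻¹ = m * (w * (m⁻¹ * x * m⁻¹⁻¹) * w⁻¹) * m⁻¹ := by rw [hw']; group
        rcases htr _ hx' with h1 | h1
        · left; rw [e1, h1]; group
        · right; rw [e1, h1]; group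
      have hc'c' : (m * c * m⁻¹) * (m * c * m⁻¹) = 1 := hsq _ (hN m hm c hc)
      have hcases : w' * c * w'⁻¹ = c ∨ w' * z * w'⁻¹ = z ∨ w' * (z * c) * w'⁻¹ = z * c := by
        rcases htr' c hc with h1 | h1
        · exact Or.inl h1
        rcases htr' z hz with h2 | h2
        · exact Or.inr (Or.inl h2)
        right; right
        have e : w' * (z * c) * w'⁻¹ = (w' * z * w'⁻¹) * (w' * c * w'⁻¹) := by group
        have e2 : c * (m * c * m⁻¹) = (m * c * m⁻¹) * c := hcomm _ hc _ (hN m hm c hc)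
        rw [e, h1, h2, e2, mul_assoc, ← mul_assoc (m * c * m⁻¹) (m * c * m⁻¹), hc'c', one_mul]
      have hgen : ∀ f : G, w' * f * w'⁻¹ = f →
          (∃ A : Subgroup G, IsPGroup 2 A ∧ w ∈ A ∧ ∀ g ∈ M, g * f = f * g → ∀ a ∈ A, g * a * g⁻¹ ∈ A) →
          ∃ A : Subgroup M, (∀ a ∈ A, ∃ n : ℕ, a ^ 2 ^ n ∈ K) ∧ (⟨w, hw⟩ : M) ∈ A ∧
            (∀ a ∈ A, ((⟨m, hm⟩ : M) * ⟨w, hw⟩ * (⟨m, hm⟩ : M)⁻¹) * a *
              ((⟨m, hm⟩ : M) * ⟨w, hw⟩ * (⟨m, hm⟩ : M)⁻¹)⁻¹ ∈ A) := by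
        rintro f hf ⟨A, hA2, hwA, hAn⟩
        refine ⟨A.subgroupOf M, ?_, hwA, ?_⟩
        · intro a ha
          obtain ⟨n, hn⟩ := hA2 ⟨a, ha⟩
          refine ⟨n, ?_⟩
          have h5 : (a : G) ^ 2 ^ n = 1 := by simpa using congrArg Subtype.val hn
          change ((a ^ 2 ^ n : M) : G) ∈ centralizer (Z : Set G)
          rw [SubgroupClass.coe_pow, h5]
          exact one_mem _
        · intro a ha
          exact hAn w' hw'M (mul_inv_eq_iff_eq_mul.1 hf) a ha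
      rcases hcases with h1 | h1 | h1
      · refine ⟨(tv M Z c hN hcc).subgroupOf M, ?_, ⟨hw, hwc, htr⟩, ?_⟩
        · rintro a ⟨ha, ha1, ha2⟩
          refine ⟨1, ?_⟩
          change ((a ^ 2 ^ 1 : M) : G) ∈ centralizer (Z : Set G)
          rw [SubgroupClass.coe_pow, mem_centralizer_iff]
          intro x hx
          have e0 : (a : G) ^ 2 ^ 1 = (a : G) * a := by rw [pow_one, pow_two]
          change (a : G) * c * (a : G)⁻¹ = c at ha1
          rw [e0]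
          have e1 : (a : G) * a * x * ((a : G) * a)⁻¹ = a * (a * x * (a : G)⁻¹) * (a : G)⁻¹ := by group
          have e2 : (a : G) * a * x * ((a : G) * a)⁻¹ = x := by
            rw [e1]
            rcases ha2 x hx with h1 | h1
            · change (a : G) * x * (a : G)⁻¹ = x at h1
              rw [h1, h1]
            · change (a : G) * x * (a : G)⁻¹ = x * c at h1
              have e3 : (a : G) * (x * c) * (a : G)⁻¹ = (a * x * (a : G)⁻¹) * (a * c * (a : G)⁻¹) := by group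
              rw [h1, e3, h1, ha1, mul_assoc, hcc, mul_one]
          exact (mul_inv_eq_iff_eq_mul.1 e2).symm
        · rintro a ⟨ha, ha1, ha2⟩
          change (a : G) * c * (a : G)⁻¹ = c at ha1
          change w' * (a : G) * w'⁻¹ ∈ tv M Z c hN hcc
          have h1' : w'⁻¹ * c * w' = c := by
            have e : w'⁻¹ * (w' * c * w'⁻¹) * w' = c := by group
            rwa [h1] at e
          refine ⟨mul_mem (mul_mem hw'M a.2) (inv_mem hw'M), ?_, fun x hx => ?_⟩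
          · have e : w' * a * w'⁻¹ * c * (w' * a * w'⁻¹)⁻¹ = w' * (a * (w'⁻¹ * c * w') * (a : G)⁻¹) * w'⁻¹ := by
              group
            rw [e, h1', ha1, h1]
          · have hx' : w'⁻¹ * x * w' ∈ Z := by
              have := hN w'⁻¹ (inv_mem hw'M) x hx
              rwa [inv_inv] at this
            have e : w' * a * w'⁻¹ * x * (w' * a * w'⁻¹)⁻¹ = w' * (a * (w'⁻¹ * x * w') * (a : G)⁻¹) * w'⁻¹ := by
              group
            rw [e]
            rcases ha2 _ hx' with h3 | h3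
            · change (a : G) * (w'⁻¹ * x * w') * (a : G)⁻¹ = w'⁻¹ * x * w' at h3
              left; rw [h3]; group
            · change (a : G) * (w'⁻¹ * x * w') * (a : G)⁻¹ = w'⁻¹ * x * w' * c at h3
              right; rw [h3]
              have e5 : w' * (w'⁻¹ * x * w' * c) * w'⁻¹ = x * (w' * c * w'⁻¹) := by group
              rw [e5, h1]
      · exact hgen z h1 hA
      · exact hgen (z * c) h1 hB
  exact hwK

end Cfsg.Agent.Omega.NO3S.CaseLW.QWt

end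

section


/-!
# THEOREM LAMBDA: the normal closure `AH = ⟨A^g : A ∈ AA, g ∈ H⟩`

* `AH`, `AH_le`, `AH_norm` : normal in `H`; `AH_sup` : `AH ⊔ T = H` if some member of `AA` is not in `O₂(H)`;
* `Y0_sub` : `AH` centralises `Y0 / V` (`V = zl T H`);
* **`AH_cent`** : `W j ≰ Y0`, the members of `AA` centralise `Z j` ⟹ `AH` centralises `Z j` (blocks of any order);
* `AH_cent_one` : the same for `|Z j| = 2` (`LamFix.mem_cent`).

Author: helper182.
-/

set_option autoImplicit false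
set_option linter.unusedSectionVars false

namespace Cfsg.Agent.Omega.NO3S.CaseLW.LamFix

open Subgroup Cfsg Cfsg.Agent.ZN Cfsg.Agent.ZN.ChoiceBase Cfsg.Agent.ZN.ChoiceSit
open Cfsg.Agent.PLocal.ThompsonJ
open Cfsg.Agent.Omega.OM.GLev (GE Y0 mem_Y0)

universe u

variable {G : Type u} [Group G]

/-- `⟨A^g : A ∈ AA, g ∈ H⟩` -/
def AH (H : Subgroup G) (AA : Set (Subgroup G)) : Subgroup G :=
  sSup {B | ∃ A ∈ AA, ∃ g ∈ H, B = cj g A}

variable {T H X : Subgroup G} {AA : Set (Subgroup G)}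

theorem le_AH {A : Subgroup G} (hA : A ∈ AA) : A ≤ AH H AA :=
  le_sSup ⟨A, hA, 1, one_mem H, (cj_one A).symm⟩

/-- induction over the normal closure -/
theorem AH_le_of {K : Subgroup G} (h : ∀ A ∈ AA, ∀ g ∈ H, cj g A ≤ K) : AH H AA ≤ K :=
  sSup_le (by rintro _ ⟨A, hA, g, hg, rfl⟩; exact h A hA g hg)

theorem AH_conj {g x : G} (hg : g ∈ H) (hx : x ∈ AH H AA) : g * x * g⁻¹ ∈ AH H AA := by
  have h1 : AH H AA ≤ (AH H AA).comap (MulAut.conj g).toMonoidHom := by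
    refine AH_le_of fun A hA y hy => ?_
    rintro _ ⟨a, ha, rfl⟩
    have h2 : cj (g * y) A ≤ AH H AA := le_sSup ⟨A, hA, g * y, mul_mem hg hy, rfl⟩
    refine mem_comap.2 (h2 ⟨a, ha, ?_⟩)
    simp [mul_assoc]
  exact mem_comap.1 (h1 hx)

variable [Finite G] (h : GE T H X AA)
include h

theorem AH_le : AH H AA ≤ H := AH_le_of fun A hA g hg => by
  rintro _ ⟨a, ha, rfl⟩
  exact mul_mem (mul_mem hg (h.TH (h.fam.le A hA ha))) (inv_mem hg)

theorem AH_norm : H ≤ normalizer (AH H AA : Set G) := fun g hg => mem_normalizer_of_cj_le (by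
  rintro _ ⟨x, hx, rfl⟩
  exact AH_conj hg hx)

/-- `⟨A^H⟩ T = H` if some member of `AA` is not in `O₂(H)`. -/
theorem AH_sup (hout : ∃ A ∈ AA, ¬ A ≤ o2 H) : AH H AA ⊔ T = H := by
  by_contra hne
  obtain ⟨A, hA, hAQ⟩ := hout
  exact hAQ ((le_inf (h.fam.le A hA) (le_AH hA)).trans
    (h.hm.inf_le (AH_le h) (fun g hg n hn => AH_conj hg hn) hne))

/-- `[Y0, ⟨A^H⟩] ≤ V`. -/
theorem Y0_sub {y x : G} (hy : y ∈ Y0 H X AA) (hx : x ∈ AH H AA) : x * y * x⁻¹ * y⁻¹ ∈ zl T H := by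
  have hV : ∀ g ∈ H, ∀ v ∈ zl T H, g * v * g⁻¹ ∈ zl T H := fun g hg v hv =>
    (mem_normalizer_iff.1 (le_normalizer_zl T H hg) v).1 hv
  have hgen : ∀ A ∈ AA, ∀ g ∈ H, ∀ a ∈ A, ∀ y ∈ Y0 H X AA,
      (g * a * g⁻¹) * y * (g * a * g⁻¹)⁻¹ * y⁻¹ ∈ zl T H := by
    intro A hA g hg a ha y hy
    have h1 : g⁻¹ * y * g ∈ Y0 H X AA := by
      have := (mem_normalizer_iff.1 (h.norm_Y0 (inv_mem hg)) y).1 hy
      simpa using this
    obtain ⟨v, hv, h2⟩ := h.Y0_comm hA h1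
    have h3 : a * (g⁻¹ * y * g) * a⁻¹ * (g⁻¹ * y * g)⁻¹ ∈ zl T H := by
      rw [h2 a ha]
      exact mul_mem (hV a (h.TH (h.fam.le A hA ha)) v hv) (inv_mem hv)
    have h4 := hV g hg _ h3
    have e : g * (a * (g⁻¹ * y * g) * a⁻¹ * (g⁻¹ * y * g)⁻¹) * g⁻¹ =
        (g * a * g⁻¹) * y * (g * a * g⁻¹)⁻¹ * y⁻¹ := by group
    rwa [e] at h4
  -- the elements of `H` acting trivially on `Y0 / V` form a subgroup
  let K : Subgroup G :=
    { carrier := {x | x ∈ H ∧ ∀ y ∈ Y0 H X AA, x * y * x⁻¹ * y⁻¹ ∈ zl T H}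
      one_mem' := ⟨one_mem H, fun y _ => by simpa using one_mem (zl T H)⟩
      mul_mem' := by
        rintro s t ⟨hs, hs'⟩ ⟨ht, ht'⟩
        refine ⟨mul_mem hs ht, fun y hy => ?_⟩
        have e : s * t * y * (s * t)⁻¹ * y⁻¹ = s * (t * y * t⁻¹ * y⁻¹) * s⁻¹ * (s * y * s⁻¹ * y⁻¹) := by group
        rw [e]
        exact mul_mem (hV s hs _ (ht' y hy)) (hs' y hy)
      inv_mem' := by
        rintro s ⟨hs, hs'⟩
        refine ⟨inv_mem hs, fun y hy => ?_⟩
        have e : s⁻¹ * y * s⁻¹⁻¹ * y⁻¹ = s⁻¹ * (s * y * s⁻¹ * y⁻¹)⁻¹ * s⁻¹⁻¹ := by group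
        rw [e]
        exact hV _ (inv_mem hs) _ (inv_mem (hs' y hy)) }
  have hK : AH H AA ≤ K := AH_le_of fun A hA g hg => by
    rintro _ ⟨a, ha, rfl⟩
    exact ⟨mul_mem (mul_mem hg (h.TH (h.fam.le A hA ha))) (inv_mem hg), hgen A hA g hg a ha⟩
  exact (hK hx).2 y hy

/-- **The centre of a block which is not in `Y0` is centralised by `⟨A^H⟩`** (any order of `Z j`). -/
theorem AH_cent {ι : Type*} {W Z : ι → Subgroup G} (c : CenQ H X AA (RelQ H W Z)) {j : ι}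
    (hj : ¬ W j ≤ Y0 H X AA) (hc : ∀ A ∈ AA, ∀ a ∈ A, ∀ z ∈ Z j, a * z = z * a)
    (hout : ∃ A ∈ AA, ¬ A ≤ o2 H) : ∀ x ∈ AH H AA, ∀ z ∈ Z j, x * z = z * x := by
  have hn : AH H AA ≤ normalizer (Z j : Set G) := le_norm h c hj
  have h1 : AH H AA ≤ centralizer (Z j : Set G) := by
    refine AH_le_of fun A hA g hg => ?_
    rintro _ ⟨a, ha, rfl⟩
    -- `g = n t`
    have hgm : g ∈ ((AH H AA ⊔ T : Subgroup G) : Set G) := by
      rw [AH_sup h hout]; exact hg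
    rw [coe_mul_of_right_le_normalizer_left (AH H AA) T (h.TH.trans (AH_norm h))] at hgm
    obtain ⟨n, hn', t, ht, rfl⟩ := Set.mem_mul.1 hgm
    have hA' : cj t A ∈ AA := h.fam.conj A hA t (h.norm (h.TH ht)) (by
      rintro _ ⟨b, hb, rfl⟩
      exact mul_mem (mul_mem ht (h.fam.le A hA hb)) (inv_mem ht))
    refine mem_centralizer_iff.2 fun z hz => ?_
    have hz' : n⁻¹ * z * n ∈ Z j := (mem_normalizer_iff''.1 (hn hn') z).1 hz
    have h2 := hc _ hA' (t * a * t⁻¹) ⟨a, ha, rfl⟩ _ hz'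
    have e : (MulAut.conj (n * t)).toMonoidHom a = n * (t * a * t⁻¹) * n⁻¹ := by
      simp [mul_assoc]
    rw [e]
    generalize t * a * t⁻¹ = b at h2
    calc z * (n * b * n⁻¹) = n * ((n⁻¹ * z * n) * b) * n⁻¹ := by group
      _ = n * (b * (n⁻¹ * z * n)) * n⁻¹ := by rw [h2]
      _ = _ := by group
  exact fun x hx z hz => (mem_centralizer_iff.1 (h1 hx) z hz).symm

/-- `|Z j| = 2`. -/
theorem AH_cent_one {ι : Type*} {W : ι → Subgroup G} {z : ι → G} (hWX : ∀ j, W j ≤ X)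
    (com : ∀ A ∈ AA, A ≤ o2 H → ∀ r ∈ A, ∀ j, ∀ w ∈ W j,
      r * w * r⁻¹ * w⁻¹ = 1 ∨ r * w * r⁻¹ * w⁻¹ = z j) {j : ι} (hj : ¬ W j ≤ Y0 H X AA) {x : G}
    (hx : x ∈ AH H AA) : x * z j = z j * x :=
  mem_centralizer_iff.1 (mem_cent h hWX com hj) x hx

end Cfsg.Agent.Omega.NO3S.CaseLW.LamFix

end

section


/-!
# THEOREM QW (#24897, helper866), step (6), every type of `P` (natural, any `q`; symmetric)

* `comm_of_gamma` : pure: `[u, Q] ≤ R ≤ L`, `[u, Γ] ≤ L`, `R` has no `Γ`-invariant subgroup `≠ 1` ⟹ `[u, Q] = 1`;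
* `Fx L u` : the elements of `N_G(L)` which fix the coset `u L`;
* `cent_best`, `mem_ZJ_of` : the vectors of `V_P` fixed by the `S`-conjugates of one offender lie in `Z_J`;
* `bot_of_inv` : no subgroup `≠ 1` of `Z_J` is invariant under `⟨A^P⟩`, `A ≤ S` an offender on `V_P`;
* **`six`** : the end of THEOREM QW, over `CaseL`.
-/

set_option autoImplicit false
set_option linter.unusedSectionVars false

namespace Cfsg.Agent.Omega.NO3S.CaseLW.QWe

open Subgroup Cfsg Cfsg.Agent.ZN Cfsg.Agent.ZN.ChoiceBase Cfsg.Agent.Omega.MinPar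
open Cfsg.Agent.ZN.ChoiceSit (Syl)
open Cfsg.Agent.Omega.FFThm (OffM ElemM)
open Cfsg.Agent.Omega.NO1.BestOff (Best)
open Cfsg.Agent.Omega.NOThreeL.NF (MinOffM RP pts)
open Cfsg.Agent.Omega.NOThreeL.FFB (RP2)
open Cfsg.Agent.Omega.NO3b.EZero (cl cl_le)
open Cfsg.Agent.MinSimple.VModule (oddGen)
open Cfsg.Agent.Omega.NO3S.Level
open Cfsg.Agent.Omega.NO3S.RedC
open Cfsg.Agent.Omega.NO3S.WY
open scoped commutatorElement

universe u

section pure

variable {G : Type u} [Group G]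

theorem normalizer_of_forall {Γ X : Subgroup G} (h : ∀ g ∈ Γ, ∀ x ∈ X, g * x * g⁻¹ ∈ X) : Γ ≤ normalizer (X : Set G) := by
  intro g hg
  rw [mem_normalizer_iff]
  refine fun x => ⟨fun hx => h g hg x hx, fun hx => ?_⟩
  have h1 := h g⁻¹ (inv_mem hg) _ hx
  have e : g⁻¹ * (g * x * g⁻¹) * g⁻¹⁻¹ = x := by group
  rwa [e] at h1

/-- `[u, Q] ≤ R ≤ L`, `[u, Γ] ≤ L`, and `R` has no `Γ`-invariant subgroup `≠ 1` : `u` centralises `Q`. -/
theorem comm_of_gamma {Q L R Γ : Subgroup G} {u : G} (RL : R ≤ L) (Lc : ∀ x ∈ L, ∀ y ∈ L, x * y = y * x)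
    (QL : ∀ q ∈ Q, ∀ l ∈ L, q * l = l * q) (hQ : ∀ q ∈ Q, u⁻¹ * (q * u * q⁻¹) ∈ R)
    (ΓQ : Γ ≤ normalizer (Q : Set G)) (hΓ : ∀ g ∈ Γ, u⁻¹ * (g * u * g⁻¹) ∈ L)
    (inv : ∀ X ≤ R, Γ ≤ normalizer (X : Set G) → X = ⊥) : ∀ q ∈ Q, q * u = u * q := by
  set X : Subgroup G := closure {x | ∃ q ∈ Q, x = u⁻¹ * (q * u * q⁻¹)} with hX
  have h1 : X ≤ R := by
    rw [hX, closure_le]
    rintro x ⟨q, hq, rfl⟩
    exact hQ q hq
  have h2 : Γ ≤ normalizer (X : Set G) := by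
    refine normalizer_of_forall fun g hg x hx => ?_
    rw [hX] at hx
    refine closure_induction (p := fun x _ => g * x * g⁻¹ ∈ X) ?_ ?_ ?_ ?_ hx
    · rintro x ⟨q, hq, rfl⟩
      have hq' : g * q * g⁻¹ ∈ Q := (mem_normalizer_iff.1 (ΓQ hg) q).1 hq
      have hl := hΓ g hg
      set l := u⁻¹ * (g * u * g⁻¹) with hl'
      have e1 : g * u * g⁻¹ = u * l := by rw [hl']; group
      have e2 : l * (g * q * g⁻¹)⁻¹ = (g * q * g⁻¹)⁻¹ * l := (QL _ (inv_mem hq') l hl).symm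
      have h3 : u⁻¹ * ((g * q * g⁻¹) * u * (g * q * g⁻¹)⁻¹) ∈ R := hQ _ hq'
      have e3 : g * (u⁻¹ * (q * u * q⁻¹)) * g⁻¹ = u⁻¹ * ((g * q * g⁻¹) * u * (g * q * g⁻¹)⁻¹) := by
        calc g * (u⁻¹ * (q * u * q⁻¹)) * g⁻¹
            = (g * u * g⁻¹)⁻¹ * ((g * q * g⁻¹) * (g * u * g⁻¹) * (g * q * g⁻¹)⁻¹) := by group
          _ = (u * l)⁻¹ * ((g * q * g⁻¹) * (u * l) * (g * q * g⁻¹)⁻¹) := by rw [e1]
          _ = l⁻¹ * (u⁻¹ * ((g * q * g⁻¹) * u)) * (l * (g * q * g⁻¹)⁻¹) := by group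
          _ = l⁻¹ * (u⁻¹ * ((g * q * g⁻¹) * u)) * ((g * q * g⁻¹)⁻¹ * l) := by rw [e2]
          _ = l⁻¹ * ((u⁻¹ * ((g * q * g⁻¹) * u * (g * q * g⁻¹)⁻¹)) * l) := by group
          _ = l⁻¹ * (l * (u⁻¹ * ((g * q * g⁻¹) * u * (g * q * g⁻¹)⁻¹))) := by rw [Lc _ (RL h3) l hl]
          _ = _ := by group
      rw [e3]
      exact subset_closure ⟨_, hq', rfl⟩
    · rw [mul_one, mul_inv_cancel]; exact one_mem _
    · intro x y _ _ hx hy
      have e : g * (x * y) * g⁻¹ = (g * x * g⁻¹) * (g * y * g⁻¹) := by group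
      rw [e]; exact mul_mem hx hy
    · intro x _ hx
      have e : g * x⁻¹ * g⁻¹ = (g * x * g⁻¹)⁻¹ := by group
      rw [e]; exact inv_mem hx
  have h3 := inv X h1 h2
  intro q hq
  have h4 : u⁻¹ * (q * u * q⁻¹) ∈ X := subset_closure ⟨q, hq, rfl⟩
  rw [h3, mem_bot] at h4
  have h5 : q * u * q⁻¹ = u := (inv_mul_eq_one.1 h4).symm
  exact mul_inv_eq_iff_eq_mul.1 h5

/-- the elements of `N_G(L)` which fix the coset `u L` -/
def Fx (L : Subgroup G) (u : G) : Subgroup G where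
  carrier := {g | g ∈ normalizer (L : Set G) ∧ u⁻¹ * (g * u * g⁻¹) ∈ L}
  mul_mem' := by
    rintro g h ⟨hg, hg'⟩ ⟨hh, hh'⟩
    refine ⟨mul_mem hg hh, ?_⟩
    have e : u⁻¹ * (g * h * u * (g * h)⁻¹) = u⁻¹ * (g * u * g⁻¹) * (g * (u⁻¹ * (h * u * h⁻¹)) * g⁻¹) := by group
    rw [e]
    exact mul_mem hg' ((mem_normalizer_iff.1 hg _).1 hh')
  one_mem' := ⟨one_mem _, by
    have e : u⁻¹ * (1 * u * 1⁻¹) = 1 := by group
    rw [e]; exact one_mem _⟩
  inv_mem' := by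
    rintro g ⟨hg, hg'⟩
    refine ⟨inv_mem hg, ?_⟩
    have h1 := (mem_normalizer_iff.1 (inv_mem hg) _).1 (inv_mem hg')
    have e : g⁻¹ * (u⁻¹ * (g * u * g⁻¹))⁻¹ * g⁻¹⁻¹ = u⁻¹ * (g⁻¹ * u * g⁻¹⁻¹) := by group
    rwa [e] at h1

theorem mem_Fx {L : Subgroup G} {u g : G} :
    g ∈ Fx L u ↔ g ∈ normalizer (L : Set G) ∧ u⁻¹ * (g * u * g⁻¹) ∈ L := Iff.rfl

end pure

section rp

variable {G : Type u} [Group G] [Finite G] {S : Sylow 2 G} {P : Subgroup G}

/-- `RP2` in the case (L) -/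
theorem rp2 (h : CaseL S P) : RP2 (S : Subgroup G) P := by
  have hy := h.hypN.toHyp
  have hP := h.pss.par
  obtain ⟨A, hAS, hA⟩ := h.ff P h.pss
  obtain ⟨_, hcc⟩ := FF.Glob.ffthmM G (S : Subgroup G) P (FFThm.syl_of_sylow S hP.le) hP.toIsMinPar
    (hP.isLoc.char2 S h.ctx.char2) ⟨A, hAS.trans hP.le, hA⟩
  rcases hcc with ⟨K, _, _, _, k, _, ⟨M⟩⟩ | ⟨k, m, _, hm, ⟨M⟩⟩
  · exact NOThreeL.FFB.rp2_of_natKM hP.le hy.cv M
  · exact NOThreeL.FFB.rp2_of_symKM h.ctx.char2 hP.isLoc hy.cv (by omega) M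

/-- `S` normalises `Z_J`. -/
theorem S_norm_ZJ (h : CaseL S P) : (S : Subgroup G) ≤ normalizer (ZJ (S : Subgroup G) P : Set G) := by
  refine le_trans ?_ (normalizer_le_zc _)
  exact le_normalizer.trans (h.levQ.next.norm _ (nxt_le _ _) le_rfl)

/-- A vector of `V_P` fixed by the `S`-conjugates of one minimal offender is fixed by all offenders in `S`. -/
theorem cent_best (hr : RP (S : Subgroup G) P) (hr2 : RP2 (S : Subgroup G) P)
    (SL : (S : Subgroup G) ≤ normalizer (zl (S : Subgroup G) P : Set G)) {A : Subgroup G}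
    (hA : MinOffM (zl (S : Subgroup G) P) (S : Subgroup G) A) {x : G} (hx : x ∈ zl (S : Subgroup G) P)
    (hc : ∀ s ∈ (S : Subgroup G), x ∈ centralizer ((cj s A : Subgroup G) : Set G)) {B : Subgroup G}
    (hB : B ≤ (S : Subgroup G)) (hBO : Best (zl (S : Subgroup G) P) B) : x ∈ centralizer (B : Set G) := by
  have hxz : ∀ y ∈ centralizer (zl (S : Subgroup G) P : Set G), y * x = x * y := fun y hy =>
    (mem_centralizer_iff.1 hy x hx).symm
  by_cases hne : B ≤ centralizer (zl (S : Subgroup G) P : Set G)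
  · exact mem_centralizer_iff.2 fun b hb => hxz b (hne hb)
  have hoff : OffM (zl (S : Subgroup G) P) B := hBO.offM le_rfl hne
  have h1 := hr2.gen B hB hoff
  have h2 : sSup {B' : Subgroup G | B' ≤ B ∧ MinOffM (zl (S : Subgroup G) P) (S : Subgroup G) B'} ⊔
      centralizer (zl (S : Subgroup G) P : Set G) ≤ centralizer ({x} : Set G) := by
    refine sup_le (sSup_le ?_) ?_
    · rintro B' ⟨_, hB'⟩ b hb
      obtain ⟨s, hs, e⟩ := hr.conj A B' hA hB'
      have hsA : MinOffM (zl (S : Subgroup G) P) (S : Subgroup G) (cj s A) := by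
        refine CaseLW.MinOffM.cj_of hA (SL hs) ?_
        have h3 := cj_mono s hA.le
        rwa [cj_eq_of_mem_normalizer (le_normalizer hs)] at h3
      have e2 : ⁅zl (S : Subgroup G) P, cj s A⁆ = ⁅zl (S : Subgroup G) P, B'⁆ := by
        rw [e, NOThreeL.NF.NatR.comm_cj _ (SL hs)]
      obtain ⟨a, ha, hab⟩ := hr2.eq _ B' hsA hB' e2 b hb
      have h4 : a * x = x * a := mem_centralizer_iff.1 (hc s hs) a ha
      have h5 : a⁻¹ * b * x = x * (a⁻¹ * b) := hxz _ hab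
      rw [mem_centralizer_singleton_iff]
      calc b * x = a * (a⁻¹ * b * x) := by group
        _ = a * (x * (a⁻¹ * b)) := by rw [h5]
        _ = a * x * (a⁻¹ * b) := by group
        _ = x * a * (a⁻¹ * b) := by rw [h4]
        _ = x * b := by group
    · intro y hy
      rw [mem_centralizer_singleton_iff]
      exact hxz y hy
  exact mem_centralizer_iff.2 fun b hb => mem_centralizer_singleton_iff.1 (h2 (h1 hb))

/-- The vectors of `V_P` fixed by the `S`-conjugates of one minimal offender lie in `Z_J`. -/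
theorem mem_ZJ_of (h : CaseL S P) (hr : RP (S : Subgroup G) P) (hr2 : RP2 (S : Subgroup G) P)
    (SL : (S : Subgroup G) ≤ normalizer (zl (S : Subgroup G) P : Set G)) {A : Subgroup G}
    (hA : MinOffM (zl (S : Subgroup G) P) (S : Subgroup G) A) {x : G} (hx : x ∈ zl (S : Subgroup G) P)
    (hc : ∀ s ∈ (S : Subgroup G), x ∈ centralizer ((cj s A : Subgroup G) : Set G)) : x ∈ ZJ (S : Subgroup G) P := by
  have hx' : x ∈ zc (o2 P) := by rw [h.zc_eq]; exact hx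
  obtain ⟨hxQ, hx2, _⟩ := ChoiceBase.mem_zc.1 hx'
  have hn : nxt (S : Subgroup G) (o2 P) ≤ centralizer ({x} : Set G) := by
    refine sup_le ?_ (sSup_le ?_)
    · refine inf_le_right.trans (centralizer_le ?_)
      rw [Set.singleton_subset_iff]; exact hx'
    · rintro B ⟨hBS, hB⟩ b hb
      rw [h.zc_eq] at hB
      rw [mem_centralizer_singleton_iff]
      exact mem_centralizer_iff.1 (cent_best hr hr2 SL hA hx hc hBS hB) b hb
  exact ChoiceBase.mem_zc.2 ⟨le_nxt h.levQ.le hxQ, hx2, fun y hy => mem_centralizer_singleton_iff.1 (hn hy)⟩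

/-- **No subgroup `≠ 1` of `Z_J` is invariant under all `A^p`, `p ∈ P`.** -/
theorem bot_of_inv (h : CaseL S P) (hr : RP (S : Subgroup G) P) {A : Subgroup G}
    (hA : MinOffM (zl (S : Subgroup G) P) (S : Subgroup G) A)
    (hAZ : ∀ s ∈ (S : Subgroup G), cj s A ≤ centralizer (ZJ (S : Subgroup G) P : Set G)) {X : Subgroup G}
    (hX : X ≤ ZJ (S : Subgroup G) P) (hn : ∀ p ∈ P, cj p A ≤ normalizer (X : Set G)) : X = ⊥ := by
  have hP := h.pss.par
  have hSP : (S : Subgroup G) ≤ P := hP.le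
  have hXL : X ≤ zl (S : Subgroup G) P := hX.trans (ZJ_le h)
  -- `N = ⟨A^P⟩`
  have hNP : cl A P ≤ P := cl_le fun p hp => by
    have h1 := cj_mono p (hA.le.trans hSP)
    rwa [cj_eq_of_mem_normalizer (le_normalizer hp)] at h1
  have hPN : P ≤ normalizer (cl A P : Set G) := fun p hp => mem_normalizer_iff_cj.2 (NO3b.EZero.cj_cl hp)
  have hNX : cl A P ≤ normalizer (X : Set G) := cl_le hn
  have hsyl : Syl (S : Subgroup G) P := FFThm.syl_of_sylow S hP.le
  have hodd : oddGen P ≤ cl A P := by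
    rcases NO3b.K0.min_or hsyl hP.toIsMinPar hNP hPN with h1 | h1
    · exact h1
    · exfalso
      refine hA.off.ne ((le_inf hA.le (NO3b.EZero.le_cl A P)).trans (h1.trans ?_))
      rw [← h.zc_eq]
      exact Level.le_centralizer_zc _
  have hsup : cl A P ⊔ (S : Subgroup G) = P := le_antisymm (sup_le hNP hSP) (by
    conv_lhs => rw [← NO3b.EZero.oddGen_sup_syl hsyl]
    exact sup_le_sup_right hodd _)
  -- all `A^p` centralise `X`
  have hcent : ∀ p ∈ P, cj p A ≤ centralizer (X : Set G) := by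
    intro p hp
    have hp' : p⁻¹ ∈ (S : Subgroup G) ⊔ cl A P := by
      rw [sup_comm, hsup]; exact inv_mem hp
    have hSN : (S : Subgroup G) ≤ normalizer (cl A P : Set G) := hSP.trans hPN
    obtain ⟨s, hs, n, hn', e⟩ := MinSimple.FFBlock.mem_sup_of_le_normalizer hSN hp'
    have e' : p = n⁻¹ * s⁻¹ := by rw [← mul_inv_rev, ← e, inv_inv]
    have h2 : cj s⁻¹ A ≤ centralizer (X : Set G) := (hAZ _ (inv_mem hs)).trans (centralizer_le hX)
    have h3 := cj_mono n⁻¹ h2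
    rw [cj_cj, cj_centralizer, cj_eq_of_mem_normalizer (hNX (inv_mem hn')), ← e'] at h3
    exact h3
  obtain ⟨Y, hYP, _, hY0, _⟩ := hr.gen A hA
  rw [← le_bot_iff, ← hY0]
  refine le_inf hXL (le_iInf fun x => le_iInf fun hx => ?_)
  rw [le_centralizer_iff]
  exact hcent x (hYP x hx)

/-- **THEOREM QW, (6).** `F` active (`W_F ≤ S`, `W_F ≰ O₂(P)`), `V_P ≤ V₀ ≤ V`, `P ≤ N(V₀)`, `V₀ ≤ E_F`; all `W_F^s`, `s ∈ S`,
and all `A_F^p`, `p ∈ P`, `A_F = C_{W_F}(V_P)`, centralise `⟨Z_J^Y⟩ ≤ V₀`: then `Y` normalises `Z_J`. -/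
theorem six {T Y V : Subgroup G} (h : WQ S P T Y) (hV : Md S P Y V) {V₀ : Subgroup G}
    (L0 : zl (S : Subgroup G) P ≤ V₀) (P0 : P ≤ normalizer (V₀ : Set G)) (V0 : V₀ ≤ V)
    (hU : cl (ZJ (S : Subgroup G) P) Y ≤ V₀) {F : Subgroup G} (hF : ActW S P V F) (hE : V₀ ≤ NOne.Flat.EE V F)
    (hex : (centralizer (zl (S : Subgroup G) P : Set G)).relIndex (NOne.Flat.WW V F) ≤
      (centralizer (NOne.Flat.WW V F : Set G)).relIndex (zl (S : Subgroup G) P))
    (hc1 : ∀ s ∈ (S : Subgroup G), cl (ZJ (S : Subgroup G) P) Y ≤ centralizer ((cj s (NOne.Flat.WW V F) : Subgroup G) : Set G))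
    (hc2 : ∀ p ∈ P, cl (ZJ (S : Subgroup G) P) Y ≤ centralizer
      ((cj p (NOne.Flat.WW V F ⊓ centralizer (zl (S : Subgroup G) P : Set G)) : Subgroup G) : Set G)) :
    Y ≤ normalizer (ZJ (S : Subgroup G) P : Set G) := by
  by_contra hnY
  have hP := h.parP
  have hSP : (S : Subgroup G) ≤ P := hP.le
  have hPL : P ≤ normalizer (zl (S : Subgroup G) P : Set G) := ZN.le_normalizer_zl _ _
  have SL : (S : Subgroup G) ≤ normalizer (zl (S : Subgroup G) P : Set G) := hSP.trans hPL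
  have hoffP : ∃ A : Subgroup G, A ≤ P ∧ OffM (zl (S : Subgroup G) P) A := by
    obtain ⟨A, hAS, hA⟩ := h.cl.ff P h.cl.pss
    exact ⟨A, hAS.trans hSP, hA⟩
  have hr := CaseL.rp h.cl
  have hr2 : RP2 (S : Subgroup G) P := rp2 h.cl
  set L := zl (S : Subgroup G) P with hL
  set R := ZJ (S : Subgroup G) P with hR
  set U := cl R Y with hUd
  set W := NOne.Flat.WW V F with hW
  have hVc : V ≤ centralizer (V : Set G) := h.Vc hV
  have Lc : ∀ x ∈ L, ∀ y ∈ L, x * y = y * x := fun x hx y hy =>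
    mem_centralizer_iff.1 (hVc (V0 (L0 hy))) x (V0 (L0 hx))
  have RL : R ≤ L := ZJ_le h.cl
  -- the minimal offender
  have hWoff : OffM L W := offW hF.hyp (h.L_le_E hV hF.hyp hF.WS) (h.W_mv hF.WS hF.mv)
  obtain ⟨A, hAW, hA⟩ := NOThreeL.FFB.exists_minOff (S := (S : Subgroup G)) hF.WS hWoff
  have hWB : W ≤ BB (S : Subgroup G) P := h.W_B hV hF.hyp hF.WS
  -- `S` normalises `R`
  have SR : (S : Subgroup G) ≤ normalizer (R : Set G) := S_norm_ZJ h.cl
  have hAZ : ∀ s ∈ (S : Subgroup G), cj s A ≤ centralizer (R : Set G) := by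
    intro s hs
    have h1 : A ≤ centralizer (R : Set G) := hAW.trans (hWB.trans inf_le_right)
    have h2 := cj_mono s h1
    rwa [cj_centralizer, cj_eq_of_mem_normalizer (SR hs)] at h2
  -- `U ∩ L ≤ R`
  have hUL : U ⊓ L ≤ R := by
    rintro x ⟨hxU, hxL⟩
    refine mem_ZJ_of h.cl hr hr2 SL hA hxL fun s hs => ?_
    exact centralizer_le (cj_mono s hAW) (hc1 s hs hxU)
  -- the vector `u`
  have hRU : R ≤ U := NO3b.EZero.le_cl _ _
  have hUne : ¬ U ≤ R := by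
    intro h1
    refine hnY fun y hy => mem_normalizer_of_cj_le ((NO3b.EZero.cj_le_cl hy).trans h1)
  have hUT : U ≤ T := (hU.trans (V0.trans hV.le)).trans ((ZN.zc_le _).trans h.DX_T)
  have hTU : T ≤ normalizer (U : Set G) := fun t ht =>
    mem_normalizer_iff_cj.2 (NO3b.EZero.cj_cl (h.T_Y ht))
  obtain ⟨u, huU, huR, hut⟩ := NOThreeL.FFB.exists_fix_mod h.T2 hUT hTU (h.TS.trans SR) hUne
  have huV0 : u ∈ V₀ := hU huU
  have Rc : ∀ r ∈ R, u * r = r * u := fun r hr' =>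
    mem_centralizer_iff.1 (hVc (V0 (L0 (RL hr')))) u (V0 huV0)
  have hut' : ∀ t ∈ T, u⁻¹ * (t * u * t⁻¹) ∈ R := by
    intro t ht
    have h1 := hut t ht
    have h2 := Rc _ h1
    have e : u⁻¹ * (t * u * t⁻¹) = t * u * t⁻¹ * u⁻¹ := by
      calc u⁻¹ * (t * u * t⁻¹) = u⁻¹ * ((t * u * t⁻¹ * u⁻¹) * u) := by group
        _ = u⁻¹ * (u * (t * u * t⁻¹ * u⁻¹)) := by rw [h2]
        _ = _ := by group
    rw [e]; exact h1
  -- `[u, W^p] ≤ L`
  have hfix : ∀ p ∈ P, cj p W ≤ Fx L u := by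
    intro p hp g hg
    obtain ⟨w, hw, rfl⟩ := hg
    have hgL : p * w * p⁻¹ ∈ normalizer (L : Set G) := by
      refine hPL (mul_mem (mul_mem hp (hSP (hF.WS hw))) (inv_mem hp))
    refine ⟨hgL, ?_⟩
    change u⁻¹ * ((p * w * p⁻¹) * u * (p * w * p⁻¹)⁻¹) ∈ L
    -- `u' = u^p`
    have hu'V0 : p⁻¹ * u * p ∈ V₀ := by
      have h1 := (mem_normalizer_iff.1 (P0 (inv_mem hp)) u).1 huV0
      rwa [inv_inv] at h1
    have hu'A : p⁻¹ * u * p ∈ centralizer ((W ⊓ centralizer (L : Set G) : Subgroup G) : Set G) := by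
      have h1 := hc2 p hp huU
      rw [← cj_centralizer] at h1
      exact mem_cj.1 h1
    have hu' : p⁻¹ * u * p ∈ L ⊔ F := by
      rw [← cent_AF hF.hyp (h.L_le_E hV hF.hyp hF.WS) hex]
      exact ⟨hE hu'V0, hu'A⟩
    have hFV : F ≤ V := hF.hyp.F_le_V
    obtain ⟨l, hl, f, hf, e⟩ := CaseLW.mem_sup_comm (fun x hx y hy =>
      (mem_centralizer_iff.1 (hVc (V0 (L0 hx))) y (hFV hy)).symm) hu'
    have hwf : w * f = f * w :=
      (mem_centralizer_iff.1 (NOne.Flat.Hyp.W_le_X hw) f hf).symm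
    have hwl : w * l * w⁻¹ ∈ L := (mem_normalizer_iff.1 (SL (hF.WS hw)) l).1 hl
    have hlf : l⁻¹ * (w * l * w⁻¹) * f = f * (l⁻¹ * (w * l * w⁻¹)) :=
      (mem_centralizer_iff.1 (hVc (V0 (L0 (mul_mem (inv_mem hl) hwl)))) f (hFV hf)).symm
    have e1 : u = p * (l * f) * p⁻¹ := by rw [← e]; group
    have e2 : u⁻¹ * ((p * w * p⁻¹) * u * (p * w * p⁻¹)⁻¹) = p * (l⁻¹ * (w * l * w⁻¹)) * p⁻¹ := by
      rw [e1]
      calc (p * (l * f) * p⁻¹)⁻¹ * ((p * w * p⁻¹) * (p * (l * f) * p⁻¹) * (p * w * p⁻¹)⁻¹)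
          = p * (f⁻¹ * (l⁻¹ * (w * l * w⁻¹) * (w * f * w⁻¹))) * p⁻¹ := by group
        _ = p * (f⁻¹ * (l⁻¹ * (w * l * w⁻¹) * f)) * p⁻¹ := by rw [hwf, mul_inv_cancel_right]
        _ = p * (f⁻¹ * (f * (l⁻¹ * (w * l * w⁻¹)))) * p⁻¹ := by rw [hlf]
        _ = _ := by group
    rw [e2]
    exact (mem_normalizer_iff.1 (hPL hp) _).1 (mul_mem (inv_mem hl) hwl)
  -- `Γ = ⟨W^P⟩`
  have hΓ : cl W P ≤ Fx L u := cl_le hfix
  have hΓP : cl W P ≤ P := cl_le fun p hp => by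
    have h1 := cj_mono p (hF.WS.trans hSP)
    rwa [cj_eq_of_mem_normalizer (le_normalizer hp)] at h1
  have hLQ : L ≤ centralizer (o2 P : Set G) := by
    rw [hL, ← h.cl.zc_eq, le_centralizer_iff]
    exact Level.le_centralizer_zc _
  have hcom := comm_of_gamma (Q := o2 P) (L := L) (R := R) (Γ := cl W P) (u := u) RL Lc
    (fun q hq l hl => mem_centralizer_iff.1 (hLQ hl) q hq) (fun q hq => hut' q (h.QT hq))
    (hΓP.trans (ChoiceSit.le_normalizer_o2 P)) (fun g hg => (hΓ hg).2)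
    (fun X hX hXn => bot_of_inv h.cl hr hA hAZ hX fun p hp => by
      refine le_trans ?_ hXn
      exact (cj_mono p hAW).trans (NO3b.EZero.cj_le_cl hp))
  -- `u ∈ C_V(Q) = L`
  have huL : u ∈ L := by
    rw [hL, ← h.cvQ]
    exact ⟨hV.le (V0 huV0), mem_centralizer_iff.2 hcom⟩
  exact huR (hUL ⟨huU, huL⟩)

end rp

end Cfsg.Agent.Omega.NO3S.CaseLW.QWe

end

section


/-!
# THEOREM QW without `M` (helper216, OMEGA #26400), step (C)

`WQ S P T Y`, `B ≤ T`, `Y ≤ C_G(Z)`, `L = V_P`, `U = ⟨L^Y⟩`, `V = ⟨Z^GX⟩`, `F` active (`W_F ≤ S`, `W_F ≰ O₂(P)`).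
If `U ≤ E_(F^p)` for all `p ∈ P` (step (B)), then **(neg)** is false: `V₀ := ⋂ E_(F^p)`, `A_F^p` is exact on `U`, and
`QWe.six` gives `Y ≤ N(Z_J)`.

* `AF_ex_of` : `A_F^p` is `Ex`, if `U ≤ E_(F^p)`;
* `le_norm_of` : **(C)** under (neg);
* `exists_best_free_of` : the form for the plug.
-/

set_option autoImplicit false
set_option linter.unusedSectionVars false
set_option linter.dupNamespace false

namespace Cfsg.Agent.Omega.NO3S.CaseLW.QWf

open Subgroup Cfsg Cfsg.Agent.ZN Cfsg.Agent.ZN.ChoiceBase Cfsg.Agent.Omega.MinPar Cfsg.Agent.Omega.Frame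
open Cfsg.Agent.Omega.FrameNOFF (CZ)
open Cfsg.Agent.Omega.NO3b.EZero (cl cl_le le_cl cj_le_cl)
open Cfsg.Agent.Omega.NO3S.Level
open Cfsg.Agent.Omega.NO3S.RedC
open Cfsg.Agent.Omega.NO3S.WY
open Cfsg.Agent.Omega.NO3S.CaseLW.QWc
open Cfsg.Agent.Omega.NO1.BestOff (Best)
open Cfsg.Agent.Omega.FFThm (OffM ElemM)
open Cfsg.Agent.Omega.NOThreeL.VF (le_fM_iff elemM_mono)
open scoped Pointwise

universe u

variable {G : Type u} [Group G] [Finite G] {S : Sylow 2 G} {P T Y V F : Subgroup G}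

/-- **(5)** : `A_F^p` is exact on `U` if `U ≤ E_(F^p)`. -/
theorem AF_ex_of (h : WQ S P T Y) (hV : Md S P Y V) (hF : NOne.Flat.Hyp V F)
    (hW : NOne.Flat.WW V F ≤ (S : Subgroup G)) {p : G} (hp : p ∈ P)
    (hU : cl (zl (S : Subgroup G) P) Y ≤ NOne.Flat.EE V (MulAut.conj p • F)) :
    Ex T (cl (zl (S : Subgroup G) P) Y)
      (cj p (NOne.Flat.WW V F ⊓ centralizer (zl (S : Subgroup G) P : Set G))) := by
  have hPV := PV h hV hp
  have hQ : cj p (NOne.Flat.WW V F ⊓ centralizer (zl (S : Subgroup G) P : Set G)) ≤ o2 P := by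
    have h1 : NOne.Flat.WW V F ⊓ centralizer (zl (S : Subgroup G) P : Set G) ≤ o2 P := by
      rw [← h.parP.inf_centralizer S h.hG]
      exact inf_le_inf_right _ hW
    have h2 := cj_mono p h1
    rwa [cj_eq_of_mem_normalizer (ZN.le_normalizer_o2 _ hp)] at h2
  refine ⟨hQ.trans h.QT, ?_, ?_⟩
  · rw [cj_AF h hV hp]
    exact elemM_mono (elemW (hyp_cj hF hPV) (hU.trans inf_le_left)) inf_le_left
  · rw [cj_AF h hV hp, le_fM_iff]
    exact WY.best_AF (hyp_cj hF hPV) (le_cl _ _) hU (hex_cj h hV hF hW hp)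

/-- **(C)** : `Y ≤ N(Z_J)` under (neg), if `U ≤ E_(F^p)` for all `p ∈ P`. -/
theorem le_norm_of (h : WQ S P T Y) (BT : BB (S : Subgroup G) P ≤ T) (hY : Y ≤ CZ (S : Subgroup G))
    (neg : Neg T Y (cl (zl (S : Subgroup G) P) Y)) (hV : Md S P Y V) (hF : ActW S P V F)
    (hB : ∀ p ∈ P, cl (zl (S : Subgroup G) P) Y ≤ NOne.Flat.EE V (MulAut.conj p • F)) :
    Y ≤ normalizer (ZJ (S : Subgroup G) P : Set G) := by
  set V₀ : Subgroup G := ⨅ p : P, NOne.Flat.EE V (MulAut.conj (p : G) • F) with hV₀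
  have h0 : ∀ p ∈ P, V₀ ≤ NOne.Flat.EE V (MulAut.conj p • F) := fun p hp =>
    iInf_le (fun p : P => NOne.Flat.EE V (MulAut.conj (p : G) • F)) ⟨p, hp⟩
  have h1 : V₀ ≤ NOne.Flat.EE V F := by
    have h2 := h0 1 P.one_mem
    rwa [map_one, one_smul] at h2
  have hUZ : cl (ZJ (S : Subgroup G) P) Y ≤ cl (zl (S : Subgroup G) P) Y :=
    cl_le fun y hy => (cj_mono y (ZJ_le h.cl)).trans (cj_le_cl hy)
  refine QWe.six h hV (V₀ := V₀) ?_ ?_ (h1.trans inf_le_left) ?_ hF h1 (QWc.hex h hV hF.hyp hF.WS) ?_ ?_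
  · exact le_iInf fun p => L_le_E_cj h hV hF.hyp hF.WS p.2
  · intro q hq
    refine mem_normalizer_of_cj_le (le_iInf fun p => ?_)
    have h3 : q⁻¹ * (p : G) ∈ P := P.mul_mem (P.inv_mem hq) p.2
    have h4 := cj_mono q (h0 _ h3)
    have h5 : cj q (NOne.Flat.EE V (MulAut.conj (q⁻¹ * (p : G)) • F)) = NOne.Flat.EE V (MulAut.conj (p : G) • F) := by
      have h6 := NOne.Flat.EE_conj (F := MulAut.conj (q⁻¹ * (p : G)) • F) (PV h hV hq)
      rw [smul_smul, ← map_mul, mul_inv_cancel_left] at h6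
      exact h6
    rwa [h5] at h4
  · exact hUZ.trans (le_iInf fun p => hB p p.2)
  · intro s hs
    have hsV : s ∈ normalizer (V : Set G) := hV.norm (h.S_le hs)
    have hWs : NOne.Flat.WW V (MulAut.conj s • F) ≤ (S : Subgroup G) := by
      rw [WW_cj hsV]
      have h3 := cj_mono s hF.WS
      rwa [cj_eq_of_mem_normalizer (le_normalizer hs)] at h3
    rw [← WW_cj hsV, le_centralizer_iff]
    exact Ex.cent_ZJ h neg (W_ex h BT hY hV (hyp_cj hF.hyp hsV) hWs)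
  · intro p hp
    rw [le_centralizer_iff]
    exact Ex.cent_ZJ h neg (AF_ex_of h hV hF.hyp hF.WS hp (hB p hp))

/-- **(C)**, the form for the plug: step (B) may be proved under (neg), for one active `F`. -/
theorem exists_best_free_of (h : WQ S P T Y) (BT : BB (S : Subgroup G) P ≤ T) (hY : Y ≤ CZ (S : Subgroup G))
    (hYZ : ¬ Y ≤ normalizer (ZJ (S : Subgroup G) P : Set G))
    (hB : Neg T Y (cl (zl (S : Subgroup G) P) Y) →
      ∀ F, ActW S P (zl (S : Subgroup G) (GX (S : Subgroup G) P Y)) F → ∀ p ∈ P,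
        cl (zl (S : Subgroup G) P) Y ≤
          NOne.Flat.EE (zl (S : Subgroup G) (GX (S : Subgroup G) P Y)) (MulAut.conj p • F)) :
    ∃ A ≤ T, Best (cl (zl (S : Subgroup G) P) Y) A ∧ ¬ A ≤ centralizer (cl (zl (S : Subgroup G) P) Y : Set G) ∧
      ¬ A ≤ o2 Y := by
  by_contra hcon
  have neg : Neg T Y (cl (zl (S : Subgroup G) P) Y) := Neg.of_best fun A hA hb hne => by
    by_contra hY'
    exact hcon ⟨A, hA, hb, hne, hY'⟩
  obtain ⟨-, F, hF⟩ := exists_act h BT hY neg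
  exact hYZ (le_norm_of h BT hY neg h.md_zl hF (hB neg F hF))

end Cfsg.Agent.Omega.NO3S.CaseLW.QWf

end
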