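import Cfsg.Agent.Mrg.Omega.NO3S.CaseLW.QWc
import Cfsg.Agent.Mrg.Omega.NO3S.EThree.Frame
import Cfsg.Agent.Mrg.Omega.OM.Lev.Uni


/-!
# RELATIVE QW (helper555, OMEGA #26475), step (R) (helper498)

`WQ S P T Y`, `B ≤ T`, `L = V_P = ⨁ W i` over the frame `Bg`, `FrL`, `U = ⟨L^Y⟩`, no hypothesis `Y ≤ C_G(Z)`.  For every
block `i` there is `M_i ≥ C_G(Z_J), L_i` with `U ≤ O₂(M_i)`.  Then **(neg)** is false.

* `W_ex`, `exists_act` : (5), from `U ≤ O₂(C_G(Z_J))`;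
* `U_le_E` : (4), for `p ∈ P ∩ M`; `AF_ex_of`, `comm_mem` : (5);
* `exists_F` : some `W_F ≤ S` moves `W i`, for every `i`;
* `le_ZJ_of`, `eq_bot_of` : (6) : `X ≤ Z_J`, `X = 1`;
* `not_neg_rel`, `exists_best_rel` : the end.
-/

set_option autoImplicit false
set_option linter.unusedSectionVars false
set_option linter.dupNamespace false

namespace Cfsg.Agent.Omega.NO3S.CaseLW.QWrel

open Subgroup Cfsg Cfsg.Agent.ZN Cfsg.Agent.ZN.ChoiceBase Cfsg.Agent.Omega.MinPar Cfsg.Agent.Omega.Frame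
open Cfsg.Agent.Omega.FrameNOFF (CZ)
open Cfsg.Agent.ZN.ChoiceSit (Syl)
open Cfsg.Agent.MinSimple.VModule (oddGen)
open Cfsg.Agent.Omega.NO3b.EZero (cl cl_le le_cl cj_le_cl le_normalizer_cl oddGen_sup_syl)
open Cfsg.Agent.Omega.NO3S.Level
open Cfsg.Agent.Omega.NO3S.RedC
open Cfsg.Agent.Omega.NO3S.WY
open Cfsg.Agent.Omega.NO3S.CaseLW.QWc
open Cfsg.Agent.Omega.NO3S.CaseLW.QWd (KK le_KK KK_le KK_BB KK_norm ZJ_le_R)
open Cfsg.Agent.Omega.NO1.BestOff (Best)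
open Cfsg.Agent.Omega.FFThm (OffM ElemM)
open Cfsg.Agent.Omega.NOThreeL.VF (le_fM_iff elemM_mono)
open Cfsg.Agent.Omega.NO3S.EThree.Frame (Bg)
open Cfsg.Agent.Omega.OM.Lev.Uni (FrL)
open scoped Pointwise

universe u

variable {G : Type u} [Group G] [Finite G] {S : Sylow 2 G} {P T Y V F : Subgroup G}

/-! ### (4), (5) -/

section five

theorem W_ex (h : WQ S P T Y) (BT : BB (S : Subgroup G) P ≤ T)
    (hlow : cl (zl (S : Subgroup G) P) Y ≤ o2 (centralizer (ZJ (S : Subgroup G) P : Set G)))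
    (hV : Md S P Y V) (hF : NOne.Flat.Hyp V F) (hW : NOne.Flat.WW V F ≤ (S : Subgroup G)) :
    Ex T (cl (zl (S : Subgroup G) P) Y) (NOne.Flat.WW V F) :=
  Ex.of_best ((h.W_B hV hF hW).trans BT)
    (bestW hF (h.le_E' hV hF (R := ZJ (S : Subgroup G) P) le_rfl (U_le h hV) hlow hW))

/-- some `W_F ≤ S` moves `L` -/
theorem exists_act (h : WQ S P T Y) (BT : BB (S : Subgroup G) P ≤ T)
    (hlow : cl (zl (S : Subgroup G) P) Y ≤ o2 (centralizer (ZJ (S : Subgroup G) P : Set G)))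
    (neg : Neg T Y (cl (zl (S : Subgroup G) P) Y)) :
    ∃ F, ActW S P (zl (S : Subgroup G) (GX (S : Subgroup G) P Y)) F := by
  rcases h.cut with hp | ⟨-, ha | ⟨F, hw⟩⟩
  · exfalso
    obtain ⟨A, mA, hAP, hAY⟩ := hp.act
    exact hAY (Ex.le_o2 h neg (Ex.of_best (hAP.trans h.QT) (best_mono mA.best (U_le_zl h) (h.Vc h.md_zl))))
  · exact ha
  · exact absurd (Ex.le_o2 h neg (W_ex h BT hlow h.md_zl hw.hyp (hw.WQ.trans h.o2P_le))) hw.mv

/-- `V ⊓ O₂(M) ≤ O₂(C_G(Z_J))` -/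
theorem low_of (h : WQ S P T Y) (hV : Md S P Y V) {M : Subgroup G}
    (hM : centralizer (ZJ (S : Subgroup G) P : Set G) ≤ M) :
    V ⊓ o2 M ≤ o2 (centralizer (ZJ (S : Subgroup G) P : Set G)) := by
  have h1 : V ≤ centralizer (ZJ (S : Subgroup G) P : Set G) :=
    (h.Vc hV).trans (centralizer_le ((ZJ_le h.cl).trans (h.L_le_V hV)))
  intro v hv
  exact NOne.Flat.o2_inf_le_o2 hM ⟨hv.2, h1 hv.1⟩

/-- **(4)** : `U ≤ E_(F^p)` for `p ∈ P ∩ M` -/
theorem U_le_E (h : WQ S P T Y) (hV : Md S P Y V) (hF : NOne.Flat.Hyp V F)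
    (hW : NOne.Flat.WW V F ≤ (S : Subgroup G)) {M : Subgroup G}
    (hM : centralizer (ZJ (S : Subgroup G) P : Set G) ≤ M) (hU : cl (zl (S : Subgroup G) P) Y ≤ o2 M) {p : G}
    (hp : p ∈ P) (hpM : p ∈ M) :
    cl (zl (S : Subgroup G) P) Y ≤ NOne.Flat.EE V (MulAut.conj p • F) := by
  have h0 : cl (zl (S : Subgroup G) P) Y ≤ V ⊓ o2 M := le_inf (U_le h hV) hU
  have h1 := cj_mono p (h.le_E' hV hF (R := ZJ (S : Subgroup G) P) le_rfl (inf_le_left : V ⊓ o2 M ≤ V)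
    (low_of h hV hM) hW)
  have h2 : cj p (V ⊓ o2 M) = V ⊓ o2 M := by
    rw [cj_inf, cj_eq_of_mem_normalizer (PV h hV hp), cj_eq_of_mem_normalizer (ZN.le_normalizer_o2 _ hpM)]
  rw [h2] at h1
  refine h0.trans (h1.trans ?_)
  rw [← NOne.Flat.EE_conj (PV h hV hp)]
  rfl

/-- **(5)** : `A_F^p` is exact on `U` if `U ≤ E_(F^p)`. -/
theorem AF_ex_of (h : WQ S P T Y) (hV : Md S P Y V) (hF : NOne.Flat.Hyp V F)
    (hW : NOne.Flat.WW V F ≤ (S : Subgroup G)) {p : G} (hp : p ∈ P)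
    (hU : cl (zl (S : Subgroup G) P) Y ≤ NOne.Flat.EE V (MulAut.conj p • F)) :
    Ex T (cl (zl (S : Subgroup G) P) Y)
      (cj p (NOne.Flat.WW V F ⊓ centralizer (zl (S : Subgroup G) P : Set G))) := by
  have hPV := PV h hV hp
  have hQ : cj p (NOne.Flat.WW V F ⊓ centralizer (zl (S : Subgroup G) P : Set G)) ≤ o2 P := by
    have h1 : NOne.Flat.WW V F ⊓ centralizer (zl (S : Subgroup G) P : Set G) ≤ o2 P := by
      rw [← h.parP.inf_centralizer S h.hG]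
      exact inf_le_inf_right _ hW
    have h2 := cj_mono p h1
    rwa [cj_eq_of_mem_normalizer (ZN.le_normalizer_o2 _ hp)] at h2
  refine ⟨hQ.trans h.QT, ?_, ?_⟩
  · rw [cj_AF h hV hp]
    exact elemM_mono (elemW (hyp_cj hF hPV) (hU.trans inf_le_left)) inf_le_left
  · rw [cj_AF h hV hp, le_fM_iff]
    exact WY.best_AF (hyp_cj hF hPV) (le_cl _ _) hU (hex_cj h hV hF hW hp)

/-- **(5)** : `[C_U(A_F^p), W_F^p] ≤ L` if `U ≤ E_(F^p)` -/
theorem comm_mem (h : WQ S P T Y) (hV : Md S P Y V) (hF : NOne.Flat.Hyp V F)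
    (hW : NOne.Flat.WW V F ≤ (S : Subgroup G)) {p : G} (hp : p ∈ P)
    (hU : cl (zl (S : Subgroup G) P) Y ≤ NOne.Flat.EE V (MulAut.conj p • F)) {v : G}
    (hv : v ∈ cl (zl (S : Subgroup G) P) Y)
    (hc : v ∈ centralizer (cj p (NOne.Flat.WW V F ⊓ centralizer (zl (S : Subgroup G) P : Set G)) : Set G)) {x : G}
    (hx : x ∈ cj p (NOne.Flat.WW V F)) : x * v * x⁻¹ * v⁻¹ ∈ zl (S : Subgroup G) P := by
  have hLV := h.L_le_V hV
  have hFp := hyp_cj hF (PV h hV hp)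
  have hFL : ∀ l ∈ zl (S : Subgroup G) P, ∀ f ∈ MulAut.conj p • F, l * f = f * l := fun l hl f hf =>
    mem_centralizer_iff.1 ((h.Vc hV) (hFp.F_le_V hf)) l (hLV hl)
  have h0 : v ∈ zl (S : Subgroup G) P ⊔ MulAut.conj p • F := by
    rw [cj_AF h hV hp] at hc
    rw [← WY.cent_AF hFp (L_le_E_cj h hV hF hW hp) (hex_cj h hV hF hW hp)]
    exact ⟨hU hv, hc⟩
  obtain ⟨l, hl, f, hf, rfl⟩ := SQ1.Bau.mem_sup_comm hFL h0
  have hxW : x ∈ NOne.Flat.WW V (MulAut.conj p • F) := by rwa [WW_cj (PV h hV hp)]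
  have h1 : x * f = f * x := (mem_centralizer_iff.1 (NOne.Flat.Hyp.W_le_X hxW) f hf).symm
  have hxP : x ∈ P := by
    have h2 := cj_mono p (hW.trans h.parP.le) hx
    rwa [cj_eq_of_mem_normalizer (le_normalizer hp)] at h2
  have h3 : x * l * x⁻¹ ∈ zl (S : Subgroup G) P := (mem_normalizer_iff.1 (ZN.le_normalizer_zl _ _ hxP) l).1 hl
  have e : x * (l * f) * x⁻¹ * (l * f)⁻¹ = (x * l * x⁻¹) * l⁻¹ := by
    have h4 : f * x⁻¹ = x⁻¹ * f := by
      have : x⁻¹ * (x * f) * x⁻¹ = x⁻¹ * (f * x) * x⁻¹ := by rw [h1]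
      simpa [mul_assoc] using this
    calc x * (l * f) * x⁻¹ * (l * f)⁻¹ = x * l * (f * x⁻¹) * f⁻¹ * l⁻¹ := by group
      _ = x * l * (x⁻¹ * f) * f⁻¹ * l⁻¹ := by rw [h4]
      _ = _ := by group
  rw [e]
  exact mul_mem h3 (inv_mem hl)

end five

/-! ### (6) -/

section six

variable {ι : Type} {L W Z C A : ι → Subgroup G} {q : ℕ}

/-- some `W_F ≤ S` moves `W i` -/
theorem exists_F (h : WQ S P T Y) (hV : Md S P Y V)
    (bg : Bg S P (BB (S : Subgroup G) P) (ZJ (S : Subgroup G) P) L W Z C q)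
    (fr : FrL (BB (S : Subgroup G) P) (o2 P) (zl (S : Subgroup G) P) (zl (S : Subgroup G) P) (ZJ (S : Subgroup G) P)
      L W Z C A q) (hFa : ActW S P V F) (i : ι) :
    ∃ F', NOne.Flat.Hyp V F' ∧ NOne.Flat.WW V F' ≤ (S : Subgroup G) ∧
      ∃ b ∈ NOne.Flat.WW V F', ¬ ∀ v ∈ W i, b * v = v * b := by
  -- `W_F` moves some `W j`
  have h1 : ∃ j, ∃ b ∈ NOne.Flat.WW V F, ¬ ∀ v ∈ W j, b * v = v * b := by
    by_contra hcon
    push Not at hcon
    apply hFa.mv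
    intro b hb
    have hbB : b ∈ BB (S : Subgroup G) P := h.W_B hV hFa.hyp hFa.WS hb
    refine (fr.mem_Q b hbB).2 fun v hv => ?_
    have h2 : b * v * b⁻¹ * v⁻¹ = 1 := by
      have hbV : b * v * b⁻¹ ∈ zl (S : Subgroup G) P :=
        (mem_normalizer_iff.1 (ZN.le_normalizer_zl _ _ (h.parP.le (hFa.WS hb))) v).1 hv
      refine fr.C0 _ (mul_mem hbV (inv_mem hv)) fun j => ?_
      obtain ⟨w, hw, c, hc, rfl⟩ := fr.WC j v hv
      have h3 := hcon j b hb w hw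
      have h4 := fr.BC j b hbB c hc
      have e : b * (w * c) * b⁻¹ * (w * c)⁻¹ = w * (b * c * b⁻¹ * c⁻¹) * w⁻¹ := by
        calc b * (w * c) * b⁻¹ * (w * c)⁻¹ = (b * w) * c * b⁻¹ * c⁻¹ * w⁻¹ := by group
          _ = (w * b) * c * b⁻¹ * c⁻¹ * w⁻¹ := by rw [h3]
          _ = _ := by group
      have h5 : b * c * b⁻¹ * c⁻¹ ∈ C j := mul_mem h4 (inv_mem hc)
      have h6 : w * (b * c * b⁻¹ * c⁻¹) = (b * c * b⁻¹ * c⁻¹) * w := fr.Vc (fr.WV j hw) (fr.CV j h5)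
      rw [e, h6, mul_inv_cancel_right]
      exact h5
    exact mul_inv_eq_iff_eq_mul.1 (mul_inv_eq_one.1 h2)
  obtain ⟨j, b, hb, hne⟩ := h1
  obtain ⟨s, hs, hsW⟩ := bg.trans j i
  have hsV : s ∈ normalizer (V : Set G) := hV.norm (h.S_le hs)
  refine ⟨MulAut.conj s • F, hyp_cj hFa.hyp hsV, ?_, s * b * s⁻¹, ?_, fun hcon => hne fun v hv => ?_⟩
  · rw [WW_cj hsV]
    have h3 := cj_mono s hFa.WS
    rwa [cj_eq_of_mem_normalizer (le_normalizer hs)] at h3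
  · rw [WW_cj hsV]
    exact ⟨b, hb, rfl⟩
  · have h3 := hcon (s * v * s⁻¹) (by rw [← hsW]; exact ⟨v, hv, rfl⟩)
    have h4 := congrArg (fun t => s⁻¹ * t * s) h3
    simpa [mul_assoc] using h4

variable (fr : FrL (BB (S : Subgroup G) P) (o2 P) (zl (S : Subgroup G) P) (zl (S : Subgroup G) P)
  (ZJ (S : Subgroup G) P) L W Z C A q)
include fr

/-- an element of `L` centralised by some `b ∈ B` moving `W i`, for every `i`, lies in `Z_J` -/
theorem mem_ZJ_of {x : G} (hx : x ∈ zl (S : Subgroup G) P)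
    (hb : ∀ i, ∃ b ∈ BB (S : Subgroup G) P, (¬ ∀ v ∈ W i, b * v = v * b) ∧ b * x = x * b) :
    x ∈ ZJ (S : Subgroup G) P := by
  refine fr.mem_ZJ_of hx fun i a ha => ?_
  obtain ⟨b, hbB, hne, hbx⟩ := hb i
  obtain ⟨w, hw, c, hc, rfl⟩ := fr.WC i x hx
  have h1 : b * w * b⁻¹ = w ∧ b * c * b⁻¹ = c := by
    refine fr.uniq ((fr.blk i).BV hbB hw) hw (fr.BC i b hbB c hc) hc ?_
    calc b * w * b⁻¹ * (b * c * b⁻¹) = b * (w * c) * b⁻¹ := by group
      _ = w * c := by rw [hbx]; group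
  have h2 : w ∈ Z i := (fr.blk i).mem_Z hbB hne hw (mul_inv_eq_iff_eq_mul.1 h1.1)
  have h3 : Commute a w := (fr.blk i).cZ a (fr.AB i ha) w h2
  have h4 : Commute a c := fr.AC i a ha c hc
  exact (h3.mul_right h4).eq

/-- **(6)** : `X ≤ Z_J` is normalised by `D_i^p` for `p ∈ L i`, for some `D_i ≤ B` moving `W i` : `X = 1`. -/
theorem eq_bot_of {X : Subgroup G} (hXZ : X ≤ ZJ (S : Subgroup G) P)
    (hD : ∀ i, ∃ D ≤ BB (S : Subgroup G) P, (∃ b ∈ D, ¬ ∀ v ∈ W i, b * v = v * b) ∧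
      ∀ p ∈ L i, cj p D ≤ normalizer (X : Set G)) : X = ⊥ := by
  rw [eq_bot_iff]
  intro x hx
  rw [mem_bot]
  have hxZ := hXZ hx
  refine fr.C0 x (fr.ZJV hxZ) fun i => ?_
  obtain ⟨w, hw, c, hc, hcZ, rfl⟩ := fr.split_ZJ i hxZ
  obtain ⟨D, hDB, ⟨b, hbD, hb⟩, hDn⟩ := hD i
  obtain ⟨p, hp, hpZ⟩ := fr.exists_mv i
  have hbB := hDB hbD
  have hp' : p⁻¹ ∈ L i := inv_mem hp
  have hpZ' : cj p⁻¹ (Z i) ≠ Z i := fun e => hpZ (by
    have h1 := congrArg (cj p) e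
    rw [cj_cj_inv] at h1
    exact h1.symm)
  set w' : G := p⁻¹ * w * p with hw'
  have hw'W : w' ∈ W i := by
    have h1 := (fr.blk i).nV p⁻¹ hp' w ((fr.blk i).ZV hw)
    rwa [inv_inv] at h1
  -- `y = p b p⁻¹`
  have hy : p * b * p⁻¹ ∈ normalizer (X : Set G) := hDn p hp ⟨b, hbD, rfl⟩
  have h1 : p * b * p⁻¹ * (w * c) * (p * b * p⁻¹)⁻¹ * (w * c)⁻¹ ∈ X :=
    mul_mem ((mem_normalizer_iff.1 hy _).1 hx) (inv_mem hx)
  have hpc : p * c = c * p := fr.LC i p hp c hcZ hc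
  have hbc : b * c = c * b := ((fr.mem_ZJ c).1 hcZ).2 b hbB
  have hwc : w * c = c * w := fr.Vc (fr.ZV i hw) (fr.CV i hc)
  have cp : Commute p c := hpc
  have cb : Commute b c := hbc
  have cy : Commute (p * b * p⁻¹) c := (cp.mul_left cb).mul_left cp.inv_left
  have e1 : p * b * p⁻¹ * (w * c) * (p * b * p⁻¹)⁻¹ * (w * c)⁻¹ = p * (b * w' * b⁻¹ * w'⁻¹) * p⁻¹ := by
    have e2 : (p * b * p⁻¹) * c * (p * b * p⁻¹)⁻¹ = c := by rw [cy.eq]; group
    calc p * b * p⁻¹ * (w * c) * (p * b * p⁻¹)⁻¹ * (w * c)⁻¹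
        = (p * b * p⁻¹ * w * (p * b * p⁻¹)⁻¹) * ((p * b * p⁻¹) * c * (p * b * p⁻¹)⁻¹) * c⁻¹ * w⁻¹ := by group
      _ = (p * b * p⁻¹ * w * (p * b * p⁻¹)⁻¹) * w⁻¹ := by rw [e2]; group
      _ = _ := by rw [hw']; group
  have h2 : b * w' * b⁻¹ * w'⁻¹ ∈ Z i := (fr.blk i).com b hbB w' hw'W
  have h3 : b * w' * b⁻¹ * w'⁻¹ ∈ cj p⁻¹ (ZJ (S : Subgroup G) P) ⊓ Z i := by
    refine mem_inf.2 ⟨?_, h2⟩
    rw [mem_cj, inv_inv, ← e1]
    exact hXZ h1
  rw [fr.cj_ZJ hp' hpZ', mem_bot] at h3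
  have h4 : b * w' = w' * b := mul_inv_eq_iff_eq_mul.1 (mul_inv_eq_one.1 h3)
  have h5 : w' ∈ Z i := (fr.blk i).mem_Z hbB hb hw'W h4
  have h6 : w' ∈ cj p⁻¹ (Z i) ⊓ Z i := by
    refine mem_inf.2 ⟨?_, h5⟩
    rw [mem_cj, inv_inv, hw']
    have e3 : p * (p⁻¹ * w * p) * p⁻¹ = w := by group
    rwa [e3]
  rw [fr.tri' hp' hpZ', mem_bot, hw'] at h6
  have h7 : w = 1 := by
    have h8 := congrArg (fun t => p * t * p⁻¹) h6
    simpa [mul_assoc] using h8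
  rw [h7, one_mul]
  exact hc

end six

/-! ### the end -/

section fin

variable {ι : Type} {L W Z C A : ι → Subgroup G} {q : ℕ}

/-- **RELATIVE QW, (R)** -/
theorem not_neg_rel (h : WQ S P T Y) (BT : BB (S : Subgroup G) P ≤ T)
    (bg : Bg S P (BB (S : Subgroup G) P) (ZJ (S : Subgroup G) P) L W Z C q)
    (fr : FrL (BB (S : Subgroup G) P) (o2 P) (zl (S : Subgroup G) P) (zl (S : Subgroup G) P) (ZJ (S : Subgroup G) P)
      L W Z C A q)
    (hYZ : ¬ oddGen Y ≤ centralizer (ZJ (S : Subgroup G) P : Set G))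
    (hfam : ∀ i, ∃ M, centralizer (ZJ (S : Subgroup G) P : Set G) ≤ M ∧ L i ≤ M ∧
      cl (zl (S : Subgroup G) P) Y ≤ o2 M) : ¬ Neg T Y (cl (zl (S : Subgroup G) P) Y) := by
  intro neg
  have hι : Nonempty ι := by
    by_contra hcon
    rw [not_nonempty_iff] at hcon
    apply hYZ
    intro y hy
    rw [mem_centralizer_iff]
    intro z hz
    have h1 : z = 1 := fr.C0 z (fr.ZJV hz) fun i => hcon.elim i
    rw [h1, one_mul, mul_one]
  obtain ⟨i₀⟩ := hι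
  set V : Subgroup G := zl (S : Subgroup G) (GX (S : Subgroup G) P Y) with hVd
  have hV : Md S P Y V := h.md_zl
  have hlow : cl (zl (S : Subgroup G) P) Y ≤ o2 (centralizer (ZJ (S : Subgroup G) P : Set G)) := by
    obtain ⟨M, hM, -, hU⟩ := hfam i₀
    exact (le_inf (U_le h hV) hU).trans (low_of h hV hM)
  set K : Subgroup G := KK T (cl (zl (S : Subgroup G) P) Y) with hK
  set R : Subgroup G := zl (S : Subgroup G) P ⊓ centralizer (K : Set G) with hR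
  set U₁ : Subgroup G := cl R Y with hU₁
  have hLV : zl (S : Subgroup G) P ≤ V := h.L_le_V hV
  have hUV : cl (zl (S : Subgroup G) P) Y ≤ V := U_le_zl h
  have hQL : o2 P ≤ centralizer (zl (S : Subgroup G) P : Set G) := by
    rw [← h.cl.zc_eq]; exact Level.le_centralizer_zc _
  have hKY : Y ≤ normalizer (K : Set G) := KK_norm h neg
  have hU₁U : U₁ ≤ cl (zl (S : Subgroup G) P) Y := cl_le fun y hy => (cj_mono y inf_le_left).trans (cj_le_cl hy)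
  have hU₁K : U₁ ≤ centralizer (K : Set G) := cl_le fun y hy => by
    have h1 := cj_mono y (inf_le_right : R ≤ centralizer (K : Set G))
    rwa [cj_centralizer, cj_eq_of_mem_normalizer (hKY hy)] at h1
  -- `U₁ > R`
  have hne : ¬ U₁ ≤ R := by
    intro h1
    have h2 : U₁ = R := le_antisymm h1 (le_cl _ _)
    have h3 : Y ≤ normalizer (R : Set G) := by
      rw [← h2]; exact le_normalizer_cl _ _
    have hYY : Y ≤ normalizer ((Y ⊓ centralizer (R : Set G) : Subgroup G) : Set G) :=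
      NO3b.EZero.le_normalizer_inf_cent h3
    rcases NO3b.K0.min_or h.syl h.min (K := Y ⊓ centralizer (R : Set G)) inf_le_left hYY with h4 | h4
    · exact hYZ ((h4.trans inf_le_right).trans (centralizer_le (ZJ_le_R h neg)))
    · exact h.nQ ((le_inf h.QT (le_inf (h.QT.trans h.T_Y) (hQL.trans (centralizer_le inf_le_left)))).trans h4)
  -- `u`
  have hUT : U₁ ≤ T := (hU₁U.trans hUV).trans ((hV.le.trans h.V_le_D).trans h.DX_T)
  obtain ⟨u, huU, huR, hu⟩ := OneLine.exists_fixed h.T2 hUT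
    (h.T_Y.trans (le_normalizer_cl R Y)) hne
  have huV : u ∈ V := hUV (hU₁U huU)
  -- an active `F`
  obtain ⟨F₀, hF₀⟩ := exists_act h BT hlow neg
  have hLc : ∀ a ∈ zl (S : Subgroup G) P, ∀ b ∈ zl (S : Subgroup G) P, a * b = b * a := fun a ha b hb =>
    (mem_centralizer_iff.1 ((h.Vc hV) (hLV ha)) b (hLV hb)).symm
  have hQc : ∀ q ∈ o2 P, ∀ l ∈ zl (S : Subgroup G) P, q * l = l * q := fun q hq l hl =>
    (mem_centralizer_iff.1 (hQL hq) l hl).symm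
  set X : Subgroup G := closure {x | ∃ q ∈ o2 P, x = q * u * q⁻¹ * u⁻¹} with hX
  have hXR : X ≤ R := by
    rw [hX, closure_le]
    rintro _ ⟨q, hq, rfl⟩
    exact hu q (h.QT hq)
  have hXL : X ≤ zl (S : Subgroup G) P := hXR.trans inf_le_left
  -- invariance
  have hinv : ∀ i, ∀ p ∈ L i, ∀ F, NOne.Flat.Hyp V F → NOne.Flat.WW V F ≤ (S : Subgroup G) →
      cj p (NOne.Flat.WW V F) ≤ normalizer (X : Set G) := by
    intro i p hpL F hF hWS x hx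
    have hp : p ∈ P := bg.LP i hpL
    obtain ⟨M, hM, hLM, hUM⟩ := hfam i
    have hUE := U_le_E h hV hF hWS hM hUM hp (hLM hpL)
    have hc : u ∈ centralizer
        (cj p (NOne.Flat.WW V F ⊓ centralizer (zl (S : Subgroup G) P : Set G)) : Set G) :=
      centralizer_le (le_KK (AF_ex_of h hV hF hWS hp hUE)) (hU₁K huU)
    have h1 := comm_mem h hV hF hWS hp hUE (hU₁U huU) hc hx
    have hxP : x ∈ P := by
      have h2 := cj_mono p (hWS.trans h.parP.le) hx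
      rwa [cj_eq_of_mem_normalizer (le_normalizer hp)] at h2
    refine mem_normalizer_of_cj_le (cj_le_iff.2 ?_)
    rw [hX, closure_le]
    rintro _ ⟨q, hq, rfl⟩
    change _ ∈ cj x⁻¹ X
    rw [mem_cj, inv_inv]
    set l : G := x * u * x⁻¹ * u⁻¹ with hl
    have hq' : x * q * x⁻¹ ∈ o2 P := (mem_normalizer_iff.1 (ZN.le_normalizer_o2 _ hxP) q).1 hq
    set q' : G := x * q * x⁻¹ with hq'd
    have h3 : q' * u * q'⁻¹ * u⁻¹ ∈ X := subset_closure ⟨q', hq', rfl⟩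
    have e1 : q' * l = l * q' := hQc q' hq' l h1
    have e2 : l * (q' * u * q'⁻¹ * u⁻¹) = q' * u * q'⁻¹ * u⁻¹ * l := hLc _ h1 _ (hXL h3)
    have e : x * (q * u * q⁻¹ * u⁻¹) * x⁻¹ = q' * u * q'⁻¹ * u⁻¹ := by
      have e3 : x * u * x⁻¹ = l * u := by rw [hl]; group
      calc x * (q * u * q⁻¹ * u⁻¹) * x⁻¹ = q' * (x * u * x⁻¹) * q'⁻¹ * (x * u * x⁻¹)⁻¹ := by
            rw [hq'd]; group
        _ = q' * (l * u) * q'⁻¹ * (l * u)⁻¹ := by rw [e3]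
        _ = (q' * l) * u * q'⁻¹ * u⁻¹ * l⁻¹ := by group
        _ = l * (q' * u * q'⁻¹ * u⁻¹) * l⁻¹ := by rw [e1]; group
        _ = _ := by rw [e2, mul_inv_cancel_right]
    rw [e]
    exact h3
  -- `X ≤ Z_J`
  have hcW : ∀ F, NOne.Flat.Hyp V F → NOne.Flat.WW V F ≤ (S : Subgroup G) →
      X ≤ centralizer (NOne.Flat.WW V F : Set G) := fun F hF hWS =>
    (hXR.trans inf_le_right).trans (centralizer_le (le_KK (W_ex h BT hlow hV hF hWS)))
  have hXZ : X ≤ ZJ (S : Subgroup G) P := fun x hx => mem_ZJ_of fr (hXL hx) fun i => by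
    obtain ⟨F, hF, hWS, b, hb, hne⟩ := exists_F h hV bg fr hF₀ i
    exact ⟨b, h.W_B hV hF hWS hb, hne, mem_centralizer_iff.1 (hcW F hF hWS hx) b hb⟩
  have hX1 : X = ⊥ := eq_bot_of fr hXZ fun i => by
    obtain ⟨F, hF, hWS, b, hb, hne⟩ := exists_F h hV bg fr hF₀ i
    exact ⟨NOne.Flat.WW V F, h.W_B hV hF hWS, ⟨b, hb, hne⟩, fun p hp => hinv i p hp F hF hWS⟩
  -- `u ∈ C_V(Q) = L`
  have huQ : u ∈ centralizer (o2 P : Set G) := by
    rw [mem_centralizer_iff]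
    intro q hq
    have h1 : q * u * q⁻¹ * u⁻¹ ∈ X := subset_closure ⟨q, hq, rfl⟩
    rw [hX1, mem_bot] at h1
    have h2 : q * u * q⁻¹ = u := by
      have := mul_eq_one_iff_eq_inv.1 h1
      rwa [inv_inv] at this
    calc q * u = (q * u * q⁻¹) * q := by group
      _ = u * q := by rw [h2]
  have huL : u ∈ zl (S : Subgroup G) P := by
    have h1 : u ∈ zc (DX (S : Subgroup G) P Y) ⊓ centralizer (o2 P : Set G) := ⟨hV.le huV, huQ⟩
    rwa [h.cvQ] at h1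
  exact huR ⟨huL, hU₁K huU⟩

/-- **RELATIVE QW, (R)**, the form for the plug -/
theorem exists_best_rel (h : WQ S P T Y) (BT : BB (S : Subgroup G) P ≤ T)
    (bg : Bg S P (BB (S : Subgroup G) P) (ZJ (S : Subgroup G) P) L W Z C q)
    (fr : FrL (BB (S : Subgroup G) P) (o2 P) (zl (S : Subgroup G) P) (zl (S : Subgroup G) P) (ZJ (S : Subgroup G) P)
      L W Z C A q)
    (hYZ : ¬ oddGen Y ≤ centralizer (ZJ (S : Subgroup G) P : Set G))
    (hfam : Neg T Y (cl (zl (S : Subgroup G) P) Y) → ∀ i, ∃ M, centralizer (ZJ (S : Subgroup G) P : Set G) ≤ M ∧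
      L i ≤ M ∧ cl (zl (S : Subgroup G) P) Y ≤ o2 M) :
    ∃ A ≤ T, Best (cl (zl (S : Subgroup G) P) Y) A ∧ ¬ A ≤ centralizer (cl (zl (S : Subgroup G) P) Y : Set G) ∧
      ¬ A ≤ o2 Y := by
  by_contra hcon
  have neg : Neg T Y (cl (zl (S : Subgroup G) P) Y) := Neg.of_best fun A hA hb hne => by
    by_contra hY'
    exact hcon ⟨A, hA, hb, hne, hY'⟩
  exact not_neg_rel h BT bg fr hYZ (hfam neg) neg

end fin

end Cfsg.Agent.Omega.NO3S.CaseLW.QWrel
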