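import Cfsg.Agent.Mrg.Omega.NO3S.CaseLW.LamQ.ActNT
import Cfsg.Agent.Mrg.Omega.NO3S.CaseLW.HoQOf
import Cfsg.Agent.Mrg.Omega.NO3S.CaseLW.QWa


/-!
# RELATIVE QW, (1)-(3) (helper291, OMEGA #26899; helper993 #26539), with `H = C_G(e)`, `e ∈ Z_J` of support `{m ≠ l}`

`MulL S P B ZJ L W Z C A q`, `WQ S P T Y`, `B ≤ T`; `Y` centralises `e ∈ Z_J`, `e ∈ C l`, `e ∉ C i` for `i ≠ l`, and
`1 ≠ z ∈ Z l`; `r = e z`, `N = ⟨r^H⟩`, `H = C_G(e) ≥ C_G(Z_J), L_l, Y`.

* `exists_syl` : (1) a Sylow 2-subgroup of `H` centralises `z`;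
* `le_B` : (2) `N ≤ B`;
* `cent` : (3) under (neg) `U = ⟨V_P^Y⟩` centralises `N`; `U_le_o2_H` : `U ≤ O₂(H)`;
* **`hFam : MLK → HFam h`**.
-/

set_option autoImplicit false
set_option linter.unusedSectionVars false
set_option linter.dupNamespace false

namespace Cfsg.Agent.Omega.NO3S.CaseLW.QWHz

open Subgroup Cfsg Cfsg.Agent.ZN.ChoiceBase
open Cfsg.Agent.ZN (jj zj bau zc zl o2 le_centralizer_zc le_normalizer_zl)
open Cfsg.Agent.ZN.ChoiceSit (Syl exists_syl syl_conj syl_not_dvd o2_le_syl)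
open Cfsg.Agent.Omega.MinPar
open Cfsg.Agent.Omega.FFThm (ElemM OffM NoOverM relIndex_le_iff)
open Cfsg.Agent.Omega.NO1.BestOff (Best)
open Cfsg.Agent.Omega.NO3b.EZero (cl cl_le le_cl cj_le_cl le_normalizer_cl)
open Cfsg.Agent.Omega.OM.WeakCl (WC)
open Cfsg.Agent.Omega.OM.Lev.Uni (FrL)
open Cfsg.Agent.Omega.NO3S.Level (nxt Lev BO CaseL)
open Cfsg.Agent.Omega.NO3S.WY (WQ BB)
open Cfsg.Agent.Omega.NO3S.CaseLW.QWc (Neg Ex)
open Cfsg.Agent.Omega.ML.Final (MLK)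
open Cfsg.Agent.Omega.ML.GMod (ZD)
open Cfsg.Agent.Omega.Node.MulX (MulL)
open Cfsg.Agent.Omega.HOne.TvHSide (red_of)
open Cfsg.Agent.Omega.OM.SwapT.QuietL (exists_norm_B)
open Cfsg.Agent.Omega.NO3S.CaseLW.QWrelPlug (HFam others)

universe u

variable {G : Type u} [Group G] [Finite G]

/-! ### `⟨r^H⟩` -/

/-- `⟨r^H⟩` -/
def NN (H : Subgroup G) (r : G) : Subgroup G := closure {x | ∃ g ∈ H, ∃ z ∈ ({r} : Set G), g * z * g⁻¹ = x}

theorem mem_NN {H : Subgroup G} {r g : G} (hg : g ∈ H) : g * r * g⁻¹ ∈ NN H r :=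
  subset_closure ⟨g, hg, r, rfl, rfl⟩

theorem r_mem {H : Subgroup G} {r : G} : r ∈ NN H r := by
  have h1 := mem_NN (r := r) (one_mem H)
  simpa using h1

theorem NN_le {H K : Subgroup G} {r : G} (h : ∀ g ∈ H, g * r * g⁻¹ ∈ K) : NN H r ≤ K := by
  rw [NN, closure_le]
  rintro _ ⟨g, hg, _, rfl, rfl⟩
  exact h g hg

theorem norm_NN {H : Subgroup G} {r : G} : H ≤ normalizer (NN H r : Set G) := by
  intro x hx
  refine mem_normalizer_of_cj_le (cj_le_iff.2 (NN_le fun g hg => ?_))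
  rw [mem_cj, inv_inv]
  have e : x * (g * r * g⁻¹) * x⁻¹ = x * g * r * (x * g)⁻¹ := by group
  rw [e]
  exact mem_NN (mul_mem hx hg)

/-! ### The situation -/

variable {S : Sylow 2 G} {P B ZJ : Subgroup G} {k : ℕ} {L W Z C A : Fin k → Subgroup G} {q : ℕ}
  {T Y : Subgroup G} {e z : G} {l : Fin k}

/-- the situation -/
structure Sit (S : Sylow 2 G) (P ZJ : Subgroup G) {k : ℕ} (Z C : Fin k → Subgroup G) (Y : Subgroup G) (e z : G)
    (l : Fin k) : Prop where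
  he : e ∈ ZJ
  el : e ∈ C l
  ef : ∀ i, i ≠ l → e ∉ C i
  Ye : Y ≤ centralizer ({e} : Set G)
  hz : z ∈ Z l
  z1 : z ≠ 1
  Yz : Y ≤ centralizer ({z} : Set G)

section sit

variable (h : MulL S P B ZJ L W Z C A q) (s : Sit S P ZJ Z C Y e z l)
include h s

theorem e_ne : e ≠ 1 := by
  intro h1
  obtain ⟨i, hi⟩ := h.bg.two l
  exact s.ef i hi (by rw [h1]; exact one_mem _)

theorem sqV {v : G} (hv : v ∈ zl (S : Subgroup G) P) : v ^ 2 = 1 := h.bg.fr.Vsq hv

theorem LH : L l ≤ centralizer ({e} : Set G) := fun x hx =>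
  mem_centralizer_singleton_iff.2 (h.fr.LC l x hx e s.he s.el)

theorem BH : B ≤ centralizer ({e} : Set G) := fun b hb =>
  mem_centralizer_singleton_iff.2 (((h.fr.mem_ZJ e).1 s.he).2 b hb)

theorem VH : zl (S : Subgroup G) P ≤ centralizer ({e} : Set G) := fun _ hv =>
  mem_centralizer_singleton_iff.2 (h.fr.Vc hv (h.fr.ZJV s.he))

theorem r_ZJ : e * z ∈ ZJ := mul_mem s.he (h.fr.Z_le l s.hz)

theorem r_full (i : Fin k) : e * z ∉ C i := by
  intro h1
  by_cases hi : i = l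
  · subst hi
    exact QWoFr.not_mem_C h.fr s.hz s.z1 ((mul_mem_cancel_left s.el).1 h1)
  · exact s.ef i hi ((mul_mem_cancel_right (QWoFr.Z_C h.fr hi s.hz)).1 h1)

/-- **(1)** -/
theorem exists_T : ∃ T₁ : Subgroup G, Syl T₁ (centralizer ({e} : Set G)) ∧ B ≤ T₁ ∧
    ∃ T₂ : Subgroup G, Syl T₂ (centralizer ({e} : Set G)) ∧ T₂ ≤ centralizer ({e * z} : Set G) := by
  have wc := OM.UniPlus.WC.weakNormal h.bg.wc
  obtain ⟨T₁, hT, hBT⟩ := exists_syl h.bg.bau_two (BH h s)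
  refine ⟨T₁, hT, hBT, ?_⟩
  have hTB := wc T₁ hT.2.1 hBT
  have hTZ : ∀ t ∈ T₁, cj t (Z l) = Z l := by
    intro t ht
    obtain ⟨-, hp⟩ := h.fr.norm_of (hTB ht) (h.norm_le (hTB ht))
    obtain ⟨i, hi, -⟩ := hp l
    have h1 : t * e * t⁻¹ ∈ C i := QWoFr.supp_cj h.fr (fun i => (hp i).imp fun m hm => hm.1) hi s.he s.el
    have h2 : t * e * t⁻¹ = e := mul_inv_eq_iff_eq_mul.2 (mem_centralizer_singleton_iff.1 (hT.1 ht))
    rw [h2] at h1
    by_cases hij : i = l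
    · rw [hi, hij]
    · exact absurd h1 (s.ef i hij)
  obtain ⟨d, hd, hd1, hdT⟩ := QWoFr.exists_fix hT.2.1 (fun t ht n hn => by
    rw [← hTZ t ht]; exact ⟨n, hn, rfl⟩) (QWoFr.two_dvd h.fr l)
  obtain ⟨g, hg, hgd⟩ := QWoFr.Z_conj h.fr hd s.hz hd1 s.z1
  have hgH := LH h s hg
  have h3 : Syl (cj g T₁) (cj g (centralizer ({e} : Set G))) := NO1.JMin.syl_cj hT g
  rw [cj_eq_of_mem_normalizer (le_normalizer hgH)] at h3
  refine ⟨_, h3, ?_⟩
  rintro _ ⟨t, ht, rfl⟩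
  change g * t * g⁻¹ ∈ _
  rw [mem_centralizer_singleton_iff]
  have h4 : t * d = d * t := mul_inv_eq_iff_eq_mul.1 (hdT t ht)
  have h5 : (g * t * g⁻¹) * z = z * (g * t * g⁻¹) := by
    rw [← hgd]
    calc g * t * g⁻¹ * (g * d * g⁻¹) = g * (t * d) * g⁻¹ := by group
      _ = g * (d * t) * g⁻¹ := by rw [h4]
      _ = _ := by group
  have h6 : (g * t * g⁻¹) * e = e * (g * t * g⁻¹) := mem_centralizer_singleton_iff.1 (h3.1 ⟨t, ht, rfl⟩)
  have c1 : Commute (g * t * g⁻¹) e := h6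
  have c2 : Commute (g * t * g⁻¹) z := h5
  exact (c1.mul_right c2).eq

/-- `N ≤ Ω₁(Z(O₂(H)))` -/
theorem NN_le_zc : NN (centralizer ({e} : Set G)) (e * z) ≤ zc (o2 (centralizer ({e} : Set G))) := by
  have hG := h.cl.ctx.char2
  obtain ⟨-, -, -, T₂, hT₂, hc⟩ := exists_T h s
  have hrV := h.fr.ZJV (r_ZJ h s)
  have h0 : e * z ∈ zc (o2 (centralizer ({e} : Set G))) := by
    have h1 : e * z ∈ o2 (centralizer ({e} : Set G)) := by
      refine MinSimple.Basic.char2_centralizer hG (sqV h s (h.fr.ZJV s.he)) (e_ne h s)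
        (mem_inf.2 ⟨VH h s hrV, mem_centralizer_iff.2 fun x hx => ?_⟩)
      exact mem_centralizer_singleton_iff.1 (hc (o2_le_syl hT₂ hx))
    refine mem_zc.2 ⟨h1, sqV h s hrV, fun x hx => ?_⟩
    exact mem_centralizer_singleton_iff.1 (hc (o2_le_syl hT₂ hx))
  have hn : centralizer ({e} : Set G) ≤ normalizer (zc (o2 (centralizer ({e} : Set G))) : Set G) :=
    (ZN.le_normalizer_o2 _).trans (NO3S.Level.normalizer_le_zc _)
  exact NN_le fun g hg => (mem_normalizer_iff.1 (hn hg) _).1 h0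

theorem N_le_o2 : NN (centralizer ({e} : Set G)) (e * z) ≤ o2 (centralizer ({e} : Set G)) :=
  (NN_le_zc h s).trans (ZN.zc_le _)

theorem N_sq {v : G} (hv : v ∈ NN (centralizer ({e} : Set G)) (e * z)) : v * v = 1 := by
  have h1 := (mem_zc.1 (NN_le_zc h s hv)).2.1
  rwa [sq] at h1

theorem N_comm {v w : G} (hv : v ∈ NN (centralizer ({e} : Set G)) (e * z))
    (hw : w ∈ NN (centralizer ({e} : Set G)) (e * z)) : v * w = w * v :=
  (mem_zc.1 (NN_le_zc h s hw)).2.2 v (N_le_o2 h s hv)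

/-- `O₂(C_G(r)) ∩ H ≤ O₂(C_H(r))` -/
theorem le_o2_cap {U : Subgroup G} (hU : U ≤ o2 (centralizer ({e * z} : Set G)))
    (hUH : U ≤ centralizer ({e} : Set G)) :
    U ≤ o2 (centralizer ({e} : Set G) ⊓ centralizer (zpowers (e * z) : Set G)) := by
  have e1 : centralizer (zpowers (e * z) : Set G) = centralizer ({e * z} : Set G) := by
    rw [zpowers_eq_closure, centralizer_closure]
  rw [e1]
  exact fun x hx => NOne.Flat.o2_inf_le_o2 inf_le_right ⟨hU hx, hUH hx, ZN.o2_le _ (hU hx)⟩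

/-- (ML) -/
theorem ml_ind (ml : MLK.{u, u}) {U : Subgroup G} (hU : U ≤ o2 (centralizer ({e * z} : Set G)))
    (hUH : U ≤ centralizer ({e} : Set G)) (hsq : ∀ a ∈ U, a * a = 1) :
    (centralizer (NN (centralizer ({e} : Set G)) (e * z) : Set G)).relIndex U ≤
      (centralizer (U : Set G)).relIndex (NN (centralizer ({e} : Set G)) (e * z)) := by
  obtain ⟨-, -, -, T₂, hT₂, hc⟩ := exists_T h s
  have e1 : centralizer (zpowers (e * z) : Set G) = centralizer ({e * z} : Set G) := by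
    rw [zpowers_eq_closure, centralizer_closure]
  have D : ZD (centralizer ({e} : Set G)) (NN (centralizer ({e} : Set G)) (e * z)) (zpowers (e * z)) T₂ U :=
    { nV := norm_NN
      sq := fun v hv => N_sq h s hv
      ZV := by rw [zpowers_le]; exact r_mem
      gen := fun X h1 h2 => NN_le fun g hg => (mem_normalizer_iff.1 (h2 hg) _).1 (h1 (mem_zpowers _))
      TL := hT₂.1
      two := hT₂.2.1
      odd := syl_not_dvd hT₂
      TZ := by rw [e1]; exact hc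
      AO := le_o2_cap h s hU hUH
      Asq := fun a ha => by rw [hsq a ha]; exact one_mem _ }
  exact D.gml ml (TwoFar.isKGroup_centralizer_pt h.cl.hypN.toHyp (e_ne h s))

/-- **(2)** : `N ≤ B` -/
theorem le_B (ml : MLK.{u, u}) : NN (centralizer ({e} : Set G)) (e * z) ≤ B := by
  set N : Subgroup G := NN (centralizer ({e} : Set G)) (e * z) with hN
  obtain ⟨T₁, hT₁, hBT, -⟩ := exists_T h s
  have eBT : B = OM.SwapT.BT (S : Subgroup G) (o2 P) := by rw [h.eB, h.eZ]; rfl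
  obtain ⟨g, hg, hle, -⟩ := exists_norm_B h.cl.wc h.cl.levQ hT₁.2.1 (eBT ▸ hBT)
  have hgB : g ∈ normalizer (B : Set G) := by rw [eBT]; exact hg
  have hgi : g⁻¹ ∈ normalizer (B : Set G) := inv_mem hgB
  have hgV : cj g⁻¹ (zl (S : Subgroup G) P) = zl (S : Subgroup G) P := cj_eq_of_mem_normalizer (h.norm_le hgi)
  have hNT : N ≤ T₁ := (N_le_o2 h s).trans (o2_le_syl hT₁)
  have hNS : cj g⁻¹ N ≤ (S : Subgroup G) := by
    have := cj_mono g⁻¹ (hNT.trans hle)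
    rwa [cj_inv_cj] at this
  have h1 := ml_ind h s ml (LowFull.low_full h ml (r_ZJ h s) (r_full h s)) (VH h s)
    (fun a ha => by have := sqV h s ha; rwa [sq] at this)
  have h2 := (relIndex_le_iff (V := zl (S : Subgroup G) P) (A := N)
    (B := centralizer (zl (S : Subgroup G) P : Set G)) (D := centralizer (N : Set G))).2 h1
  have e1 : cj g⁻¹ (N ⊓ centralizer (zl (S : Subgroup G) P : Set G)) =
      cj g⁻¹ N ⊓ centralizer (zl (S : Subgroup G) P : Set G) := by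
    rw [cj_inf, cj_centralizer, hgV]
  have e2 : cj g⁻¹ (zl (S : Subgroup G) P ⊓ centralizer (N : Set G)) =
      zl (S : Subgroup G) P ⊓ centralizer (cj g⁻¹ N : Set G) := by
    rw [cj_inf, cj_centralizer, hgV]
  have h3 : Nat.card (zl (S : Subgroup G) P) * Nat.card ↥(cj g⁻¹ N ⊓ centralizer (zl (S : Subgroup G) P : Set G)) ≤
      Nat.card (cj g⁻¹ N) * Nat.card ↥(zl (S : Subgroup G) P ⊓ centralizer (cj g⁻¹ N : Set G)) := by
    rw [← e1, ← e2, card_cj, card_cj, card_cj]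
    exact h2
  have hno := (h.cl.hypN.toHyp.ff FF.Glob.ffthmM (h.cl.ff P h.cl.pss)).1
  have hcjsq : ∀ a ∈ cj g⁻¹ N, a * a = 1 := by
    rintro _ ⟨a, ha, rfl⟩
    change g⁻¹ * a * g⁻¹⁻¹ * (g⁻¹ * a * g⁻¹⁻¹) = 1
    have h4 := N_sq h s ha
    calc g⁻¹ * a * g⁻¹⁻¹ * (g⁻¹ * a * g⁻¹⁻¹) = g⁻¹ * (a * a) * g := by group
      _ = 1 := by rw [h4]; group
  have hcjc : ∀ a ∈ cj g⁻¹ N, ∀ b ∈ cj g⁻¹ N, a * b = b * a := by
    rintro _ ⟨a, ha, rfl⟩ _ ⟨b, hb, rfl⟩
    change g⁻¹ * a * g⁻¹⁻¹ * (g⁻¹ * b * g⁻¹⁻¹) = g⁻¹ * b * g⁻¹⁻¹ * (g⁻¹ * a * g⁻¹⁻¹)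
    have h4 := N_comm h s ha hb
    calc g⁻¹ * a * g⁻¹⁻¹ * (g⁻¹ * b * g⁻¹⁻¹) = g⁻¹ * (a * b) * g := by group
      _ = g⁻¹ * (b * a) * g := by rw [h4]
      _ = _ := by group
  have h5 : Best (zl (S : Subgroup G) P) (cj g⁻¹ N) := by
    refine LowOne.best_of_off hno (hNS.trans h.cl.pss.par.isLoc.le) ⟨fun a ha => ?_, fun a ha b hb => ?_⟩ h3
    · rw [sq, hcjsq a ha]; exact one_mem _
    · rw [hcjc a ha b hb, mul_assoc, mul_assoc, mul_inv_cancel_left, mul_inv_cancel]; exact one_mem _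
  have h6 : cj g⁻¹ N ∈ BO (S : Subgroup G) (o2 P) := ⟨hNS, by rw [h.cl.zc_eq]; exact h5⟩
  have h7 : cj g⁻¹ N ≤ B := by
    rw [h.eqB]
    exact (NO3S.Level.BO.le_nxt h6).trans (le_inf (NO3S.Level.nxt_le _ _) (NO3S.Level.le_centralizer_zc _))
  have h8 := cj_mono g h7
  rwa [cj_cj_inv, cj_eq_of_mem_normalizer hgB] at h8

/-! ### (3) -/

variable (w : WQ S P T Y) (BT : B ≤ T)
include w

theorem Y_r {y : G} (hy : y ∈ Y) : y * (e * z) = e * z * y := by
  have c1 : Commute y e := mem_centralizer_singleton_iff.1 (s.Ye hy)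
  have c2 : Commute y z := mem_centralizer_singleton_iff.1 (s.Yz hy)
  exact (c1.mul_right c2).eq

theorem U_H : cl (zl (S : Subgroup G) P) Y ≤ centralizer ({e} : Set G) := cl_le fun y hy => by
  have h1 := cj_mono y (VH h s)
  rwa [cj_eq_of_mem_normalizer (le_normalizer (s.Ye hy))] at h1

theorem U_low (ml : MLK.{u, u}) : cl (zl (S : Subgroup G) P) Y ≤ o2 (centralizer ({e * z} : Set G)) := cl_le fun y hy => by
  have h1 := cj_mono y (LowFull.low_full h ml (r_ZJ h s) (r_full h s))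
  rwa [cj_eq_of_mem_normalizer (ZN.le_normalizer_o2 _ (mem_centralizer_singleton_iff.2 (Y_r h s w hy)))] at h1

include BT in
/-- `N` is exact on `U` -/
theorem N_ex (ml : MLK.{u, u}) : Ex T (cl (zl (S : Subgroup G) P) Y) (NN (centralizer ({e} : Set G)) (e * z)) := by
  refine Ex.of_rel ((le_B h s ml).trans BT) ⟨fun a ha => ?_, fun a ha b hb => ?_⟩
    (ml_ind h s ml (U_low h s w ml) (U_H h s w) fun a ha => ?_)
  · rw [sq, N_sq h s ha]; exact one_mem _
  · rw [N_comm h s ha hb, mul_assoc, mul_assoc, mul_inv_cancel_left, mul_inv_cancel]; exact one_mem _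
  · have h1 := (mem_zc.1 (w.md_zl.le (QWc.U_le_zl w ha))).2.1
    rwa [sq] at h1

include BT in
/-- **(3)** : `U` centralises `N` -/
theorem cent (ml : MLK.{u, u}) (neg : Neg T Y (cl (zl (S : Subgroup G) P) Y)) :
    cl (zl (S : Subgroup G) P) Y ≤ centralizer (NN (centralizer ({e} : Set G)) (e * z) : Set G) := by
  have hG := h.cl.ctx.char2
  have wc := OM.UniPlus.WC.weakNormal h.bg.wc
  obtain ⟨-, -, -, T₂, hT₂, hc⟩ := exists_T h s
  have hlow := LowFull.low_full h ml (r_ZJ h s) (r_full h s)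
  have hex := N_ex h s w BT ml
  refine cl_le fun y hy => cj_le_iff.2 ?_
  rw [h.fr.V_eq]
  refine iSup_le fun m u hu => ?_
  rw [mem_cj, inv_inv]
  have hyB : cj y⁻¹ (NN (centralizer ({e} : Set G)) (e * z)) ≤ B := by
    have h1 := Ex.le_BB w neg (Ex.cj w neg hex (inv_mem hy))
    have eB : B = BB (S : Subgroup G) P := by
      have eZ : ZJ = WY.ZJ (S : Subgroup G) P := h.eZ
      rw [h.eB, eZ]
    rwa [eB]
  have huU : y * u * y⁻¹ ∈ cl (zl (S : Subgroup G) P) Y := cj_le_cl hy ⟨u, h.fr.WV m hu, rfl⟩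
  have hu2 : u * u = 1 := by
    have := sqV h s (h.fr.WV m hu)
    rwa [sq] at this
  refine Odd.mem_cent (H := centralizer ({e} : Set G)) (C := cj y (Z m)) (z := e * z) norm_NN
    (fun K hK1 hK2 hK3 => red_of (Z₀ := ({e * z} : Set G)) hT₂.1 hT₂.2.1 (syl_not_dvd hT₂)
      (fun x hx _ hz' => by
        rw [Set.mem_singleton_iff.1 hz']
        exact mem_centralizer_singleton_iff.1 (hc hx))
      norm_NN (Set.singleton_subset_iff.2 r_mem) le_rfl K hK1 hK2 hK3)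
    (fun x hx x' hx' => N_comm h s hx hx') (U_H h s w huU) ?_ ?_ r_mem ?_ ?_
  · calc y * u * y⁻¹ * (y * u * y⁻¹) = y * (u * u) * y⁻¹ := by group
      _ = 1 := by rw [hu2]; group
  · intro x hx
    have hb : y⁻¹ * x * y ∈ B := hyB (by
      rw [mem_cj, inv_inv]
      have e1 : y * (y⁻¹ * x * y) * y⁻¹ = x := by group
      rwa [e1])
    have h1 := (h.fr.blk m).com _ hb u hu
    have hx2 : x⁻¹ = x := inv_eq_of_mul_eq_one_left (N_sq h s hx)
    have e1 : x * (y * u * y⁻¹ * x * (y * u * y⁻¹)⁻¹) =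
        y * (y⁻¹ * x * y * u * (y⁻¹ * x * y)⁻¹ * u⁻¹) * y⁻¹ := by
      calc x * (y * u * y⁻¹ * x * (y * u * y⁻¹)⁻¹) = x * (y * u * y⁻¹ * x⁻¹ * (y * u * y⁻¹)⁻¹) := by rw [hx2]
        _ = _ := by group
    rw [e1]
    exact ⟨_, h1, rfl⟩
  · exact mem_centralizer_singleton_iff.1 (ZN.o2_le _ (U_low h s w ml huU))
  · intro c _ hcC _
    refine ⟨o2 (centralizer ({e * z * c} : Set G)), MinSimple.VModule.o2_isPGroup _,
      QWoFr.le_o2_cj h.fr hG h.bg.bau_two wc h.norm_le h.bg.two (r_ZJ h s) (r_full h s) hlow (Y_r h s w hy) m c hcC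
        ⟨u, hu, rfl⟩, fun x hx a ha => ?_⟩
    exact QW.o2_conj_mem (mem_centralizer_singleton_iff.2 hx) ha

include BT in
/-- **(3)** : `U ≤ O₂(H)` -/
theorem U_le_o2_H (ml : MLK.{u, u}) (neg : Neg T Y (cl (zl (S : Subgroup G) P) Y)) :
    cl (zl (S : Subgroup G) P) Y ≤ o2 (centralizer ({e} : Set G)) := by
  have h1 := le_o2_cap h s (U_low h s w ml) (U_H h s w)
  have h2 := cent h s w BT ml neg
  set N : Subgroup G := NN (centralizer ({e} : Set G)) (e * z) with hN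
  have h3 : centralizer ({e} : Set G) ⊓ centralizer (N : Set G) ≤
      centralizer ({e} : Set G) ⊓ centralizer (zpowers (e * z) : Set G) := by
    refine inf_le_inf_left _ (centralizer_le ?_)
    rw [SetLike.coe_subset_coe, zpowers_le]
    exact r_mem
  have h4 : cl (zl (S : Subgroup G) P) Y ≤ o2 (centralizer ({e} : Set G) ⊓ centralizer (N : Set G)) := fun x hx =>
    NOne.Flat.o2_inf_le_o2 h3 ⟨h1 hx, U_H h s w hx, h2 hx⟩
  have h5 : centralizer ({e} : Set G) ≤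
      normalizer ((centralizer ({e} : Set G) ⊓ centralizer (N : Set G) : Subgroup G) : Set G) :=
    NO3b.EZero.le_normalizer_inf_cent norm_NN
  refine h4.trans (ZN.ChoiceSit.le_o2 (ZN.isPGroup_o2 _) ((ZN.o2_le _).trans inf_le_left) (h5.trans ?_))
  exact ZN.normalizer_le_normalizer_o2 _

end sit

/-! ### The socket -/

/-- an element of `D` with support `I` -/
theorem exists_supp {ι : Type*} [Finite ι] {B Q V X ZJ : Subgroup G} {L W Z C A : ι → Subgroup G} {q : ℕ}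
    (h : FrL B Q V X ZJ L W Z C A q) (I : Set ι) {D : Subgroup G} (hD : ∀ l ∈ I, ∃ z ∈ Z l, z ≠ 1 ∧ z ∈ D) :
    ∃ c ∈ D, ∀ i ∈ I, c ∉ C i := by
  classical
  cases nonempty_fintype ι
  set 𝒞 : Set (Finset ι) := {s | (∀ i ∈ s, i ∈ I) ∧ ∃ z ∈ D, ∀ i ∈ s, z ∉ C i} with h𝒞
  have hne : 𝒞.Nonempty := ⟨∅, fun i hi => absurd hi (Finset.notMem_empty i), 1, one_mem _,
    fun i hi => absurd hi (Finset.notMem_empty i)⟩
  obtain ⟨s, ⟨hsI, z, hz, hzs⟩, hmax⟩ := Set.exists_max_image 𝒞 Finset.card (Set.toFinite _) hne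
  refine ⟨z, hz, fun i₀ hi₀I hi₀ => ?_⟩
  obtain ⟨y, hy, hy1, hyD⟩ := hD i₀ hi₀I
  have hyW : y ∈ W i₀ := (h.blk i₀).ZV hy
  have hi₀s : i₀ ∉ s := fun h1 => hzs i₀ h1 hi₀
  have hyC : ∀ i, i ≠ i₀ → y ∈ C i := fun i hi => h.WjC i i₀ hi hyW
  have hy0 : y ∉ C i₀ := QWoFr.not_mem_C h hy hy1
  have hmem : insert i₀ s ∈ 𝒞 := by
    refine ⟨fun i hi => ?_, z * y, mul_mem hz hyD, fun i hi => ?_⟩
    · rcases Finset.mem_insert.1 hi with rfl | hi
      · exact hi₀I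
      · exact hsI i hi
    · rcases Finset.mem_insert.1 hi with rfl | hi
      · rw [mul_mem_cancel_left hi₀]
        exact hy0
      · have h1 : y ∈ C i := hyC i fun e => hi₀s (e ▸ hi)
        rw [mul_mem_cancel_right h1]
        exact hzs i hi
  have h1 := hmax _ hmem
  rw [Finset.card_insert_of_notMem hi₀s] at h1
  omega

/-- **`HFam` from (ML)** -/
theorem hFam (h : MulL S P B ZJ L W Z C A q) (ml : MLK.{u, u}) : HFam h := by
  intro T Y w hB z hz hz1 hzY neg l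
  set D : Subgroup G := closure (others z l) with hD
  have hDJ : D ≤ ZJ := by
    rw [hD, closure_le]
    rintro _ ⟨m, -, rfl⟩
    exact h.fr.Z_le m (hz m)
  have hDC : D ≤ C l := by
    rw [hD, closure_le]
    rintro _ ⟨m, hm, rfl⟩
    exact QWoFr.Z_C h.fr (Ne.symm hm) (hz m)
  have hDY : Y ≤ centralizer (D : Set G) := by
    rw [hD, centralizer_closure]
    intro y hy
    rw [mem_centralizer_iff]
    rintro _ ⟨m, -, rfl⟩
    exact mem_centralizer_iff.1 (hzY m hy) _ rfl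
  obtain ⟨e, he, hef⟩ := exists_supp h.fr {i | i ≠ l} (D := D) fun m hm =>
    ⟨z m, hz m, hz1 m, subset_closure ⟨m, hm, rfl⟩⟩
  have s : Sit S P ZJ Z C Y e (z l) l :=
    { he := hDJ he
      el := hDC he
      ef := hef
      Ye := hDY.trans (centralizer_le (Set.singleton_subset_iff.2 he))
      hz := hz l
      z1 := hz1 l
      Yz := hzY l }
  have h1 := U_le_o2_H h s w hB ml neg
  have h2 : centralizer (others z l) ≤ centralizer ({e} : Set G) := by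
    rw [← centralizer_closure (others z l)]
    exact centralizer_le (Set.singleton_subset_iff.2 he)
  have h3 : cl (zl (S : Subgroup G) P) Y ≤ centralizer (others z l) := by
    rw [← centralizer_closure (others z l)]
    refine cl_le fun y hy => ?_
    have h4 : zl (S : Subgroup G) P ≤ centralizer (closure (others z l) : Set G) := fun v hv =>
      mem_centralizer_iff.2 fun x hx => h.fr.Vc (h.fr.ZJV (hDJ hx)) hv
    have h5 := cj_mono y h4
    rwa [cj_eq_of_mem_normalizer (le_normalizer (hDY hy))] at h5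
  exact fun x hx => NOne.Flat.o2_inf_le_o2 h2 ⟨h1 hx, h3 hx⟩

end Cfsg.Agent.Omega.NO3S.CaseLW.QWHz
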